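import Groth.Agent.Lib.JacCrit.OverField
import Groth.Agent.Lib.Regular.Quotient
import Groth.Agent.Lib.FinCond.Components
import Mathlib.AlgebraicGeometry.Geometrically.Integral
import Mathlib.AlgebraicGeometry.Geometrically.Connected

/-!
# Connected and irreducible schemes over a field
-/

universe u

open CategoryTheory Limits AlgebraicGeometry

namespace Groth.Agent.H2.Rigid.GeomIrred

/-- A connected smooth scheme over a field is integral. -/
theorem isIntegral_of_smooth {K : Type u} [Field K] {X : Scheme.{u}}
    (f : X ⟶ Spec (.of K)) [Smooth f] [ConnectedSpace X] : IsIntegral X := by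
  have : IsLocallyNoetherian X := LocallyOfFiniteType.isLocallyNoetherian f
  refine (Groth.Agent.Lib.FinCond.isIntegral_iff X).2 ⟨inferInstance, fun x => ?_⟩
  have := Groth.Agent.Lib.JacCrit.OverField.isRegularLocalRing_stalk f x
    (by rw [f.smoothLocus_eq_top]; trivial)
  exact Groth.Agent.Lib.Regular.Quotient.isDomain _

/-- Geometrically connected with domains as geometric local rings is geometrically irreducible. -/
theorem geometricallyIrreducible {X S : Scheme.{u}} (f : X ⟶ S) [LocallyOfFiniteType f]
    [GeometricallyConnected f]
    (h : ∀ (K : Type u) [Field K] (y : Spec (.of K) ⟶ S) (x : ↥(pullback f y)),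
      IsDomain ((pullback f y).presheaf.stalk x)) : GeometricallyIrreducible f := by
  refine ⟨fun K _ y P p₁ p₂ hP => ?_⟩
  have : ConnectedSpace ↥(pullback f y) :=
    GeometricallyConnected.geometrically_connectedSpace (f := f) y _ _ (.of_hasPullback f y)
  have : IsLocallyNoetherian (pullback f y) :=
    LocallyOfFiniteType.isLocallyNoetherian (pullback.snd f y)
  have : IsIntegral (pullback f y) :=
    (Groth.Agent.Lib.FinCond.isIntegral_iff _).2 ⟨inferInstance, h K y⟩
  exact (Scheme.homeoOfIso hP.isoPullback.symm).irreducibleSpace_iff.1 inferInstance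

/-- Smooth and geometrically connected is geometrically integral. -/
theorem geometricallyIntegral_of_smooth {X S : Scheme.{u}} (f : X ⟶ S) [Smooth f]
    [GeometricallyConnected f] : GeometricallyIntegral f := by
  refine ⟨fun K _ y P p₁ p₂ hP => ?_⟩
  have : ConnectedSpace P :=
    GeometricallyConnected.geometrically_connectedSpace (f := f) y _ _ hP
  have : Smooth p₂ := MorphismProperty.of_isPullback hP inferInstance
  exact isIntegral_of_smooth p₂

/-- Geometrically irreducible is geometrically connected. -/
theorem geometricallyConnected {X S : Scheme.{u}} (f : X ⟶ S) [GeometricallyIrreducible f] :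
    GeometricallyConnected f :=
  ⟨fun K _ y P p₁ p₂ h => by
    have : IrreducibleSpace P :=
      GeometricallyIrreducible.geometrically_irreducibleSpace (f := f) y p₁ p₂ h
    infer_instance⟩

end Groth.Agent.H2.Rigid.GeomIrred
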