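import Mathlib.AlgebraicGeometry.Morphisms.Flat
import Mathlib.AlgebraicGeometry.Morphisms.Proper
import Mathlib.AlgebraicGeometry.AlgClosed.Basic
import Mathlib.AlgebraicGeometry.Fiber
import Mathlib.AlgebraicGeometry.Geometrically.Integral
import Mathlib.AlgebraicGeometry.Geometrically.Connected
import Mathlib.RingTheory.Flat.FaithfullyFlat.Basic
import Mathlib.FieldTheory.IsAlgClosed.AlgebraicClosure

/-!
# Global functions on a proper scheme over a field

`H0 g` says that every fibre of `g` has only the constants as global functions, in the form stable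
under base change. It holds for proper morphisms with geometrically connected, geometrically
reduced fibres.
-/

universe u

open CategoryTheory Limits AlgebraicGeometry TopologicalSpace

namespace Groth.Agent.H2.Rigid

/-- In a reduced ring every element integral over a field generates an idempotent ideal. -/
theorem exists_idempotent_of_isIntegral {K A : Type u} [Field K] [CommRing A] [Algebra K A]
    [_root_.IsReduced A] (b : A) (hb : IsIntegral K b) :
    ∃ r : A, b * r * (b * r) = b * r ∧ b * (b * r) = b := by
  obtain ⟨q, hq, hq0⟩ := Polynomial.exists_eq_pow_rootMultiplicity_mul_and_not_dvd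
    (minpoly K b) (minpoly.ne_zero hb) 0
  rw [map_zero, sub_zero] at hq0 hq
  have hc : q.coeff 0 ≠ 0 := fun h => hq0 (Polynomial.X_dvd_iff.2 h)
  have h0 := minpoly.aeval K b
  rw [hq, map_mul, map_pow, Polynomial.aeval_X] at h0
  set m := (minpoly K b).rootMultiplicity 0
  have hbq : b * Polynomial.aeval b q = 0 := by
    refine IsNilpotent.eq_zero ⟨m + 1, ?_⟩
    calc (b * Polynomial.aeval b q) ^ (m + 1)
        = b ^ m * Polynomial.aeval b q * (b * Polynomial.aeval b q ^ m) := by ring
      _ = 0 := by rw [h0, zero_mul]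
  have hr : Polynomial.aeval b q = algebraMap K A (q.coeff 0) + b * Polynomial.aeval b q.divX := by
    conv_lhs => rw [← Polynomial.X_mul_divX_add q]
    rw [map_add, map_mul, Polynomial.aeval_X, Polynomial.aeval_C, add_comm]
  have h1 : algebraMap K A (q.coeff 0)⁻¹ * algebraMap K A (q.coeff 0) = 1 := by
    rw [← map_mul, inv_mul_cancel₀ hc, map_one]
  have hbe : b * (b * -(algebraMap K A (q.coeff 0)⁻¹ * Polynomial.aeval b q.divX)) = b := by
    linear_combination (-(algebraMap K A (q.coeff 0)⁻¹)) * hbq +
      (algebraMap K A (q.coeff 0)⁻¹ * b) * hr + b * h1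
  refine ⟨_, ?_, hbe⟩
  linear_combination (-(algebraMap K A (q.coeff 0)⁻¹ * Polynomial.aeval b q.divX)) * hbe

theorem idempotent_eq_zero_or_one {X : Scheme.{u}} [ConnectedSpace X] (e : Γ(X, ⊤))
    (hee : e * e = e) : e = 0 ∨ e = 1 := by
  have h0 : ∀ x : Γ(X, ⊤), x * x = x → X.basicOpen x = ⊥ → x = 0 := by
    intro x hxx hx
    have hu : IsUnit (1 - x) := RingedSpace.isUnit_of_isUnit_germ X.toRingedSpace (U := ⊤) (1 - x) fun z hz => by
      have : z ∈ X.basicOpen x ⊔ X.basicOpen (1 - x) := by
        refine X.basicOpen_add_le x (1 - x) ?_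
        rw [add_sub_cancel, X.basicOpen_of_isUnit isUnit_one]
        trivial
      rw [hx, bot_sup_eq] at this
      exact (RingedSpace.mem_basicOpen _ (1 - x) z hz).1 this
    exact hu.mul_right_eq_zero.1 (show (1 - x) * x = 0 by rw [sub_mul, one_mul, hxx, sub_self])
  have hsup : X.basicOpen e ⊔ X.basicOpen (1 - e) = ⊤ := by
    rw [eq_top_iff]
    refine le_trans ?_ (X.basicOpen_add_le e (1 - e))
    rw [add_sub_cancel, X.basicOpen_of_isUnit isUnit_one]
  have hinf : X.basicOpen e ⊓ X.basicOpen (1 - e) = ⊥ := by
    rw [← X.basicOpen_mul, mul_sub, mul_one, hee, sub_self, X.basicOpen_zero]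
  have hcompl : (X.basicOpen e : Set X)ᶜ = X.basicOpen (1 - e) := by
    apply Set.Subset.antisymm
    · intro x hx
      have : x ∈ X.basicOpen e ⊔ X.basicOpen (1 - e) := by rw [hsup]; trivial
      exact this.resolve_left hx
    · intro x hx hxe
      have : x ∈ X.basicOpen e ⊓ X.basicOpen (1 - e) := ⟨hxe, hx⟩
      rw [hinf] at this
      exact this
  have hcl : IsClopen (X.basicOpen e : Set X) :=
    ⟨⟨by rw [hcompl]; exact (X.basicOpen (1 - e)).isOpen⟩, (X.basicOpen e).isOpen⟩
  rcases isClopen_iff.1 hcl with h | h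
  · exact Or.inl (h0 e hee (Opens.ext h))
  · refine Or.inr (sub_eq_zero.1 (h0 (1 - e) ?_ ?_)).symm
    · linear_combination hee
    · exact Opens.ext (by rw [← hcompl, h]; simp)

/-- A reduced connected scheme, universally closed over a field and with a rational point, has only
constant global functions. -/
theorem appTop_surjective_of_section {k : Type u} [Field k] {X : Scheme.{u}}
    (f : X ⟶ Spec (.of k)) [UniversallyClosed f] [IsReduced X] [ConnectedSpace X]
    (s : Spec (.of k) ⟶ X) (hs : s ≫ f = 𝟙 _) : Function.Surjective f.appTop.hom := by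
  intro a
  refine ⟨s.appTop.hom a, ?_⟩
  set b := a - f.appTop.hom (s.appTop.hom a) with hb
  suffices h : b = 0 from (sub_eq_zero.1 h).symm
  have hsb : s.appTop.hom b = 0 := by
    have e : f.appTop ≫ s.appTop = 𝟙 _ := by rw [← Scheme.Hom.comp_appTop, hs]; simp
    have := congr($(e).hom (s.appTop.hom a))
    simp only [CommRingCat.comp_apply, CommRingCat.id_apply] at this
    rw [hb, map_sub, this, sub_self]
  let := ((Scheme.ΓSpecIso (.of k)).commRingCatIsoToRingEquiv.toMulEquiv.isField
    (Field.toIsField k)).toField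
  letI : Algebra Γ(Spec (CommRingCat.of k), ⊤) Γ(X, ⊤) := f.appTop.hom.toAlgebra
  obtain ⟨r, hee, hbe⟩ := exists_idempotent_of_isIntegral (K := Γ(Spec (CommRingCat.of k), ⊤)) b
    (isIntegral_appTop_of_universallyClosed f b)
  rcases idempotent_eq_zero_or_one (b * r) hee with h | h
  · rw [h, mul_zero] at hbe; exact hbe.symm
  · have := congrArg s.appTop.hom h
    rw [map_mul, hsb, zero_mul, map_one] at this
    exact absurd this zero_ne_one

section BaseChange

variable {k L : Type u} [Field k] [Field L] [Algebra k L] {X : Scheme.{u}}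
  (f : X ⟶ Spec (.of k)) [QuasiCompact f] [QuasiSeparated f]

theorem isPushout_baseChange {P : Scheme.{u}} {p₁ : P ⟶ X} {p₂ : P ⟶ Spec (.of L)}
    (h : IsPullback p₁ p₂ f (Spec.map (CommRingCat.ofHom (algebraMap k L)))) :
    IsPushout f.appTop (Spec.map (CommRingCat.ofHom (algebraMap k L))).appTop p₁.appTop
      p₂.appTop := by
  have : Flat (Spec.map (CommRingCat.ofHom (algebraMap k L))) :=
    (HasRingHomProperty.Spec_iff (P := @Flat)).2
      (RingHom.flat_algebraMap_iff.2 (inferInstance : Module.Flat k L))
  have hc : CompactSpace X := (quasiCompact_iff_compactSpace f).mp inferInstance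
  have hq : QuasiSeparatedSpace X := by
    have : QuasiSeparatedSpace (Spec (CommRingCat.of k)) := inferInstance
    exact quasiSeparatedSpace_of_quasiSeparated f
  have := isIso_pushoutSection_of_isQuasiSeparated_of_flat_right h
    (US := ⊤) (UT := ⊤) (UX := ⊤) (UY := ⊤) le_top le_top (by simp)
    (isAffineOpen_top _) (isAffineOpen_top _) (by simpa using hc.isCompact_univ)
    (by simpa using isQuasiSeparated_univ_iff.2 hq)
  exact cast (by simp [Scheme.Hom.appTop, Scheme.Hom.app_eq_appLE]) ((isIso_pushoutSection_iff _ _ _ _).1 this)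

theorem surjective_baseChange {P : Scheme.{u}} {p₁ : P ⟶ X} {p₂ : P ⟶ Spec (.of L)}
    (h : IsPullback p₁ p₂ f (Spec.map (CommRingCat.ofHom (algebraMap k L))))
    (hf : Function.Surjective f.appTop.hom) : Function.Surjective p₂.appTop.hom := by
  have H := isPushout_baseChange f h
  have hs : IsIso (CommRingCat.ofHom (f.appTop.hom : _ →+* Γ(X, ⊤))) ∨ Subsingleton Γ(P, ⊤) := by
    rcases subsingleton_or_nontrivial Γ(X, ⊤) with hX | hX
    · right
      have : (1 : Γ(P, ⊤)) = 0 := by
        rw [← map_one p₁.appTop.hom, Subsingleton.elim (1 : Γ(X, ⊤)) 0, map_zero]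
      exact subsingleton_of_zero_eq_one this.symm
    · left
      let := ((Scheme.ΓSpecIso (.of k)).commRingCatIsoToRingEquiv.toMulEquiv.isField
        (Field.toIsField k)).toField
      exact (ConcreteCategory.isIso_iff_bijective _).2 ⟨RingHom.injective _, hf⟩
  rcases hs with hi | hP
  · have : IsIso f.appTop := by exact hi
    have : IsIso p₂.appTop := H.isIso_inr_of_isIso
    exact (ConcreteCategory.bijective_of_isIso p₂.appTop).2
  · exact fun x => ⟨0, Subsingleton.elim _ _⟩

theorem surjective_of_baseChange {P : Scheme.{u}} {p₁ : P ⟶ X} {p₂ : P ⟶ Spec (.of L)}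
    (h : IsPullback p₁ p₂ f (Spec.map (CommRingCat.ofHom (algebraMap k L))))
    (hf : Function.Surjective p₂.appTop.hom) : Function.Surjective f.appTop.hom := by
  have H := (isPushout_baseChange f h).flip
  let K := Γ(Spec (CommRingCat.of k), ⊤)
  let LL := Γ(Spec (CommRingCat.of L), ⊤)
  let := ((Scheme.ΓSpecIso (.of k)).commRingCatIsoToRingEquiv.toMulEquiv.isField
    (Field.toIsField k)).toField
  let := ((Scheme.ΓSpecIso (.of L)).commRingCatIsoToRingEquiv.toMulEquiv.isField
    (Field.toIsField L)).toField
  algebraize [f.appTop.hom, (Spec.map (CommRingCat.ofHom (algebraMap k L))).appTop.hom]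
  let e := (CommRingCat.isPushout_tensorProduct K LL Γ(X, ⊤))
  let i := e.isoIsPushout _ _ H
  have hi : Function.Surjective
      (Algebra.TensorProduct.includeLeftRingHom : LL →+* TensorProduct K LL Γ(X, ⊤)) := by
    intro x
    obtain ⟨y, hy⟩ := hf (i.hom.hom x)
    refine ⟨y, i.commRingCatIsoToRingEquiv.injective ?_⟩
    have := congr($(e.inl_isoIsPushout_hom _ _ H).hom y)
    exact this.trans hy
  have : Function.Surjective ((Algebra.linearMap K Γ(X, ⊤)).lTensor LL) := by
    intro x
    obtain ⟨y, rfl⟩ := hi x
    exact ⟨y ⊗ₜ[K] 1, by simp⟩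
  exact (Module.FaithfullyFlat.lTensor_surjective_iff_surjective K LL _).1 this

end BaseChange

/-- Every fibre of `g` has only constant global functions. -/
def H0 {X T : Scheme.{u}} (g : X ⟶ T) : Prop :=
  ∀ t : T, Function.Surjective (g.fiberToSpecResidueField t).appTop.hom

theorem H0.isPullback {X T P : Scheme.{u}} {g : X ⟶ T} [QuasiCompact g] [QuasiSeparated g] (hg : H0 g)
    {L : Type u} [Field L] {pt : Spec (.of L) ⟶ T} {p₁ : P ⟶ X} {p₂ : P ⟶ Spec (.of L)}
    (h : IsPullback p₁ p₂ g pt) : Function.Surjective p₂.appTop.hom := by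
  obtain ⟨⟨t, φ⟩, rfl⟩ := (Scheme.SpecToEquivOfField L T).symm.surjective pt
  letI : Algebra (T.residueField t) L := φ.hom.toAlgebra
  have : QuasiCompact (g.fiberToSpecResidueField t) :=
    inferInstanceAs (QuasiCompact (pullback.snd g (T.fromSpecResidueField t)))
  have : QuasiSeparated (g.fiberToSpecResidueField t) :=
    inferInstanceAs (QuasiSeparated (pullback.snd g (T.fromSpecResidueField t)))
  change IsPullback p₁ p₂ g (Spec.map φ ≫ T.fromSpecResidueField t) at h
  have sq := IsPullback.of_hasPullback g (T.fromSpecResidueField t)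
  have hw : p₁ ≫ g = (p₂ ≫ Spec.map φ) ≫ T.fromSpecResidueField t := by
    rw [Category.assoc]; exact h.w
  have hl : IsPullback (sq.lift p₁ (p₂ ≫ Spec.map φ) hw) p₂ (g.fiberToSpecResidueField t)
      (Spec.map φ) :=
    IsPullback.of_right (by rw [sq.lift_fst]; exact h) (sq.lift_snd _ _ _) sq
  exact @surjective_baseChange (T.residueField t) L _ _ φ.hom.toAlgebra _ (g.fiberToSpecResidueField t) _ _ _ _ _ hl (hg t)

theorem H0.pullback_snd {X T T' : Scheme.{u}} (g : X ⟶ T) [QuasiCompact g] [QuasiSeparated g]
    (hg : H0 g) (h : T' ⟶ T) : H0 (pullback.snd g h) := fun t' =>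
  hg.isPullback ((IsPullback.of_hasPullback (pullback.snd g h) (T'.fromSpecResidueField t')).paste_horiz
    (IsPullback.of_hasPullback g h))

theorem H0.of_geometrically {X T : Scheme.{u}} (g : X ⟶ T) [UniversallyClosed g] [IsSeparated g]
    [LocallyOfFiniteType g] [GeometricallyConnected g] [GeometricallyReduced g] : H0 g := by
  intro t
  let L := AlgebraicClosure (T.residueField t)
  let b := Spec.map (CommRingCat.ofHom (algebraMap (T.residueField t) L))
  have : UniversallyClosed (g.fiberToSpecResidueField t) :=
    inferInstanceAs (UniversallyClosed (pullback.snd g (T.fromSpecResidueField t)))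
  have : LocallyOfFiniteType (g.fiberToSpecResidueField t) :=
    inferInstanceAs (LocallyOfFiniteType (pullback.snd g (T.fromSpecResidueField t)))
  have : IsSeparated (g.fiberToSpecResidueField t) :=
    inferInstanceAs (IsSeparated (pullback.snd g (T.fromSpecResidueField t)))
  let P := pullback (g.fiberToSpecResidueField t) b
  let p₂ : P ⟶ Spec (.of L) := pullback.snd _ b
  have : UniversallyClosed p₂ := inferInstanceAs (UniversallyClosed (pullback.snd _ b))
  have : LocallyOfFiniteType p₂ := inferInstanceAs (LocallyOfFiniteType (pullback.snd _ b))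
  have : IsReduced P :=
    GeometricallyReduced.geometrically_isReduced (f := g.fiberToSpecResidueField t) b _ _
      (.of_hasPullback _ _)
  have : ConnectedSpace P :=
    GeometricallyConnected.geometrically_connectedSpace (f := g.fiberToSpecResidueField t) b _ _
      (.of_hasPullback _ _)
  have : JacobsonSpace P := LocallyOfFiniteType.jacobsonSpace p₂
  obtain ⟨x, -, hx⟩ :=
    nonempty_inter_closedPoints (Z := (Set.univ : Set P)) Set.univ_nonempty isClosed_univ.isLocallyClosed
  have h2 := appTop_surjective_of_section p₂ (pointOfClosedPoint p₂ x hx)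
    (pointOfClosedPoint_comp p₂ x hx)
  exact surjective_of_baseChange (k := T.residueField t) (L := L) (g.fiberToSpecResidueField t) (.of_hasPullback _ _) h2

end Groth.Agent.H2.Rigid
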