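import Groth.Agent.H52.FBase.GeomPt
import Groth.Agent.H52.FBase.GeomRedSch
import Groth.Agent.Lib.GeomConn.Residue
import Groth.Agent.Lib.GrpQ.SmoothPt
import Groth.Prelude.Def_Curv2
import Mathlib.FieldTheory.IsAlgClosed.AlgebraicClosure

/-! Geometric reducedness at a point, in terms of the local ring. -/

universe u

open CategoryTheory CategoryTheory.Limits AlgebraicGeometry TensorProduct
open Groth.Agent.H52.FBase
attribute [local instance] Curv2.stalkAlgebra

namespace Groth.Agent.H2.Rigid.GeomRedAt

variable (k : Type u) [Field k] (X : Scheme.{u}) [X.Over (Spec (CommRingCat.of k))]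

theorem stalkMap_eq (x : X) :
    Curv2.stalkMap k X x = StalkBC.φ (X ↘ Spec (CommRingCat.of k)) x := by
  refine congrArg CommRingCat.Hom.hom (Spec.map_injective
    (a₁ := CommRingCat.ofHom (Curv2.stalkMap k X x))
    (a₂ := CommRingCat.ofHom (StalkBC.φ (X ↘ Spec (CommRingCat.of k)) x)) ?_)
  exact (Groth.Agent.Lib.GeomConn.Residue.specMap_stalkMap k X x).trans
    (StalkBC.specMap_φ _ x).symm

theorem isGeometricallyReduced_Ox_iff (x : X) :
    Algebra.IsGeometricallyReduced k (StalkBC.Ox (X ↘ Spec (CommRingCat.of k)) x) ↔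
      Algebra.IsGeometricallyReduced k (X.presheaf.stalk x) := by
  have h : (inferInstance : Algebra k (StalkBC.Ox (X ↘ Spec (CommRingCat.of k)) x)) =
      Curv2.stalkAlgebra k X x := by
    refine Algebra.algebra_ext _ _ fun c => ?_
    exact (congr($(stalkMap_eq k X x) c)).symm
  exact iff_of_eq (congrArg (fun i : Algebra k (X.presheaf.stalk x) =>
    @Algebra.IsGeometricallyReduced k (X.presheaf.stalk x) _ _ i) h)

/-- Geometrically reduced at `x` iff the local ring at `x` is geometrically reduced. -/
theorem iff_stalk (x : X) :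
    Curv2.IsGeomReducedAt k X x ↔ Algebra.IsGeometricallyReduced k (X.presheaf.stalk x) :=
  Iff.trans (GeomPt.isGeomReducedAt_iff (f := X ↘ Spec (CommRingCat.of k)) (x := x))
    (isGeometricallyReduced_Ox_iff k X x)

/-- Geometric reducedness at a point passes to generisations. -/
theorem of_specializes {x x' : X} (h : x' ⤳ x) (hx : Curv2.IsGeomReducedAt k X x) :
    Curv2.IsGeomReducedAt k X x' := by
  have := GeomPt.isGeometricallyReduced_of_isGeomReducedAt (f := X ↘ Spec (CommRingCat.of k)) hx
  intro K _ _ y hy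
  obtain ⟨q, rfl⟩ := StalkBC.exists_j_eq (X ↘ Spec (CommRingCat.of k)) x K y
    ((specializes_of_eq hy).trans h)
  have := GeomRed.isReduced_tensor_field (k := k) (A := StalkBC.Ox (X ↘ Spec (CommRingCat.of k)) x) K
  exact isReduced_of_injective (StalkBC.stalkEquiv (X ↘ Spec (CommRingCat.of k)) x K q)
    (RingEquiv.injective _)

/-- Geometrically reduced means geometrically reduced at every point. -/
theorem geometricallyReduced_iff :
    GeometricallyReduced (X ↘ Spec (CommRingCat.of k)) ↔ ∀ x, Curv2.IsGeomReducedAt k X x := by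
  constructor
  · intro h x K _ _ y _
    have : IsReduced (Curv2.bc k X K) :=
      GeometricallyReduced.geometrically_isReduced _ _ _ (IsPullback.of_hasPullback _ _)
    infer_instance
  · intro h
    refine ⟨?_⟩
    rw [geometrically_iff_of_isClosedUnderIsomorphisms]
    intro K _ σ
    obtain ⟨φ, rfl⟩ := Spec.map_surjective σ
    let _ : Algebra k K := φ.hom.toAlgebra
    have : ∀ y, _root_.IsReduced ((Curv2.bc k X K).presheaf.stalk y) := fun y => h _ K y rfl
    exact isReduced_of_isReduced_stalk (Curv2.bc k X K)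

/-- Reducedness of a product at points over a geometrically reduced point. -/
theorem isReduced_stalk_pullback {Y : Scheme.{u}} (g : Y ⟶ Spec (CommRingCat.of k)) [IsReduced Y]
    {x : X} (hx : Curv2.IsGeomReducedAt k X x)
    (z : ↥(pullback (X ↘ Spec (CommRingCat.of k)) g))
    (hz : pullback.fst (X ↘ Spec (CommRingCat.of k)) g z = x) :
    _root_.IsReduced ((pullback (X ↘ Spec (CommRingCat.of k)) g).presheaf.stalk z) := by
  let f := X ↘ Spec (CommRingCat.of k)
  let O := StalkBC.Ox f x
  have := GeomPt.isGeometricallyReduced_of_isGeomReducedAt (f := f) hx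
  have hg : GeometricallyReduced (StalkBC.fromOx f x ≫ f) := by
    rw [← StalkBC.specMap_alg]; exact GeomRedSch.geometricallyReduced_specMap k O
  have hP : IsReduced (pullback (StalkBC.fromOx f x ≫ f) g) :=
    ReducedProd.isReduced_pullback _ g
  have : IsReduced (pullback (StalkBC.fromOx f x) (pullback.fst f g)) :=
    isReduced_of_isOpenImmersion (pullbackRightPullbackFstIso f g (StalkBC.fromOx f x)).hom
  let J : pullback (StalkBC.fromOx f x) (pullback.fst f g) ⟶ pullback f g := pullback.snd _ _
  obtain ⟨w, -, hw⟩ := Scheme.Pullback.exists_preimage_pullback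
    (IsLocalRing.closedPoint O) z (f := StalkBC.fromOx f x) (g := pullback.fst f g)
    ((StalkBC.fromOx_closedPoint f x).trans hz.symm)
  have hw' : J w = z := hw
  subst hw'
  have : Flat J := inferInstanceAs (Flat (pullback.snd _ _))
  have : IsPreimmersion J := inferInstanceAs (IsPreimmersion (pullback.snd _ _))
  exact isReduced_of_injective (J.stalkMap w).hom (StalkBC.bijective_stalkMap J w).1

instance (A : CommRingCat.{u}) (q : Spec A) : (PrimeSpectrum.asIdeal (R := A) q).IsPrime := q.isPrime

theorem specMap_stalkMap_stalkIso {X : Scheme.{u}} (A : CommRingCat.{u}) (j : Spec A ⟶ X)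
    (q : Spec A) :
    Spec.map (j.stalkMap q ≫ (Spec.stalkIso A q).hom) ≫ X.fromSpecStalk (j q) =
      Spec.map (CommRingCat.ofHom (algebraMap A (Localization.AtPrime (PrimeSpectrum.asIdeal (R := A) q)))) ≫ j := by
  rw [Spec.map_comp, Category.assoc, Scheme.SpecMap_stalkMap_fromSpecStalk, ← Category.assoc]
  congr 1
  rw [Spec.fromSpecStalk_eq, ← Spec.map_comp]
  refine congrArg Spec.map ?_
  exact (congrArg (· ≫ (Spec.stalkIso A q).hom) (Spec.algebraMap_stalkIso_inv (R := A) q).symm).trans
    ((Category.assoc _ _ _).trans ((congrArg (_ ≫ ·) (Iso.inv_hom_id _)).trans (Category.comp_id _)))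

/-- On a reduced scheme it suffices to check at the generic points. -/
theorem of_generic [IsReduced X]
    (h : ∀ Z ∈ irreducibleComponents (X : Type u), ∀ η : X, IsGenericPoint η Z →
      Curv2.IsGeomReducedAt k X η) (x : X) : Curv2.IsGeomReducedAt k X x := by
  classical
  refine GeomPt.isGeomReducedAt_of_isGeometricallyReduced
    (f := X ↘ Spec (CommRingCat.of k)) ?_
  rw [Algebra.isGeometricallyReduced_field_iff]
  let f := X ↘ Spec (CommRingCat.of k)
  let A := StalkBC.Ox f x
  let k' := AlgebraicClosure k
  let e := Module.Free.chooseBasis k k'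
  have : _root_.IsReduced A := inferInstanceAs (_root_.IsReduced (X.presheaf.stalk x))
  constructor
  intro z hz
  apply (TensorProduct.equivFinsuppOfBasisLeft e (N := A)).injective
  rw [map_zero]
  ext i
  refine IsReduced.eq_zero _ ?_
  rw [← mem_nilradical, nilradical_eq_sInf, Ideal.mem_sInf]
  intro p (hp : p.IsPrime)
  obtain ⟨p', hp', hle⟩ := Ideal.exists_minimalPrimes_le (I := (⊥ : Ideal A)) (J := p) bot_le
  refine hle ?_
  have hpp : p'.IsPrime := hp'.1.1
  let η := StalkBC.fromOx f x (⟨p', hpp⟩ : PrimeSpectrum A)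
  have hη : ∀ y : X, y ⤳ η → y = η := by
    intro y hy
    have hyx : y ⤳ x := hy.trans (by
      have hm : η ∈ Set.range (StalkBC.fromOx f x) := ⟨_, rfl⟩
      rwa [StalkBC.range_fromOx] at hm)
    obtain ⟨r, rfl⟩ : y ∈ Set.range (StalkBC.fromOx f x) := by
      rw [StalkBC.range_fromOx]; exact hyx
    have hr : r ⤳ (⟨p', hpp⟩ : PrimeSpectrum A) :=
      (StalkBC.fromOx f x).isEmbedding.specializes_iff.1 hy
    congr 1
    refine PrimeSpectrum.ext (le_antisymm ?_ (hp'.2 ⟨r.2, bot_le⟩ ?_))
    · exact (PrimeSpectrum.le_iff_specializes r _).2 hr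
    · exact (PrimeSpectrum.le_iff_specializes r _).2 hr
  obtain ⟨Z, hZ, hηZ⟩ := exists_mem_irreducibleComponents_subset_of_isIrreducible
    (s := ({η} : Set X)) isIrreducible_singleton
  obtain ⟨ξ, hξ⟩ := QuasiSober.sober hZ.1 (isClosed_of_mem_irreducibleComponents Z hZ)
  have hgr := h Z hZ η ((hη ξ (hξ.specializes (hηZ rfl))) ▸ hξ)
  -- pull back to the localization at `p'`
  let T := Localization.AtPrime p'
  let j : Spec (CommRingCat.of A) ⟶ X := StalkBC.fromOx f x
  have : Algebra.IsGeometricallyReduced k T := by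
    let q : ↥(Spec (CommRingCat.of A)) := (⟨p', hpp⟩ : PrimeSpectrum A)
    have hη' := GeomPt.isGeometricallyReduced_of_isGeomReducedAt (f := f) (x := j q) hgr
    let E : StalkBC.Ox f (j q) ≃+* T :=
      (RingEquiv.ofBijective (j.stalkMap q).hom (StalkBC.bijective_stalkMap j q)).trans
        (Spec.stalkIso _ q).commRingCatIsoToRingEquiv
    refine @Algebra.IsGeometricallyReduced.of_injective k T _ _ _ (StalkBC.Ox f (j q)) _ _
      { toRingHom := E.symm.toRingHom, commutes' := ?_ } E.symm.injective hη'
    intro c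
    apply E.injective
    refine (E.apply_symm_apply _).trans ?_
    have key : (CommRingCat.ofHom (StalkBC.φ f (j q))) ≫ CommRingCat.ofHom E.toRingHom =
        CommRingCat.ofHom (algebraMap k T) := by
      apply Spec.map_injective
      rw [Spec.map_comp]
      have h1 : Spec.map (CommRingCat.ofHom E.toRingHom) ≫ X.fromSpecStalk (j q) =
          Spec.map (CommRingCat.ofHom (algebraMap A T)) ≫ j :=
        specMap_stalkMap_stalkIso (CommRingCat.of A) j q
      refine (congrArg (Spec.map (CommRingCat.ofHom E.toRingHom) ≫ ·)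
        (StalkBC.specMap_φ f (j q))).trans (((Category.assoc _ _ _).symm.trans
        (congrArg (· ≫ f) h1)).trans ((Category.assoc _ _ _).trans ?_))
      refine (congrArg (Spec.map (CommRingCat.ofHom (algebraMap A T)) ≫ ·)
        (StalkBC.specMap_alg f x).symm).trans ?_
      exact (Spec.map_comp _ _).symm.trans (congrArg Spec.map
        (congrArg CommRingCat.ofHom (IsScalarTower.algebraMap_eq k A T).symm))
    exact (congr($(key).hom c)).symm
  have hT : _root_.IsReduced (k' ⊗[k] T) := (Algebra.isGeometricallyReduced_field_iff k T).mp this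
  have h0 : Algebra.TensorProduct.map (AlgHom.id k k') (IsScalarTower.toAlgHom k A T) z = 0 :=
    (hz.map _).eq_zero
  have key : ∀ y : k' ⊗[k] A, algebraMap A T (TensorProduct.equivFinsuppOfBasisLeft e y i) =
      TensorProduct.equivFinsuppOfBasisLeft e
        (Algebra.TensorProduct.map (AlgHom.id k k') (IsScalarTower.toAlgHom k A T) y) i := by
    intro y
    induction y using TensorProduct.induction_on with
    | zero => simp
    | tmul a b => simp [Algebra.smul_def, ← IsScalarTower.algebraMap_apply]
    | add a b ha hb => simp [ha, hb]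
  have h1 := key z
  rw [h0, map_zero, Finsupp.zero_apply] at h1
  obtain ⟨⟨c, hc⟩, hcm⟩ := (IsLocalization.map_eq_zero_iff p'.primeCompl T _).1 h1
  exact (hpp.mem_or_mem (show c * _ ∈ p' from hcm ▸ p'.zero_mem)).resolve_left hc

end Groth.Agent.H2.Rigid.GeomRedAt
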