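import Groth.Agent.H2.Rigid.GeomIrred
import Mathlib.AlgebraicGeometry.Morphisms.SchemeTheoreticallyDominant

/-!
# Geometric integrality descends along scheme-theoretically dominant morphisms
-/

universe u

open CategoryTheory Limits AlgebraicGeometry

namespace Groth.Agent.H2.Rigid.SchDom

/-- Over a field, a target of a scheme-theoretically dominant map from a geometrically integral
scheme is geometrically integral. -/
theorem geometricallyIntegral {k : Type u} [Field k] {X Y : Scheme.{u}} (g : Y ⟶ Spec (.of k))
    (f : X ⟶ Y) [IsSchemeTheoreticallyDominant f] [QuasiCompact f]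
    [GeometricallyIntegral (f ≫ g)] : GeometricallyIntegral g := by
  refine ⟨fun K _ y P p₁ p₂ h => ?_⟩
  have : Flat y := by
    obtain ⟨φ, rfl⟩ := Spec.map_surjective y
    letI : Algebra k K := φ.hom.toAlgebra
    exact (HasRingHomProperty.Spec_iff (P := @Flat)).2
      (RingHom.flat_algebraMap_iff.2 (inferInstance : Module.Flat k K))
  have : Flat p₁ := MorphismProperty.of_isPullback h.flip inferInstance
  have sq := IsPullback.of_hasPullback f p₁
  have hQ : IsIntegral (pullback f p₁) :=
    GeometricallyIntegral.geometrically_isIntegral (f := f ≫ g) y _ _ (sq.paste_vert h)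
  let j : pullback f p₁ ⟶ P := pullback.snd f p₁
  have : IsSchemeTheoreticallyDominant j := inferInstanceAs
    (IsSchemeTheoreticallyDominant (pullback.snd f p₁))
  have : QuasiCompact j := inferInstanceAs (QuasiCompact (pullback.snd f p₁))
  have : IsDominant j := inferInstance
  have : IsReduced P := IsSchemeTheoreticallyDominant.isReduced j
  have hi : IsIrreducible (Set.univ : Set P) := by
    have := (IrreducibleSpace.isIrreducible_univ ↥(pullback f p₁)).image j
      j.continuous.continuousOn
    rw [Set.image_univ] at this
    exact j.denseRange.closure_eq ▸ this.closure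
  have : IrreducibleSpace P :=
    { toPreirreducibleSpace := ⟨hi.2⟩, toNonempty := ⟨hi.1.some⟩ }
  exact isIntegral_of_irreducibleSpace_of_isReduced P

end Groth.Agent.H2.Rigid.SchDom
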