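import Groth.Agent.H2.Rigid.GeomRedAt
import Groth.Agent.Lib.JacCrit.OverField
import Groth.Agent.Lib.PBasis.FieldSmooth
import Groth.Agent.Lib.ActSep.MaxPt
import Groth.Agent.Lib.GrpSch.SmoothReduced
import Mathlib.AlgebraicGeometry.Morphisms.SchemeTheoreticallyDominant

/-! Geometric reducedness and the smooth locus over a field. -/

universe u

open CategoryTheory CategoryTheory.Limits AlgebraicGeometry
attribute [local instance] Curv2.stalkAlgebra

namespace Groth.Agent.H2.Rigid.SmoothDense

variable (k : Type u) [Field k] (X : Scheme.{u}) [X.Over (Spec (CommRingCat.of k))]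

/-- `X` is smooth where the local ring is a field that is geometrically reduced. -/
theorem mem_smoothLocus [LocallyOfFinitePresentation (X ↘ Spec (CommRingCat.of k))] (x : X)
    (hF : IsField (X.presheaf.stalk x))
    [Algebra.IsGeometricallyReduced k (X.presheaf.stalk x)] :
    x ∈ (X ↘ Spec (CommRingCat.of k)).smoothLocus := by
  let f := X ↘ Spec (CommRingCat.of k)
  have h : Algebra.FormallySmooth k (X.presheaf.stalk x) :=
    letI := hF.toField
    Groth.Agent.Lib.PBasis.FieldSmooth.formallySmooth_iff_isGeometricallyReduced.2 ‹_›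
  rw [Scheme.Hom.mem_smoothLocus]
  let ψ : k →+* (Spec (CommRingCat.of k)).presheaf.stalk (f x) :=
    ((Scheme.ΓSpecIso (CommRingCat.of k)).inv ≫
      (Spec (CommRingCat.of k)).presheaf.germ ⊤ (f x) trivial).hom
  have e : (f.stalkMap x).hom.comp ψ = Curv2.stalkMap k X x := by
    ext c
    exact f.germ_stalkMap_apply ⊤ x trivial _
  have hψ : Function.Bijective ψ := by
    refine ⟨RingHom.injective _, fun b => ?_⟩
    letI := (Spec (CommRingCat.of k)).presheaf.algebra_section_stalk (U := ⊤) ⟨f x, trivial⟩
    haveI := (isAffineOpen_top (Spec (CommRingCat.of k))).isLocalization_stalk ⟨f x, trivial⟩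
    obtain ⟨a, ha⟩ := (IsField.localization_map_bijective
      (M := ((isAffineOpen_top (Spec (CommRingCat.of k))).primeIdealOf ⟨f x, trivial⟩).asIdeal.primeCompl)
      (Rₘ := (Spec (CommRingCat.of k)).presheaf.stalk (f x))
      (fun h => h (Ideal.zero_mem _)) (Groth.Agent.Lib.JacCrit.OverField.isField_top (K := k))).2 b
    obtain ⟨c, rfl⟩ :=
      (Scheme.ΓSpecIso (CommRingCat.of k)).commRingCatIsoToRingEquiv.symm.surjective a
    exact ⟨c, ha⟩
  let E := RingEquiv.ofBijective ψ hψ
  have e' : (f.stalkMap x).hom = (Curv2.stalkMap k X x).comp E.symm.toRingHom := by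
    rw [← e, RingHom.comp_assoc]
    refine RingHom.ext fun y => ?_
    exact (congrArg (f.stalkMap x).hom (E.apply_symm_apply y)).symm
  rw [e']
  exact RingHom.FormallySmooth.comp (RingHom.FormallySmooth.of_bijective E.symm.bijective) h

/-- The smooth locus of a reduced geometrically reduced scheme of finite type is dense. -/
theorem dense_smoothLocus [IsReduced X] [LocallyOfFinitePresentation (X ↘ Spec (CommRingCat.of k))]
    [GeometricallyReduced (X ↘ Spec (CommRingCat.of k))] :
    Dense ((X ↘ Spec (CommRingCat.of k)).smoothLocus : Set X) := by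
  intro x
  obtain ⟨η, hη, hx⟩ := Groth.Agent.Lib.ActSep.MaxPt.exists_isMaxPt X x
  have hmem : closure {η} ∈ irreducibleComponents X := by
    refine ⟨isIrreducible_singleton.closure, fun Z hZ hle => ?_⟩
    have hg := hZ.closure.isGenericPoint_genericPoint isClosed_closure
    have h2 : η ∈ closure Z := subset_closure (hle (subset_closure rfl))
    rw [← hη _ (hg.specializes h2)]
    rw [hg.def]
    exact subset_closure
  have hF := isField_stalk_of_closure_mem_irreducibleComponents X η hmem
  have := (GeomRedAt.iff_stalk k X η).1 ((GeomRedAt.geometricallyReduced_iff k X).1 ‹_› η)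
  exact closure_mono (Set.singleton_subset_iff.2 (mem_smoothLocus k X η hF)) hx.mem_closure

/-- A reduced scheme of finite type with a smooth dense open is geometrically reduced. -/
theorem geometricallyReduced_of_dense {k : Type u} [Field k] {X : Scheme.{u}}
    (f : X ⟶ Spec (CommRingCat.of k)) [IsReduced X] [LocallyOfFiniteType f] (U : X.Opens)
    (hU : Dense (U : Set X)) [Smooth (U.ι ≫ f)] : GeometricallyReduced f := by
  have : IsLocallyNoetherian X := LocallyOfFiniteType.isLocallyNoetherian f
  have : IsDominant U.ι := by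
    rw [isDominant_iff, DenseRange, Scheme.Opens.range_ι]
    exact hU
  have : IsSchemeTheoreticallyDominant U.ι := .of_isDominant _
  refine ⟨fun K _ y P p₁ p₂ h => ?_⟩
  have : Flat y := by
    obtain ⟨φ, rfl⟩ := Spec.map_surjective y
    let : Algebra k K := φ.hom.toAlgebra
    exact (HasRingHomProperty.Spec_iff (P := @Flat)).2
      (RingHom.flat_algebraMap_iff.2 (inferInstance : Module.Flat k K))
  have : Flat p₁ := MorphismProperty.of_isPullback h.flip inferInstance
  have sq := (IsPullback.of_hasPullback U.ι p₁).paste_vert h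
  have : Smooth (pullback.snd U.ι p₁ ≫ p₂) := MorphismProperty.of_isPullback sq inferInstance
  have : IsReduced (pullback U.ι p₁) :=
    Groth.Agent.Lib.GrpSch.isReduced_of_smooth_field (pullback.snd U.ι p₁ ≫ p₂)
  exact IsSchemeTheoreticallyDominant.isReduced (pullback.snd U.ι p₁)

end Groth.Agent.H2.Rigid.SmoothDense
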