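import Groth.Agent.H2.Rigid.GeomRegHom
import Groth.Agent.Lib.Flat55.FlatDescend
import Groth.Prelude.Def_EGA4b
import Mathlib.RingTheory.Flat.Localization
import Mathlib.RingTheory.Localization.BaseChange
import Mathlib.RingTheory.Ideal.KrullsHeightTheorem

/-!
# Locality of regular homomorphisms, composition, and `(R_k)` along flat maps
-/

set_option autoImplicit false
set_option linter.style.haveILetI false
set_option synthInstance.maxHeartbeats 200000
universe u

open TensorProduct IsLocalRing Groth.Agent.Lib Groth.Agent.H2.Rigid.GeomRegAlg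
  Groth.Agent.H2.Rigid.GeomRegHom

namespace Groth.Agent.H2.Rigid.GeomRegLocal

section field

variable {k : Type u} [Field k] {F : Type u} [CommRing F] [Algebra k F]

theorem localization (M : Submonoid F) (F' : Type u) [CommRing F'] [Algebra F F'] [Algebra k F']
    [IsScalarTower k F F'] [IsLocalization M F'] (h : CAlg.IsGeometricallyRegular k F) :
    CAlg.IsGeometricallyRegular k F' := fun E _ _ hE => by
  haveI := h E hE
  let M' := M.map (Algebra.TensorProduct.includeRight (R := k) (A := E) (B := F))
  haveI := SymGr.BaseChange.isRegularRing_of_isLocalization M' (Localization M')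
  exact IsRegularRing.of_ringEquiv
    (IsLocalization.tensorProductEquivOfMapIncludeRight k E M F' (Localization M')).toRingEquiv.symm

/-- Geometric regularity may be checked on localizations around each prime. -/
theorem of_forall_localization [IsNoetherianRing F]
    (h : ∀ (P : Ideal F) [P.IsPrime], ∃ (F' : Type u) (_ : CommRing F') (_ : Algebra F F')
      (_ : Algebra k F') (_ : IsScalarTower k F F') (M : Submonoid F),
        IsLocalization M F' ∧ M ≤ P.primeCompl ∧ CAlg.IsGeometricallyRegular k F') :
    CAlg.IsGeometricallyRegular k F := by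
  refine LocAdic.geometricallyRegular fun P _ => adic_of_piReg ?_
  obtain ⟨F', _, _, _, _, M, hM, hle, hF'⟩ := h P
  have hdisj : Disjoint (M : Set F) P := Set.disjoint_left.2 fun x hx hxP => hle hx hxP
  let P' := P.map (algebraMap F F')
  haveI : P'.IsPrime := IsLocalization.isPrime_of_isPrime_disjoint M F' P ‹_› hdisj
  have hP' : P'.comap (algebraMap F F') = P :=
    IsLocalization.under_map_of_isPrime_disjoint M F' ‹_› hdisj
  haveI := IsLocalization.isLocalization_isLocalization_atPrime_isLocalization M
    (Localization.AtPrime P') P'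
  haveI : IsLocalization P.primeCompl (Localization.AtPrime P') := by
    have h' : IsLocalization (P'.comap (algebraMap F F')).primeCompl (Localization.AtPrime P') :=
      inferInstance
    have e : (P'.comap (algebraMap F F')).primeCompl = P.primeCompl := by simp only [hP']
    rwa [e] at h'
  haveI : IsScalarTower k F (Localization.AtPrime P') := IsScalarTower.of_algebraMap_eq fun c => by
    rw [IsScalarTower.algebraMap_apply F F' (Localization.AtPrime P'),
      ← IsScalarTower.algebraMap_apply k F F', ← IsScalarTower.algebraMap_apply]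
  exact PIReg.of_geometricallyRegular (GeomRegHom.congr
    ((IsLocalization.algEquiv P.primeCompl (Localization.AtPrime P') (Localization.AtPrime P)).restrictScalars k)
    (localization P'.primeCompl (Localization.AtPrime P') hF'))

end field

section hom

variable {R S : Type u} [CommRing R] [CommRing S] [Algebra R S]

theorem isRegularRing_of_geomFibres [IsRegularRing R] [IsNoetherianRing S] (hflat : Module.Flat R S)
    (h : ∀ (p : Ideal R) [p.IsPrime], CAlg.IsGeometricallyRegular p.ResidueField (p.Fiber S)) :
    IsRegularRing S :=
  isRegularRing_of_fibres fun p _ =>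
    haveI := h p p.ResidueField inferInstance
    IsRegularRing.of_ringEquiv (R := p.ResidueField ⊗[p.ResidueField] p.Fiber S)
      (Algebra.TensorProduct.lid p.ResidueField (p.Fiber S)).toRingEquiv

/-- The fibre of the map of local rings is a localization of the fibre. -/
theorem localFiber_iff (n : Ideal S) [n.IsPrime] [IsNoetherianRing S] (r : Ideal R) [r.IsPrime]
    (r1 : Ideal (Localization.AtPrime (n.comap (algebraMap R S)))) [r1.IsPrime]
    (hr : r1.comap (algebraMap R (Localization.AtPrime (n.comap (algebraMap R S)))) = r) :
    letI := (Localization.localRingHom (n.comap (algebraMap R S)) n (algebraMap R S) rfl).toAlgebra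
    (CAlg.IsGeometricallyRegular r1.ResidueField (r1.Fiber (Localization.AtPrime n)) ↔
      CAlg.IsGeometricallyRegular r.ResidueField (r.Fiber (Localization.AtPrime n))) := by
  let p := n.comap (algebraMap R S)
  letI := (Localization.localRingHom p n (algebraMap R S) rfl).toAlgebra
  haveI : IsScalarTower R (Localization.AtPrime p) (Localization.AtPrime n) :=
    IsScalarTower.of_algebraMap_eq fun a => by
      rw [IsScalarTower.algebraMap_apply R S (Localization.AtPrime n)]
      exact (Localization.localRingHom_to_map p n (algebraMap R S) rfl a).symm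
  let e : Localization.AtPrime p ⊗[R] Localization.AtPrime n ≃ₐ[Localization.AtPrime p]
      Localization.AtPrime n := IsLocalization.algebraLid p.primeCompl _ _
  haveI : IsNoetherianRing (Localization.AtPrime p ⊗[R] Localization.AtPrime n) :=
    isNoetherianRing_of_ringEquiv _ e.symm.toRingEquiv
  let e' : r1.Fiber (Localization.AtPrime p ⊗[R] Localization.AtPrime n) ≃ₐ[r1.ResidueField]
      r1.Fiber (Localization.AtPrime n) :=
    Algebra.TensorProduct.congr (AlgEquiv.refl (R := r1.ResidueField) (A₁ := r1.ResidueField)) e
  rw [← fiber_iff r r1 hr]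
  exact ⟨fun h => GeomRegHom.congr e'.symm h, fun h => GeomRegHom.congr e' h⟩

/-- Fibres at localized points are localizations of fibres. -/
theorem fiber_localization (n : Ideal S) [n.IsPrime] (r : Ideal R) [r.IsPrime] :
    letI : Algebra (r.Fiber S) (r.Fiber (Localization.AtPrime n)) :=
      (Algebra.TensorProduct.map (AlgHom.id r.ResidueField r.ResidueField)
        (IsScalarTower.toAlgHom R S (Localization.AtPrime n))).toRingHom.toAlgebra
    IsScalarTower r.ResidueField (r.Fiber S) (r.Fiber (Localization.AtPrime n)) ∧
      IsLocalization (n.primeCompl.map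
        (Algebra.TensorProduct.includeRight (R := R) (A := r.ResidueField) (B := S)))
        (r.Fiber (Localization.AtPrime n)) := by
  let T := Localization.AtPrime n
  letI : Algebra (r.ResidueField ⊗[R] S) (r.ResidueField ⊗[R] T) :=
    (Algebra.TensorProduct.map (AlgHom.id r.ResidueField r.ResidueField)
      (IsScalarTower.toAlgHom R S T)).toRingHom.toAlgebra
  haveI : IsScalarTower r.ResidueField (r.ResidueField ⊗[R] S) (r.ResidueField ⊗[R] T) :=
    .of_algebraMap_eq fun x => by simp [RingHom.algebraMap_toAlgebra]
  exact ⟨this, IsLocalization.tensorProduct_tensorProduct_right R r.ResidueField n.primeCompl T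
    (by ext; simp [RingHom.algebraMap_toAlgebra])⟩

/-- Regular homomorphisms localize. -/
theorem isRegularHom_localRing [IsNoetherianRing S] (h : CAlg.IsRegularHom R S) (q : Ideal S) [q.IsPrime] :
    letI := (Localization.localRingHom (q.comap (algebraMap R S)) q (algebraMap R S) rfl).toAlgebra
    CAlg.IsRegularHom (Localization.AtPrime (q.comap (algebraMap R S))) (Localization.AtPrime q) := by
  let p := q.comap (algebraMap R S)
  letI := (Localization.localRingHom p q (algebraMap R S) rfl).toAlgebra
  haveI : IsScalarTower R (Localization.AtPrime p) (Localization.AtPrime q) :=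
    IsScalarTower.of_algebraMap_eq fun a => by
      rw [IsScalarTower.algebraMap_apply R S (Localization.AtPrime q)]
      exact (Localization.localRingHom_to_map p q (algebraMap R S) rfl a).symm
  obtain ⟨hflat, hfib⟩ := h
  haveI : Module.Flat R (Localization.AtPrime q) :=
    haveI : Module.Flat S (Localization.AtPrime q) := IsLocalization.flat _ q.primeCompl
    haveI := hflat
    Module.Flat.trans R S _
  refine ⟨(Module.flat_iff_of_isLocalization (Localization.AtPrime p) p.primeCompl _).2 ‹_›,
    fun r1 _ => ⟨isNoetherianRing_fiber r1, ?_⟩⟩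
  let r := r1.comap (algebraMap R (Localization.AtPrime p))
  refine (localFiber_iff q r r1 rfl).2 ?_
  letI : Algebra (r.Fiber S) (r.Fiber (Localization.AtPrime q)) :=
    (Algebra.TensorProduct.map (AlgHom.id r.ResidueField r.ResidueField)
      (IsScalarTower.toAlgHom R S (Localization.AtPrime q))).toRingHom.toAlgebra
  obtain ⟨h1, h2⟩ := fiber_localization (R := R) q r
  exact @localization _ _ _ _ _ _ (r.Fiber (Localization.AtPrime q)) _ _ _ h1 h2 (hfib r).2

/-- Regularity of homomorphisms may be checked at maximal ideals. -/
theorem isRegularHom_of_maximal [IsNoetherianRing S]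
    (h : ∀ (n : Ideal S) [n.IsMaximal],
      letI := (Localization.localRingHom (n.comap (algebraMap R S)) n (algebraMap R S) rfl).toAlgebra
      CAlg.IsRegularHom (Localization.AtPrime (n.comap (algebraMap R S))) (Localization.AtPrime n)) :
    CAlg.IsRegularHom R S := by
  refine ⟨Module.flat_of_isLocalized_maximal (R := R) S S
    (fun n => Localization.AtPrime n) (fun n _ => Algebra.linearMap S _) fun n hn => ?_, fun r _ => ?_⟩
  · let p := n.comap (algebraMap R S)
    letI := (Localization.localRingHom p n (algebraMap R S) rfl).toAlgebra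
    haveI : IsScalarTower R (Localization.AtPrime p) (Localization.AtPrime n) :=
      IsScalarTower.of_algebraMap_eq fun a => by
        rw [IsScalarTower.algebraMap_apply R S (Localization.AtPrime n)]
        exact (Localization.localRingHom_to_map p n (algebraMap R S) rfl a).symm
    haveI := (h n).1
    exact (Module.flat_iff_of_isLocalization (Localization.AtPrime p) p.primeCompl _).1 inferInstance
  haveI := isNoetherianRing_fiber (S := S) r
  refine ⟨inferInstance, of_forall_localization fun P hP => ?_⟩
  let ι := Algebra.TensorProduct.includeRight (R := R) (A := r.ResidueField) (B := S)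
  let q := P.comap ι.toRingHom
  have hqr : q.comap (algebraMap R S) = r := by
    have h1 : (P.comap (algebraMap r.ResidueField (r.Fiber S))) = ⊥ :=
      (Ideal.eq_bot_or_top _).resolve_right (Ideal.IsPrime.comap _).ne_top
    ext a
    have key : ι.toRingHom (algebraMap R S a) =
        algebraMap r.ResidueField (r.Fiber S) (algebraMap R r.ResidueField a) :=
      (ι.commutes a).trans (IsScalarTower.algebraMap_apply R r.ResidueField (r.Fiber S) a)
    rw [Ideal.mem_comap, Ideal.mem_comap, key, ← Ideal.mem_comap, h1, Ideal.mem_bot,
      Ideal.algebraMap_residueField_eq_zero]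
  haveI : q.IsPrime := Ideal.IsPrime.comap _
  obtain ⟨n, hn, hqn⟩ := q.exists_le_maximal (Ideal.IsPrime.ne_top ‹_›)
  let p := n.comap (algebraMap R S)
  have hdisj : Disjoint (p.primeCompl : Set R) r := Set.disjoint_left.2 fun x hx hxr =>
    hx (hqn (show algebraMap R S x ∈ q by rw [← hqr] at hxr; exact hxr))
  let r1 := r.map (algebraMap R (Localization.AtPrime p))
  haveI : r1.IsPrime := IsLocalization.isPrime_of_isPrime_disjoint p.primeCompl _ r ‹_› hdisj
  have hr1 : r1.comap (algebraMap R (Localization.AtPrime p)) = r :=
    IsLocalization.under_map_of_isPrime_disjoint p.primeCompl _ ‹_› hdisj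
  letI := (Localization.localRingHom p n (algebraMap R S) rfl).toAlgebra
  have hF := (localFiber_iff n r r1 hr1).1 ((h n).2 r1).2
  letI : Algebra (r.Fiber S) (r.Fiber (Localization.AtPrime n)) :=
    (Algebra.TensorProduct.map (AlgHom.id r.ResidueField r.ResidueField)
      (IsScalarTower.toAlgHom R S (Localization.AtPrime n))).toRingHom.toAlgebra
  obtain ⟨h1, h2⟩ := fiber_localization (R := R) n r
  refine ⟨r.Fiber (Localization.AtPrime n), inferInstance, inferInstance, inferInstance, h1, _, h2, ?_, hF⟩
  rintro _ ⟨a, ha, rfl⟩ haP
  exact ha (hqn haP)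

end hom

section comp

variable {A B C : Type u} [CommRing A] [CommRing B] [CommRing C] [Algebra A B] [Algebra B C]
  [Algebra A C] [IsScalarTower A B C]

set_option maxHeartbeats 1000000 in
/-- Composites of regular homomorphisms with Noetherian fibres are regular. -/
theorem isRegularHom_comp (hAB : CAlg.IsRegularHom A B) (hBC : CAlg.IsRegularHom B C)
    (hN : ∀ (p : Ideal A) [p.IsPrime], IsNoetherianRing (p.Fiber C)) : CAlg.IsRegularHom A C := by
  haveI := hAB.1
  haveI := hBC.1
  refine ⟨Module.Flat.trans A B C, fun p _ => ⟨hN p, fun E _ _ hE => ?_⟩⟩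
  haveI := hE
  haveI := (hAB.2 p).2 E hE
  haveI := hN p
  haveI : IsNoetherianRing (E ⊗[p.ResidueField] p.Fiber C) :=
    GeomRegAlg.isNoetherianRing_tensor (A := p.Fiber C) (k := p.ResidueField) E
  letI : Algebra A E := ((algebraMap p.ResidueField E).comp (algebraMap A p.ResidueField)).toAlgebra
  haveI : IsScalarTower A p.ResidueField E := .of_algebraMap_eq' rfl
  let B' := B ⊗[A] E
  haveI : IsRegularRing B' :=
    IsRegularRing.of_ringEquiv (R := E ⊗[p.ResidueField] p.Fiber B)
      ((Algebra.TensorProduct.cancelBaseChange A p.ResidueField E E B).toRingEquiv.trans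
        (Algebra.TensorProduct.comm A E B).toRingEquiv)
  let eC : B' ⊗[B] C ≃+* E ⊗[p.ResidueField] p.Fiber C :=
    (Algebra.TensorProduct.comm B B' C).toRingEquiv.trans
      ((Algebra.TensorProduct.cancelBaseChange A B C C E).toRingEquiv.trans
        ((Algebra.TensorProduct.comm A C E).toRingEquiv.trans
          (Algebra.TensorProduct.cancelBaseChange A p.ResidueField E E C).symm.toRingEquiv))
  haveI : IsNoetherianRing (B' ⊗[B] C) := isNoetherianRing_of_ringEquiv _ eC.symm
  haveI : IsRegularRing (B' ⊗[B] C) := isRegularRing_of_geomFibres (R := B') inferInstance fun P _ =>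
    (fiber_iff' (P.comap (algebraMap B B')) P rfl (hBC.2 _).1 (isNoetherianRing_fiber P)).2 (hBC.2 _).2
  exact IsRegularRing.of_ringEquiv eC

set_option maxHeartbeats 1000000 in
/-- Regularity descends from a composite along a faithfully flat second map. -/
theorem isRegularHom_of_comp (hAC : CAlg.IsRegularHom A C) [Module.FaithfullyFlat B C] :
    CAlg.IsRegularHom A B := by
  haveI := hAC.1
  refine ⟨Flat55.FlatDescend.module_flat_of_tower A B C, fun p _ => ?_⟩
  have key : ∀ (E : Type u) [Field E] [Algebra p.ResidueField E], Module.Finite p.ResidueField E →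
      IsRegularRing (E ⊗[p.ResidueField] p.Fiber B) := by
    intro E _ _ hE
    haveI := (hAC.2 p).2 E hE
    letI : Algebra A E := ((algebraMap p.ResidueField E).comp (algebraMap A p.ResidueField)).toAlgebra
    haveI : IsScalarTower A p.ResidueField E := .of_algebraMap_eq' rfl
    let B' := B ⊗[A] E
    let eC : B' ⊗[B] C ≃+* E ⊗[p.ResidueField] p.Fiber C :=
      (Algebra.TensorProduct.comm B B' C).toRingEquiv.trans
        ((Algebra.TensorProduct.cancelBaseChange A B C C E).toRingEquiv.trans
          ((Algebra.TensorProduct.comm A C E).toRingEquiv.trans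
            (Algebra.TensorProduct.cancelBaseChange A p.ResidueField E E C).symm.toRingEquiv))
    haveI : IsRegularRing (B' ⊗[B] C) :=
      IsRegularRing.of_ringEquiv (R := E ⊗[p.ResidueField] p.Fiber C) eC.symm
    haveI := Groth.Agent.S9406.result B' (B' ⊗[B] C)
    exact IsRegularRing.of_ringEquiv (R := B')
      ((Algebra.TensorProduct.comm A B E).toRingEquiv.trans
        (Algebra.TensorProduct.cancelBaseChange A p.ResidueField E E B).symm.toRingEquiv)
  refine ⟨?_, fun E _ _ hE => key E hE⟩
  haveI := key p.ResidueField inferInstance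
  haveI : IsRegularRing (p.Fiber B) := IsRegularRing.of_ringEquiv
    (R := p.ResidueField ⊗[p.ResidueField] p.Fiber B)
    (Algebra.TensorProduct.lid p.ResidueField (p.Fiber B)).toRingEquiv
  infer_instance

end comp

section Rk

variable {R : Type u} [CommRing R]

theorem hasRkAt_iff (k : ℕ) (q : Ideal R) [q.IsPrime] :
    EGA4.HasRkAt k R q ↔ ∀ (Q : Ideal R) [Q.IsPrime], Q ≤ q → Q.height ≤ k →
      IsRegularLocalRing (Localization.AtPrime Q) := by
  have key : ∀ (Q' : Ideal (Localization.AtPrime q)) [Q'.IsPrime] (Q : Ideal R) [Q.IsPrime],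
      Q'.comap (algebraMap R (Localization.AtPrime q)) = Q → Q'.height = Q.height ∧
        (IsRegularLocalRing (Localization.AtPrime Q') ↔ IsRegularLocalRing (Localization.AtPrime Q)) := by
    intro Q' _ Q _ hQ
    refine ⟨hQ ▸ (IsLocalization.height_under q.primeCompl Q').symm, ?_⟩
    haveI := IsLocalization.isLocalization_isLocalization_atPrime_isLocalization q.primeCompl
      (Localization.AtPrime Q') Q'
    haveI : IsLocalization Q.primeCompl (Localization.AtPrime Q') := by
      have h' : IsLocalization (Q'.comap (algebraMap R (Localization.AtPrime q))).primeCompl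
        (Localization.AtPrime Q') := inferInstance
      have e : (Q'.comap (algebraMap R (Localization.AtPrime q))).primeCompl = Q.primeCompl := by
        simp only [hQ]
      rwa [e] at h'
    let e := (IsLocalization.algEquiv Q.primeCompl (Localization.AtPrime Q') (Localization.AtPrime Q)).toRingEquiv
    exact ⟨fun h => IsRegularLocalRing.of_ringEquiv (R := Localization.AtPrime Q') e,
      fun h => IsRegularLocalRing.of_ringEquiv (R := Localization.AtPrime Q) e.symm⟩
  constructor
  · intro h Q _ hQq hQ
    have hdisj : Disjoint (q.primeCompl : Set R) Q := Set.disjoint_left.2 fun x hx hxQ => hx (hQq hxQ)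
    haveI := IsLocalization.isPrime_of_isPrime_disjoint q.primeCompl (Localization.AtPrime q) Q ‹_› hdisj
    obtain ⟨h1, h2⟩ := key (Q.map (algebraMap R _)) Q
      (IsLocalization.under_map_of_isPrime_disjoint q.primeCompl _ ‹_› hdisj)
    exact h2.1 (h _ (h1 ▸ hQ))
  · intro h Q' _ hQ'
    obtain ⟨h1, h2⟩ := key Q' _ rfl
    refine h2.2 (h _ ?_ (h1 ▸ hQ'))
    intro x hx
    by_contra hxq
    exact Ideal.IsPrime.ne_top ‹Q'.IsPrime› (Ideal.eq_top_of_isUnit_mem _ hx
      (IsLocalization.map_units _ (⟨x, hxq⟩ : q.primeCompl)))

variable {S : Type u} [CommRing S] [Algebra R S] [IsNoetherianRing S] [Module.Flat R S]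

/-- Regular base point and regular fibre point give a regular point. -/
theorem regular_at (q : Ideal S) [q.IsPrime]
    (hR : IsRegularLocalRing (Localization.AtPrime (q.comap (algebraMap R S))))
    (hF : IsRegularLocalRing (EGA4.FibLocRing R S q)) :
    IsRegularLocalRing (Localization.AtPrime q) := by
  let p := q.comap (algebraMap R S)
  let φ := Localization.localRingHom p q (algebraMap R S) rfl
  let _ : Algebra (Localization.AtPrime p) (Localization.AtPrime q) := φ.toAlgebra
  haveI : IsScalarTower R (Localization.AtPrime p) (Localization.AtPrime q) :=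
    IsScalarTower.of_algebraMap_eq fun a => by
      rw [IsScalarTower.algebraMap_apply R S (Localization.AtPrime q)]
      exact (Localization.localRingHom_to_map _ q (algebraMap R S) rfl a).symm
  haveI : Module.Flat R (Localization.AtPrime q) :=
    haveI : Module.Flat S (Localization.AtPrime q) := IsLocalization.flat _ q.primeCompl
    Module.Flat.trans R S _
  have hflat : Module.Flat (Localization.AtPrime p) (Localization.AtPrime q) :=
    (Module.flat_iff_of_isLocalization (Localization.AtPrime p) p.primeCompl _).2 ‹_›
  haveI : IsLocalHom φ := Localization.isLocalHom_localRingHom _ q (algebraMap R S) rfl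
  haveI : IsLocalHom (algebraMap (Localization.AtPrime p) (Localization.AtPrime q)) := ‹IsLocalHom φ›
  haveI : IsRegularLocalRing (Localization.AtPrime p) := hR
  have hI : (maximalIdeal (Localization.AtPrime p)).map φ =
      p.map (algebraMap R (Localization.AtPrime q)) := by
    rw [← Localization.AtPrime.map_eq_maximalIdeal, Ideal.map_map]
    exact congrArg (Ideal.map · p) (IsScalarTower.algebraMap_eq R (Localization.AtPrime p)
      (Localization.AtPrime q)).symm
  haveI := hF
  haveI : IsRegularLocalRing (Localization.AtPrime q ⧸
      (maximalIdeal (Localization.AtPrime p)).map (algebraMap (Localization.AtPrime p) (Localization.AtPrime q))) :=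
    IsRegularLocalRing.of_ringEquiv (R := EGA4.FibLocRing R S q) (Ideal.quotEquivOfEq hI.symm)
  exact JacCrit.FlatRegular.isRegularLocalRing (A := Localization.AtPrime p)
    ((add_comm _ _).trans (JacCrit.SmoothLocal.ringKrullDim_eq_of_flat φ hflat).symm).le

/-- `(R_k)` ascends along flat maps with `(R_k)` fibres. -/
theorem regular_of_rk (k : ℕ) (q : Ideal S) [q.IsPrime] (hq : q.height ≤ k)
    (hfib : LocCoh.HasRk k (EGA4.FibLocRing R S q))
    (hR : IsRegularLocalRing (Localization.AtPrime (q.comap (algebraMap R S)))) :
    IsRegularLocalRing (Localization.AtPrime q) := by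
  refine regular_at q hR ?_
  have hle : (q.comap (algebraMap R S)).map (algebraMap R (Localization.AtPrime q)) ≤
      maximalIdeal (Localization.AtPrime q) := by
    rw [Ideal.map_le_iff_le_comap, ← Localization.AtPrime.map_eq_maximalIdeal,
      IsScalarTower.algebraMap_eq R S (Localization.AtPrime q), ← Ideal.comap_comap]
    exact Ideal.comap_mono Ideal.le_comap_map
  haveI : Nontrivial (EGA4.FibLocRing R S q) :=
    Ideal.Quotient.nontrivial_iff.mpr fun he => (maximalIdeal.isMaximal _).ne_top (top_le_iff.1 (he ▸ hle))
  haveI : IsLocalRing (EGA4.FibLocRing R S q) := .of_surjective' _ Ideal.Quotient.mk_surjective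
  have hm : (maximalIdeal (EGA4.FibLocRing R S q)).height ≤ k := by
    refine le_trans ?_ hq
    refine WithBot.coe_le_coe.1 ?_
    rw [IsLocalRing.maximalIdeal_height_eq_ringKrullDim, ← IsLocalization.AtPrime.ringKrullDim_eq_height q (Localization.AtPrime q)]
    exact ringKrullDim_quotient_le _
  haveI := hfib _ hm
  exact IsRegularLocalRing.of_ringEquiv
    (R := Localization.AtPrime (maximalIdeal (EGA4.FibLocRing R S q)))
    (IsLocalization.atUnits (EGA4.FibLocRing R S q) (maximalIdeal (EGA4.FibLocRing R S q)).primeCompl
      fun x hx => IsLocalRing.notMem_maximalIdeal.1 hx).symm.toRingEquiv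

omit [Module.Flat R S] [IsNoetherianRing S] in
/-- Geometrically regular fibres have regular local rings. -/
theorem fibLocRing_regular (q : Ideal S) [q.IsPrime]
    (h : IsRegularRing ((q.comap (algebraMap R S)).Fiber S)) :
    IsRegularLocalRing (EGA4.FibLocRing R S q) := by
  let p := q.comap (algebraMap R S)
  haveI : q.LiesOver p := ⟨rfl⟩
  let qF := PrimeSpectrum.preimageHomeomorphFiber R S ⟨p, inferInstance⟩ ⟨⟨q, ‹_›⟩, rfl⟩
  have hqF : qF.asIdeal.comap (Algebra.TensorProduct.includeRight (R := R) (A := p.ResidueField)) = q :=
    congrArg (fun z : PrimeSpectrum.comap (algebraMap R S) ⁻¹' {(⟨p, inferInstance⟩ : PrimeSpectrum R)} =>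
      z.1.asIdeal) ((PrimeSpectrum.preimageHomeomorphFiber R S ⟨p, inferInstance⟩).symm_apply_apply ⟨⟨q, ‹_›⟩, rfl⟩)
  obtain ⟨e⟩ := JacCrit.FlatRegular.nonempty_ringEquiv p q qF.asIdeal hqF
  haveI : IsRegularLocalRing (Localization.AtPrime qF.asIdeal) := isRegularRing_iff.mp h qF.asIdeal
  exact IsRegularLocalRing.of_ringEquiv (R := Localization.AtPrime qF.asIdeal) e

end Rk

end Groth.Agent.H2.Rigid.GeomRegLocal
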