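import Groth.Agent.H2.Rigid.GeomRegLocal
import Groth.Agent.Lib.Excellent.NormalFibres
import Groth.Agent.Lib.Henselian.Normal
import Groth.Agent.Lib.NormalTensor.BaseChange
import Groth.Agent.Lib.Regular.Descent
import Groth.Agent.Lib.Regular.UFD
import Mathlib.RingTheory.RingHom.Flat

/-!
# Regularity and normality under base change by fields
-/

set_option autoImplicit false
set_option linter.style.haveILetI false

universe u

open scoped TensorProduct

namespace Groth.Agent.H2.Rigid.FieldBC

variable (R C : Type u) [CommRing R] [CommRing C] [Algebra R C] [Module.Flat R C]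

/-- Normality descends along flat maps, pointwise. -/
theorem normal_descent (q : Ideal C) [q.IsPrime]
    (h : IsDomain (Localization.AtPrime q) ∧ IsIntegrallyClosed (Localization.AtPrime q)) :
    IsDomain (Localization.AtPrime (q.comap (algebraMap R C))) ∧
      IsIntegrallyClosed (Localization.AtPrime (q.comap (algebraMap R C))) := by
  let φ := Localization.localRingHom (q.comap (algebraMap R C)) q (algebraMap R C) rfl
  let _ : Algebra (Localization.AtPrime (q.comap (algebraMap R C))) (Localization.AtPrime q) := φ.toAlgebra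
  haveI : Module.Flat (Localization.AtPrime (q.comap (algebraMap R C))) (Localization.AtPrime q) :=
    RingHom.Flat.localRingHom (f := algebraMap R C) (RingHom.flat_algebraMap_iff.2 ‹_›) _ _ rfl
  haveI : IsLocalHom (algebraMap (Localization.AtPrime (q.comap (algebraMap R C))) (Localization.AtPrime q)) :=
    Localization.isLocalHom_localRingHom _ q (algebraMap R C) rfl
  haveI : Module.FaithfullyFlat (Localization.AtPrime (q.comap (algebraMap R C))) (Localization.AtPrime q) :=
    .of_flat_of_isLocalHom
  obtain ⟨_, _⟩ := h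
  exact Lib.Henselian.Normal.isDomain_and_isIntegrallyClosed_of_faithfullyFlat _ (Localization.AtPrime q)

/-- Regularity descends along flat maps, pointwise. -/
theorem regular_descent [IsNoetherianRing R] (q : Ideal C) [q.IsPrime]
    (h : IsRegularLocalRing (Localization.AtPrime q)) :
    IsRegularLocalRing (Localization.AtPrime (q.comap (algebraMap R C))) := by
  let φ := Localization.localRingHom (q.comap (algebraMap R C)) q (algebraMap R C) rfl
  let _ : Algebra (Localization.AtPrime (q.comap (algebraMap R C))) (Localization.AtPrime q) := φ.toAlgebra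
  haveI : Module.Flat (Localization.AtPrime (q.comap (algebraMap R C))) (Localization.AtPrime q) :=
    RingHom.Flat.localRingHom (f := algebraMap R C) (RingHom.flat_algebraMap_iff.2 ‹_›) _ _ rfl
  haveI : IsLocalHom (algebraMap (Localization.AtPrime (q.comap (algebraMap R C))) (Localization.AtPrime q)) :=
    Localization.isLocalHom_localRingHom _ q (algebraMap R C) rfl
  haveI := h
  exact Lib.Regular.Descent.isRegularLocalRing_of_flat (R := Localization.AtPrime (q.comap (algebraMap R C)))
    (Localization.AtPrime q)

omit [Module.Flat R C] in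
/-- A normal ring descends along a faithfully flat map. -/
theorem isNormalRing_descend [Module.FaithfullyFlat R C] (h : EGA4.IsNormalRing C) :
    EGA4.IsNormalRing R := by
  intro p _
  obtain ⟨q, hq⟩ := PrimeSpectrum.comap_surjective_of_faithfullyFlat (A := R) (B := C) ⟨p, ‹_›⟩
  have e : q.asIdeal.comap (algebraMap R C) = p := congrArg PrimeSpectrum.asIdeal hq
  subst e
  exact normal_descent R C q.asIdeal (h _)

omit [Module.Flat R C] [Algebra R C] [CommRing C] in
theorem isNormalRing_of_isRegularRing [IsRegularRing R] : EGA4.IsNormalRing R := fun p _ => by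
  haveI : IsRegularLocalRing (Localization.AtPrime p) := isRegularRing_iff.1 ‹_› p
  exact ⟨Lib.Regular.Quotient.isDomain _, Lib.Regular.UFD.isIntegrallyClosed _⟩

section Field

variable (k K : Type u) [Field k] [Field K] [Algebra k K]

theorem isNormalHom_of_isRegularHom (h : CAlg.IsRegularHom k K) : EGA4.IsNormalHom k K :=
  ⟨h.1, fun p _ E _ _ hE =>
    haveI := (h.2 p).2 E hE
    isNormalRing_of_isRegularRing _⟩

theorem isGeometricallyRegular_of_isRegularHom (h : CAlg.IsRegularHom k K) :
    CAlg.IsGeometricallyRegular k K := by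
  have := GeomRegHom.isNoetherianRing_fiber (S := K) (⊥ : Ideal k)
  exact GeomRegHom.descend K (⊥ : Ideal k).ResidueField (h.2 ⊥).2

end Field

variable {k S K : Type u} [Field k] [CommRing S] [Algebra k S] [Field K] [Algebra k K]

omit [Algebra R C] [Module.Flat R C] [CommRing R] [CommRing C] in
/-- Regularity ascends along geometrically regular extensions of the base field. -/
theorem regular_ascent [IsNoetherianRing (S ⊗[k] K)] (h : CAlg.IsGeometricallyRegular k K)
    (q : Ideal (S ⊗[k] K)) [q.IsPrime]
    (hS : IsRegularLocalRing (Localization.AtPrime (q.comap (algebraMap S (S ⊗[k] K))))) :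
    IsRegularLocalRing (Localization.AtPrime q) := by
  refine GeomRegLocal.regular_at q hS (GeomRegLocal.fibLocRing_regular q ?_)
  let p := q.comap (algebraMap S (S ⊗[k] K))
  let e : p.Fiber (S ⊗[k] K) ≃+* p.ResidueField ⊗[k] K :=
    (Algebra.TensorProduct.cancelBaseChange k S p.ResidueField p.ResidueField K).toRingEquiv
  haveI : IsNoetherianRing (p.Fiber (S ⊗[k] K)) := GeomRegHom.isNoetherianRing_fiber p
  haveI : IsNoetherianRing (p.ResidueField ⊗[k] K) := isNoetherianRing_of_ringEquiv _ e
  haveI := GeomRegAlg.isRegularRing_tensor h p.ResidueField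
  exact IsRegularRing.of_ringEquiv e.symm

omit [Algebra R C] [Module.Flat R C] [CommRing R] [CommRing C] in
/-- Normality ascends along normal extensions of the base field. -/
theorem normal_ascent (h : EGA4.IsNormalHom k K) (q : Ideal (S ⊗[k] K)) [q.IsPrime]
    (hS : IsDomain (Localization.AtPrime (q.comap (algebraMap S (S ⊗[k] K)))) ∧
      IsIntegrallyClosed (Localization.AtPrime (q.comap (algebraMap S (S ⊗[k] K))))) :
    IsDomain (Localization.AtPrime q) ∧ IsIntegrallyClosed (Localization.AtPrime q) := by
  let p := q.comap (algebraMap S (S ⊗[k] K))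
  let S' := Localization.AtPrime p
  obtain ⟨_, _⟩ := hS
  have hN : EGA4.IsNormalRing S' := fun P _ =>
    ⟨IsLocalization.isDomain_localization P.primeCompl_le_nonZeroDivisors,
      isIntegrallyClosed_of_isLocalization _ P.primeCompl P.primeCompl_le_nonZeroDivisors⟩
  have h' : EGA4.IsNormalRing (S' ⊗[k] K) :=
    Lib.NormalTensor.Basic.isNormalRing_congr (Algebra.TensorProduct.comm k K S').toRingEquiv
      (Lib.NormalTensor.BaseChange.isNormalRing_tensor h hN)
  let _ : Algebra (S ⊗[k] K) (S' ⊗[k] K) :=
    (Algebra.TensorProduct.map (IsScalarTower.toAlgHom k S S') (AlgHom.id k K)).toRingHom.toAlgebra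
  haveI : IsScalarTower S (S ⊗[k] K) (S' ⊗[k] K) := .of_algebraMap_eq fun x => by
    simp [RingHom.algebraMap_toAlgebra, S']
  haveI := IsLocalization.tensorProduct_tensorProduct k K p.primeCompl S'
    (by ext; simp [RingHom.algebraMap_toAlgebra])
  refine (Lib.Excellent.FormalFibre.forall_localization_iff
    (Algebra.algebraMapSubmonoid (S ⊗[k] K) p.primeCompl)
    Lib.Excellent.NormalRing.isoInvariant_domainIntClosed).1 h' q ?_
  rw [Set.disjoint_left]
  rintro _ ⟨x, hx, rfl⟩ hxq
  exact hx hxq

section BaseChange

variable (A B A' : Type u) [CommRing A] [CommRing B] [CommRing A'] [Algebra A B] [Algebra A A']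

omit [Algebra R C] [Module.Flat R C] [CommRing R] [CommRing C] in
theorem isNormalHom_baseChange (h : EGA4.IsNormalHom A B) :
    EGA4.IsNormalHom A' (A' ⊗[A] B) := by
  haveI : Module.Flat A B := h.1
  refine ⟨inferInstance, fun p' _ L _ _ _ => ?_⟩
  let _ : Algebra A' L := ((algebraMap p'.ResidueField L).comp (algebraMap A' p'.ResidueField)).toAlgebra
  haveI : IsScalarTower A' p'.ResidueField L := .of_algebraMap_eq' rfl
  let _ : Algebra A L := ((algebraMap A' L).comp (algebraMap A A')).toAlgebra
  haveI : IsScalarTower A A' L := .of_algebraMap_eq' rfl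
  exact Lib.NormalTensor.Basic.isNormalRing_congr
    ((Algebra.TensorProduct.comm A B L).toRingEquiv.trans
      ((Algebra.TensorProduct.cancelBaseChange A A' L L B).symm.toRingEquiv.trans
        (Algebra.TensorProduct.cancelBaseChange A' p'.ResidueField L L (A' ⊗[A] B)).symm.toRingEquiv))
    (Lib.NormalTensor.BaseChange.isNormalRing_tensor_field h L)

omit [Algebra R C] [Module.Flat R C] [CommRing R] [CommRing C] in
theorem isNormalHom_descend [Module.FaithfullyFlat A A'] (h : EGA4.IsNormalHom A' (A' ⊗[A] B)) :
    EGA4.IsNormalHom A B := by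
  haveI : Module.Flat A' (A' ⊗[A] B) := h.1
  refine ⟨Module.Flat.of_flat_tensorProduct (R := A) (M := B) A', fun p _ E _ _ _ => ?_⟩
  let _ : Algebra A E := ((algebraMap p.ResidueField E).comp (algebraMap A p.ResidueField)).toAlgebra
  haveI : IsScalarTower A p.ResidueField E := .of_algebraMap_eq' rfl
  haveI : Nontrivial (A' ⊗[A] E) := Module.FaithfullyFlat.lTensor_nontrivial A A' E
  obtain ⟨M, hM⟩ := Ideal.exists_maximal (A' ⊗[A] E)
  let L := M.ResidueField
  let _ : Algebra E L := ((algebraMap (A' ⊗[A] E) L).comp
    (Algebra.TensorProduct.includeRight : E →ₐ[A] A' ⊗[A] E).toRingHom).toAlgebra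
  haveI : IsScalarTower A E L := .of_algebraMap_eq fun a => by
    show algebraMap A L a = algebraMap (A' ⊗[A] E) L
      ((Algebra.TensorProduct.includeRight : E →ₐ[A] A' ⊗[A] E) (algebraMap A E a))
    rw [AlgHom.commutes, ← IsScalarTower.algebraMap_apply]
  have h1 := Lib.NormalTensor.BaseChange.isNormalRing_tensor_field h L
  have h2 : EGA4.IsNormalRing (L ⊗[A] B) := Lib.NormalTensor.Basic.isNormalRing_congr
    ((Algebra.TensorProduct.comm A' (A' ⊗[A] B) L).toRingEquiv.trans
      (Algebra.TensorProduct.cancelBaseChange A A' L L B).toRingEquiv) h1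
  have h3 : EGA4.IsNormalRing (L ⊗[E] (E ⊗[A] B)) := Lib.NormalTensor.Basic.isNormalRing_congr
    (Algebra.TensorProduct.cancelBaseChange A E L L B).symm.toRingEquiv h2
  have h4 : EGA4.IsNormalRing ((E ⊗[A] B) ⊗[E] L) := Lib.NormalTensor.Basic.isNormalRing_congr
    (Algebra.TensorProduct.comm E L (E ⊗[A] B)).toRingEquiv h3
  exact Lib.NormalTensor.Basic.isNormalRing_congr
    (Algebra.TensorProduct.cancelBaseChange A p.ResidueField E E B).symm.toRingEquiv
    (isNormalRing_descend (E ⊗[A] B) ((E ⊗[A] B) ⊗[E] L) h4)

end BaseChange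

end Groth.Agent.H2.Rigid.FieldBC
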