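import Groth.Agent.H2.Rigid.Push
import Mathlib.AlgebraicGeometry.Morphisms.UniversallyOpen
import Mathlib.AlgebraicGeometry.Morphisms.Separated

/-!
# Rigidity: morphisms contracting a fibre

For `g : X ⟶ T` closed with only constant functions on the fibres, the set of points of `T` over
which `f : X ⟶ Y` is set-theoretically constant is open; it is closed if `g` is universally open and
`Y` is separated over a base compatible with `f`. If moreover `g_* O = O` then over this set `f`
factors through `g`.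
-/

universe u

open CategoryTheory Limits AlgebraicGeometry TopologicalSpace

namespace Groth.Agent.H2.Rigid

variable {X Y T : Scheme.{u}} (g : X ⟶ T) (f : X ⟶ Y)

/-- The points over which `f` is set-theoretically constant. -/
def constSet : Set T := {t | (f '' (g ⁻¹' {t})).Subsingleton}

variable {g f} in
theorem mem_constSet {t : T} :
    t ∈ constSet g f ↔ ∀ x x', g x = t → g x' = t → f x = f x' :=
  ⟨fun h x x' hx hx' => h ⟨x, hx, rfl⟩ ⟨x', hx', rfl⟩, by
    rintro h _ ⟨x, hx, rfl⟩ _ ⟨x', hx', rfl⟩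
    exact h x x' hx hx'⟩

/-- A morphism to an affine scheme descends along `p` with `p_* O = O` on global sections. -/
theorem exists_comp_eq_of_isAffine {F B V : Scheme.{u}} [IsAffine V] (p : F ⟶ B)
    (hp : Function.Bijective p.appTop.hom) (h : F ⟶ V) : ∃ k : B ⟶ V, p ≫ k = h := by
  haveI : IsIso p.appTop := (ConcreteCategory.isIso_iff_bijective _).2 hp
  refine ⟨B.toSpecΓ ≫ Spec.map (h.appTop ≫ inv p.appTop) ≫ V.isoSpec.inv, ?_⟩
  rw [Scheme.toSpecΓ_naturality_assoc, ← Spec.map_comp_assoc, Category.assoc, IsIso.inv_hom_id,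
    Category.comp_id, ← Scheme.toSpecΓ_naturality_assoc]
  simp [Scheme.isoSpec]

/-- The fibre maps to a single point as soon as it maps into an affine open. -/
theorem exists_fiber_factor (hg : H0 g) {V : Y.Opens} (hV : IsAffineOpen V) (t : T) (x : X)
    (hx : g x = t) (h : ∀ x', g x' = t → f x' ∈ V) :
    ∃ y : Spec (T.residueField t) ⟶ Y, g.fiberι t ≫ f = g.fiberToSpecResidueField t ≫ y := by
  haveI : IsAffine (V : Scheme.{u}) := hV
  have hr : Set.range (g.fiberι t ≫ f) ⊆ Set.range V.ι := by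
    rintro _ ⟨z, rfl⟩
    rw [Scheme.Opens.range_ι]
    exact h _ ((g.range_fiberι t).le ⟨z, rfl⟩)
  haveI : Nonempty (g.fiber t) := ⟨((g.range_fiberι t).ge hx).choose⟩
  have hb : Function.Bijective (g.fiberToSpecResidueField t).appTop.hom := by
    refine ⟨?_, hg t⟩
    let := ((Scheme.ΓSpecIso (T.residueField t)).commRingCatIsoToRingEquiv.toMulEquiv.isField
      (Field.toIsField _)).toField
    haveI : Nontrivial Γ(g.fiber t, ⊤) :=
      haveI : Nonempty ((⊤ : (g.fiber t).Opens) : Scheme.{u}) := ⟨⟨Classical.arbitrary _, trivial⟩⟩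
      inferInstance
    exact RingHom.injective _
  obtain ⟨k, hk⟩ := exists_comp_eq_of_isAffine _ hb (IsOpenImmersion.lift V.ι _ hr)
  exact ⟨k ≫ V.ι, by rw [← Category.assoc, hk, IsOpenImmersion.lift_fac]⟩

variable {g f} in
theorem subsingleton_of_factor {t : T} {y : Spec (T.residueField t) ⟶ Y}
    (h : g.fiberι t ≫ f = g.fiberToSpecResidueField t ≫ y) : t ∈ constSet g f := by
  rw [mem_constSet]
  intro x x' hx hx'
  obtain ⟨z, rfl⟩ := (g.range_fiberι t).ge hx
  obtain ⟨z', rfl⟩ := (g.range_fiberι t).ge hx'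
  rw [← Scheme.Hom.comp_apply, ← Scheme.Hom.comp_apply, h, Scheme.Hom.comp_apply,
    Scheme.Hom.comp_apply, Subsingleton.elim (g.fiberToSpecResidueField t z)
      (g.fiberToSpecResidueField t z')]

/-- The open subset over which `f` maps into `V`. -/
def intoSet (V : Y.Opens) : Set T := (g '' (f ⁻¹' (V : Set Y))ᶜ)ᶜ

variable {g f} in
theorem mem_intoSet {V : Y.Opens} {t : T} : t ∈ intoSet g f V ↔ ∀ x, g x = t → f x ∈ V :=
  ⟨fun h x hx => by_contra fun hxV => h ⟨x, hxV, hx⟩, fun h ⟨x, hxV, hx⟩ => hxV (h x hx)⟩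

variable {g f} in
theorem isOpen_intoSet (hc : IsClosedMap g) (V : Y.Opens) : IsOpen (intoSet g f V) :=
  (hc _ (V.isOpen.preimage f.continuous).isClosed_compl).isOpen_compl

variable {g f} in
theorem intoSet_subset_constSet (hg : H0 g) {V : Y.Opens} (hV : IsAffineOpen V) :
    intoSet g f V ⊆ constSet g f := by
  intro t ht
  by_cases hne : ∃ x, g x = t
  · obtain ⟨x, hx⟩ := hne
    obtain ⟨y, hy⟩ := exists_fiber_factor g f hg hV t x hx (mem_intoSet.1 ht)
    exact subsingleton_of_factor hy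
  · exact mem_constSet.2 fun x _ hx _ => absurd ⟨x, hx⟩ hne

variable {g f} in
theorem exists_intoSet [Surjective g] {t : T} (ht : t ∈ constSet g f) :
    ∃ V : Y.Opens, IsAffineOpen V ∧ t ∈ intoSet g f V := by
  obtain ⟨x, hx⟩ := g.surjective t
  obtain ⟨_, ⟨V, hV, rfl⟩, hxV, -⟩ := Y.isBasis_affineOpens.exists_subset_of_mem_open
    (Set.mem_univ (f x)) isOpen_univ
  exact ⟨V, hV, mem_intoSet.2 fun x' hx' => (mem_constSet.1 ht x' x hx' hx) ▸ hxV⟩

theorem isOpen_constSet [Surjective g] (hc : IsClosedMap g) (hg : H0 g) :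
    IsOpen (constSet g f) := by
  refine isOpen_iff_forall_mem_open.2 fun t ht => ?_
  obtain ⟨V, hV, htV⟩ := exists_intoSet ht
  exact ⟨_, intoSet_subset_constSet hg hV, isOpen_intoSet hc V, htV⟩

theorem exists_fiber_factor' [Surjective g] (hg : H0 g) {t : T} (ht : t ∈ constSet g f) :
    ∃ y : Spec (T.residueField t) ⟶ Y, g.fiberι t ≫ f = g.fiberToSpecResidueField t ≫ y := by
  obtain ⟨V, hV, htV⟩ := exists_intoSet ht
  obtain ⟨x, hx⟩ := g.surjective t
  exact exists_fiber_factor g f hg hV t x hx (mem_intoSet.1 htV)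

theorem isClosed_constSet [Surjective g] [UniversallyOpen g] (hg : H0 g) {S : Scheme.{u}}
    (p : T ⟶ S) (q : Y ⟶ S) [IsSeparated q] (hf : f ≫ q = g ≫ p) : IsClosed (constSet g f) := by
  let W := pullback g g
  let h : W ⟶ T := pullback.fst g g ≫ g
  have hh : h = pullback.snd g g ≫ g := pullback.condition
  let l : W ⟶ pullback q q := pullback.lift (pullback.fst g g ≫ f) (pullback.snd g g ≫ f) (by
    rw [Category.assoc, Category.assoc, hf, pullback.condition_assoc])
  let Z : Set W := l ⁻¹' Set.range (pullback.diagonal q)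
  have hZ : IsClosed Z :=
    ((pullback.diagonal q).isClosedEmbedding.isClosed_range).preimage l.continuous
  haveI : UniversallyOpen (pullback.fst g g) := inferInstance
  have ho : IsOpenMap h := (pullback.fst g g ≫ g).isOpenMap
  suffices e : constSet g f = (h '' Zᶜ)ᶜ by
    rw [e]; exact (ho _ hZ.isOpen_compl).isClosed_compl
  ext t
  constructor
  · rintro ht ⟨z, hz, rfl⟩
    obtain ⟨y, hy⟩ := exists_fiber_factor' g f hg ht
    apply hz
    let ρ : Spec (W.residueField z) ⟶ Spec (T.residueField (h z)) := Spec.map (h.residueFieldMap z)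
    have hρ : ρ ≫ T.fromSpecResidueField (h z) = W.fromSpecResidueField z ≫ h :=
      h.SpecMap_residueFieldMap_fromSpecResidueField z
    have key : ∀ π : W ⟶ X, π ≫ g = h → W.fromSpecResidueField z ≫ π ≫ f = ρ ≫ y := by
      intro π hπ
      let j : Spec (W.residueField z) ⟶ g.fiber (h z) :=
        pullback.lift (W.fromSpecResidueField z ≫ π) ρ (by rw [Category.assoc, hπ, hρ])
      rw [← Category.assoc, ← (show j ≫ g.fiberι (h z) = W.fromSpecResidueField z ≫ π from
          pullback.lift_fst _ _ _), Category.assoc, hy, ← Category.assoc]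
      exact congrArg (· ≫ y) (pullback.lift_snd _ _ _)
    have e : W.fromSpecResidueField z ≫ l = (ρ ≫ y) ≫ pullback.diagonal q := by
      apply pullback.hom_ext
      · rw [Category.assoc, pullback.lift_fst, key _ rfl, Category.assoc (ρ ≫ y),
          pullback.diagonal_fst, Category.comp_id]
      · rw [Category.assoc, pullback.lift_snd, key _ hh.symm, Category.assoc (ρ ≫ y),
          pullback.diagonal_snd, Category.comp_id]
    obtain ⟨w, hw⟩ := (Scheme.range_fromSpecResidueField z).ge (Set.mem_singleton z)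
    refine ⟨(ρ ≫ y) w, ?_⟩
    change ((ρ ≫ y) ≫ pullback.diagonal q) w = l z
    rw [← e, Scheme.Hom.comp_apply, hw]
  · intro ht
    rw [mem_constSet]
    intro x x' hx hx'
    obtain ⟨z, h1, h2⟩ := Scheme.Pullback.exists_preimage_pullback x x' (hx.trans hx'.symm)
    have hz : z ∈ Z := by_contra fun hz => ht ⟨z, hz, by rw [Scheme.Hom.comp_apply, h1, hx]⟩
    obtain ⟨w, hw⟩ := hz
    have e1 := congr((pullback.fst q q) $hw)
    have e2 := congr((pullback.snd q q) $hw)
    rw [← Scheme.Hom.comp_apply, ← Scheme.Hom.comp_apply, pullback.diagonal_fst, pullback.lift_fst,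
      Scheme.Hom.comp_apply, h1] at e1
    rw [← Scheme.Hom.comp_apply, ← Scheme.Hom.comp_apply, pullback.diagonal_snd, pullback.lift_snd,
      Scheme.Hom.comp_apply, h2] at e2
    exact e1.symm.trans e2

/-- `g_* O = O` and surjective: morphisms out of the base are determined after composing with `g`. -/
theorem Push.hom_ext {g : X ⟶ T} (h : Push g) [Surjective g] {k₁ k₂ : T ⟶ Y}
    (e : g ≫ k₁ = g ≫ k₂) : k₁ = k₂ := by
  have hpt : ∀ t, k₁ t = k₂ t := fun t => by
    obtain ⟨x, rfl⟩ := g.surjective t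
    exact congr($e x)
  let U : Y.affineOpens → T.Opens := fun V => k₁ ⁻¹ᵁ V.1
  have hU : IsOpenCover U := by
    refine IsOpenCover.mk (eq_top_iff.2 fun t _ => ?_)
    obtain ⟨_, ⟨V, hV, rfl⟩, ht, -⟩ := Y.isBasis_affineOpens.exists_subset_of_mem_open
      (Set.mem_univ (k₁ t)) isOpen_univ
    exact Opens.mem_iSup.2 ⟨⟨V, hV⟩, ht⟩
  refine Scheme.Cover.hom_ext (T.openCoverOfIsOpenCover U hU) _ _ fun V => ?_
  haveI : IsAffine (V.1 : Scheme.{u}) := V.2
  let W := U V
  change W.ι ≫ k₁ = W.ι ≫ k₂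
  have r1 : Set.range (W.ι ≫ k₁) ⊆ Set.range V.1.ι := by
    rintro _ ⟨w, rfl⟩; rw [Scheme.Opens.range_ι]; exact w.2
  have r2 : Set.range (W.ι ≫ k₂) ⊆ Set.range V.1.ι := by
    rintro _ ⟨w, rfl⟩; rw [Scheme.Opens.range_ι, Scheme.Hom.comp_apply, ← hpt]; exact w.2
  rw [← IsOpenImmersion.lift_fac V.1.ι _ r1, ← IsOpenImmersion.lift_fac V.1.ι _ r2]
  congr 1
  apply ext_of_isAffine
  have inj := ((h.restrict W) ⊤).1
  have e' : (g ∣_ W) ≫ IsOpenImmersion.lift V.1.ι _ r1 = (g ∣_ W) ≫ IsOpenImmersion.lift V.1.ι _ r2 := by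
    rw [← cancel_mono V.1.ι, Category.assoc, Category.assoc, IsOpenImmersion.lift_fac,
      IsOpenImmersion.lift_fac, morphismRestrict_ι_assoc, morphismRestrict_ι_assoc, e]
  ext a
  apply inj
  exact congr(($e').appTop.hom a)

/-- If `g_* O = O` and `f` is set-theoretically constant on the fibres, `f` factors through `g`. -/
theorem Push.exists_factor {g : X ⟶ T} (h : Push g) [Surjective g] (hc : IsClosedMap g)
    (hf : constSet g f = Set.univ) : ∃ k : T ⟶ Y, g ≫ k = f := by
  have hU : IsOpenCover fun V : Y.affineOpens =>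
      (⟨intoSet g f V.1, isOpen_intoSet hc V.1⟩ : T.Opens) := by
    refine IsOpenCover.mk (eq_top_iff.2 fun t _ => ?_)
    obtain ⟨V, hV, htV⟩ := exists_intoSet (g := g) (f := f) (hf.ge (Set.mem_univ t))
    exact Opens.mem_iSup.2 ⟨⟨V, hV⟩, htV⟩
  let U : Y.affineOpens → T.Opens := fun V => ⟨intoSet g f V.1, isOpen_intoSet hc V.1⟩
  have hk : ∀ V : Y.affineOpens, ∃ k : (U V : Scheme.{u}) ⟶ Y,
      (g ∣_ U V) ≫ k = (g ⁻¹ᵁ U V).ι ≫ f := by
    intro V
    haveI : IsAffine (V.1 : Scheme.{u}) := V.2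
    have hr : Set.range ((g ⁻¹ᵁ U V).ι ≫ f) ⊆ Set.range V.1.ι := by
      rintro _ ⟨w, rfl⟩; rw [Scheme.Opens.range_ι]; exact mem_intoSet.1 w.2 _ rfl
    obtain ⟨k, hk⟩ := exists_comp_eq_of_isAffine (g ∣_ U V) ((h.restrict (U V)) ⊤)
      (IsOpenImmersion.lift V.1.ι _ hr)
    exact ⟨k ≫ V.1.ι, by rw [← Category.assoc, hk, IsOpenImmersion.lift_fac]⟩
  choose k hk using hk
  let 𝒰 := T.openCoverOfIsOpenCover U hU
  have agree : ∀ V V' : Y.affineOpens,
      pullback.fst (U V).ι (U V').ι ≫ k V = pullback.snd (U V).ι (U V').ι ≫ k V' := by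
    intro V V'
    let q := pullback.fst (U V).ι (U V').ι ≫ (U V).ι
    have hq : q = pullback.snd (U V).ι (U V').ι ≫ (U V').ι := pullback.condition
    let O := q.opensRange
    rw [← cancel_epi q.isoOpensRange.inv]
    haveI : Surjective (g ∣_ O) :=
      MorphismProperty.of_isPullback (isPullback_morphismRestrict g O).flip inferInstance
    apply (h.restrict O).hom_ext
    have key : ∀ (W : Y.affineOpens) (π : (O : Scheme.{u}) ⟶ U W), π ≫ (U W).ι = O.ι →
        (g ∣_ O) ≫ π ≫ k W = (g ⁻¹ᵁ O).ι ≫ f := by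
      intro W π hπ
      have hle : g ⁻¹ᵁ O ≤ g ⁻¹ᵁ U W := fun x hx => by
        have := congr($hπ ⟨g x, hx⟩)
        show g x ∈ U W
        have h2 : (U W).ι (π ⟨g x, hx⟩) ∈ Set.range (U W).ι := ⟨_, rfl⟩
        rw [Scheme.Opens.range_ι] at h2
        exact this ▸ h2
      have e1 : (g ∣_ O) ≫ π = X.homOfLE hle ≫ (g ∣_ U W) := by
        rw [← cancel_mono (U W).ι, Category.assoc, Category.assoc, hπ, morphismRestrict_ι,
          morphismRestrict_ι, Scheme.homOfLE_ι_assoc]
      rw [reassoc_of% e1, hk, Scheme.homOfLE_ι_assoc]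
    have e1 := key V (q.isoOpensRange.inv ≫ pullback.fst _ _)
      (by rw [Category.assoc]; exact q.isoOpensRange_inv_comp)
    have e2 := key V' (q.isoOpensRange.inv ≫ pullback.snd _ _)
      (by rw [Category.assoc, ← hq]; exact q.isoOpensRange_inv_comp)
    simp only [Category.assoc] at e1 e2
    rw [e1, e2]
  refine ⟨𝒰.glueMorphisms k agree, ?_⟩
  refine Scheme.Cover.hom_ext (X.openCoverOfIsOpenCover (fun V => g ⁻¹ᵁ U V) ?_) _ _ fun V => ?_
  · exact IsOpenCover.mk (eq_top_iff.2 fun x _ => by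
      obtain ⟨V, hV⟩ := Opens.mem_iSup.1 (hU.iSup_eq_top.ge (Set.mem_univ (g x)))
      exact Opens.mem_iSup.2 ⟨V, hV⟩)
  · change (g ⁻¹ᵁ U V).ι ≫ g ≫ _ = (g ⁻¹ᵁ U V).ι ≫ f
    rw [← morphismRestrict_ι_assoc, ← hk V]
    congr 1
    exact 𝒰.ι_glueMorphisms k agree V

end Groth.Agent.H2.Rigid

namespace Groth.Agent.H2.Rigid

theorem geometricallyConnected_of_integral {X T : Scheme.{u}} (g : X ⟶ T) [GeometricallyIntegral g] :
    GeometricallyConnected g := by
  refine ⟨?_⟩
  intro K _ y Z a b h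
  have : IrreducibleSpace Z := GeometricallyIrreducible.geometrically_irreducibleSpace (f := g) y a b h
  infer_instance

/-- A fibre-wise constant morphism over a connected base. -/
theorem constSet_eq_univ {X Y T S : Scheme.{u}} [ConnectedSpace T] (g : X ⟶ T) (f : X ⟶ Y)
    [Surjective g] [UniversallyOpen g] (hc : IsClosedMap g) (hg : H0 g)
    (p : T ⟶ S) (q : Y ⟶ S) [IsSeparated q] (hf : f ≫ q = g ≫ p) {t : T} (ht : t ∈ constSet g f) :
    constSet g f = Set.univ :=
  IsClopen.eq_univ ⟨isClosed_constSet g f hg p q hf, isOpen_constSet g f hc hg⟩ ⟨t, ht⟩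

end Groth.Agent.H2.Rigid
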