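import Groth.Agent.H2.Rigid.Approx
import Groth.Agent.H2.Rigid.Const
import Groth.Agent.S7795
import Mathlib.CategoryTheory.Monoidal.Cartesian.Over
import Mathlib.CategoryTheory.Monoidal.Cartesian.Grp
import Mathlib.AlgebraicGeometry.Morphisms.UniversallyOpen

/-!
# Rigidity for abelian schemes over an arbitrary base
-/

universe u

open CategoryTheory Limits MonoidalCategory CartesianMonoidalCategory MonObj AlgebraicGeometry

namespace Groth.Agent.H2.Rigid

variable {S : Scheme.{u}} {X : Over S} [IsProper X.hom] [Smooth X.hom]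

/-- A morphism `X ×_S T ⟶ Y`, constant on the fibres over a section of `T` with connected fibres,
factors through the projection to `T`. -/
theorem factor_of_axis (hX : H0 X.hom) (e : 𝟙_ (Over S) ⟶ X) {T Y : Over S} [IsSeparated Y.hom]
    (hT : ∀ s : S, _root_.IsPreconnected (T.hom ⁻¹' {s})) (F : X ⊗ T ⟶ Y) (t₀ : 𝟙_ (Over S) ⟶ T)
    (y : 𝟙_ (Over S) ⟶ Y) (h₀ : lift (𝟙 X) (toUnit X ≫ t₀) ≫ F = toUnit X ≫ y) :
    F = snd X T ≫ lift (toUnit T ≫ e) (𝟙 T) ≫ F := by
  let g : (X ⊗ T).left ⟶ T.left := pullback.snd X.hom T.hom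
  haveI : IsProper g := inferInstanceAs (IsProper (pullback.snd X.hom T.hom))
  haveI : Smooth g := inferInstanceAs (Smooth (pullback.snd X.hom T.hom))
  haveI : UniversallyOpen g := UniversallyOpen.of_flat g
  have hg : H0 g := hX.pullback_snd X.hom T.hom
  let l : T ⟶ X ⊗ T := lift (toUnit T ≫ e) (𝟙 T)
  have hl : l.left ≫ g = 𝟙 _ := congrArg Over.Hom.left (lift_snd (toUnit T ≫ e) (𝟙 T))
  haveI : Surjective g := ⟨fun t => ⟨l.left t, congr($hl t)⟩⟩
  have hw : F.left ≫ Y.hom = g ≫ T.hom := (Over.w F).trans pullback.condition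
  have hcl : IsClopen (constSet g F.left) := ⟨isClosed_constSet g F.left hg T.hom Y.hom hw,
    isOpen_constSet g F.left g.isClosedMap hg⟩
  have hsec : ∀ s : S, t₀.left s ∈ constSet g F.left := by
    intro s
    refine mem_constSet.2 ?_
    suffices H : ∀ P, g P = t₀.left s → F.left P = y.left s from
      fun P P' hP hP' => (H P hP).trans (H P' hP').symm
    intro P hP
    obtain ⟨w, rfl⟩ : P ∈ Set.range (X ◁ t₀).left := by
      rw [Over.whiskerLeft_left, Scheme.Pullback.range_map]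
      exact ⟨⟨_, rfl⟩, ⟨s, hP.symm⟩⟩
    have e1 : X ◁ t₀ = fst X (𝟙_ _) ≫ lift (𝟙 X) (toUnit X ≫ t₀) := by
      ext : 1
      · simp
      · simp only [whiskerLeft_snd, Category.assoc, lift_snd]
        rw [← Category.assoc, toUnit_unique (fst X (𝟙_ _) ≫ toUnit X) (snd X (𝟙_ _))]
    have e2 : X ◁ t₀ ≫ F = snd X (𝟙_ _) ≫ y := by
      rw [e1, Category.assoc, h₀, ← Category.assoc,
        toUnit_unique (fst X (𝟙_ _) ≫ toUnit X) (snd X (𝟙_ _))]
    have e3 : (X ◁ t₀).left ≫ g = (snd X (𝟙_ _)).left ≫ t₀.left :=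
      congrArg Over.Hom.left (whiskerLeft_snd X t₀)
    have hinj : (snd X (𝟙_ _)).left w = s := by
      have h1 : t₀.left ((snd X (𝟙_ _)).left w) = t₀.left s := (congr($e3 w)).symm.trans hP
      have h2 := congrArg T.hom h1
      have h3 : t₀.left ≫ T.hom = 𝟙 S := Over.w t₀
      have h4 : ∀ s' : S, T.hom (t₀.left s') = s' := fun s' => congr($h3 s')
      exact (h4 _).symm.trans (h2.trans (h4 _))
    have e4 : (X ◁ t₀ ≫ F).left w = (snd X (𝟙_ _) ≫ y).left w := by rw [e2]
    exact e4.trans (congrArg y.left hinj)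
  have huniv : constSet g F.left = Set.univ := by
    refine Set.eq_univ_of_forall fun t => ?_
    have hs : T.hom (t₀.left (T.hom t)) = T.hom t := congr($(Over.w t₀) (T.hom t))
    exact (hT (T.hom t)).subset_isClopen hcl ⟨_, hs, hsec _⟩ rfl
  have hp := push_of_smooth g hg l.left hl
  obtain ⟨k, hk⟩ := hp.exists_factor F.left g.isClosedMap huniv
  have hk' : k = l.left ≫ F.left := by rw [← hk, reassoc_of% hl]
  ext1
  rw [← hk, hk']
  rfl

/-- The relevant form for groups: trivial on both axes ⇒ trivial. -/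
theorem eq_one_of_axes (hX : H0 X.hom) (e : 𝟙_ (Over S) ⟶ X) {T Y : Over S} [IsSeparated Y.hom]
    [GrpObj Y] (hT : ∀ s : S, _root_.IsPreconnected (T.hom ⁻¹' {s})) (F : X ⊗ T ⟶ Y)
    (t₀ : 𝟙_ (Over S) ⟶ T) (h₀ : lift (𝟙 X) (toUnit X ≫ t₀) ≫ F = 1)
    (h₁ : lift (toUnit T ≫ e) (𝟙 T) ≫ F = 1) : F = 1 := by
  rw [factor_of_axis hX e hT F t₀ η[Y] (h₀.trans Hom.one_def), h₁, MonObj.comp_one]

/-- Pointed morphisms of abelian schemes into separated groups are homomorphisms. -/
theorem isMonHom_of_pointed [GrpObj X] (hX : H0 X.hom) [GeometricallyConnected X.hom] {Y : Over S}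
    [GrpObj Y] [IsSeparated Y.hom] (f : X ⟶ Y) (hf : η[X] ≫ f = η[Y]) : IsMonHom f := by
  let F : X ⊗ X ⟶ Y := (fst X X * snd X X) ≫ f * (fst X X ≫ f * snd X X ≫ f)⁻¹
  have h1f : ∀ T : Over S, (1 : T ⟶ X) ≫ f = 1 := fun T => by
    rw [Hom.one_def, Category.assoc, hf, ← Hom.one_def]
  have hp : ∀ {T : Over S} (a b : T ⟶ X),
      lift a b ≫ F = (a * b) ≫ f * (a ≫ f * b ≫ f)⁻¹ := fun a b => by
    simp only [F, MonObj.comp_mul, GrpObj.comp_inv, ← Category.assoc, lift_fst, lift_snd,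
      MonObj.comp_mul]
  have hF : F = 1 := by
    refine eq_one_of_axes hX η[X] (fun s => (X.hom.isConnected_preimage_singleton s).isPreconnected) F
      η[X] ?_ ?_
    · rw [← Hom.one_def, hp, _root_.mul_one, h1f, _root_.mul_one, mul_inv_cancel]
    · rw [← Hom.one_def, hp, _root_.one_mul, h1f, _root_.one_mul, mul_inv_cancel]
  refine ⟨hf, ?_⟩
  have h2 := hp (fst X X) (snd X X)
  rw [hF, lift_fst_snd, Category.id_comp, eq_comm, mul_inv_eq_one] at h2
  rw [MonObj.mul_eq_mul, h2, Hom.mul_def]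
  congr 1

/-- Abelian schemes (in the weak sense) are smooth with constant functions on the fibres. -/
theorem smooth_and_H0 (X : Over S) [GrpObj X] [IsProper X.hom] [Flat X.hom]
    [LocallyOfFinitePresentation X.hom] [GeometricallyReduced X.hom]
    [GeometricallyConnected X.hom] : Smooth X.hom ∧ H0 X.hom :=
  ⟨Groth.Agent.S7795.result X, H0.of_geometrically X.hom⟩

end Groth.Agent.H2.Rigid
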