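import Mathlib.AlgebraicGeometry.GammaSpecAdjunction
import Mathlib.Algebra.Category.Ring.FilteredColimits
import Mathlib.CategoryTheory.Limits.Types.Filtered
import Mathlib.AlgebraicGeometry.Morphisms.Affine
import Mathlib.AlgebraicGeometry.Noetherian
import Mathlib.RingTheory.FiniteType

/-!
# An affine scheme as the limit of the spectra of the finitely generated `ℤ`-subalgebras
-/

universe u

open CategoryTheory Limits AlgebraicGeometry Opposite

namespace Groth.Agent.H2.Rigid.SubDiagram

variable (B : CommRingCat.{u})

/-- The finitely generated subalgebras. -/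
noncomputable def ringDiagram : Finset B ⥤ CommRingCat.{u} where
  obj s := CommRingCat.of (Algebra.adjoin ℤ (s : Set B))
  map {s t} h := CommRingCat.ofHom
    (Subalgebra.inclusion (Algebra.adjoin_mono (R := ℤ) (Finset.coe_subset.2 (leOfHom h)))).toRingHom
  map_id s := by ext x; rfl
  map_comp _ _ := by ext x; rfl

/-- The ring is the union. -/
noncomputable def ringCocone : Cocone (ringDiagram B) where
  pt := B
  ι := { app := fun s => CommRingCat.ofHom (Algebra.adjoin ℤ (s : Set B)).val.toRingHom
         naturality := fun _ _ _ => by ext x; rfl }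

/-- The ring is the colimit of its finitely generated subalgebras. -/
noncomputable def isColimitRingCocone : IsColimit (ringCocone B) := by
  classical
  haveI : IsFiltered (Finset B) := inferInstance
  haveI : PreservesColimit (ringDiagram B) (forget CommRingCat.{u}) := inferInstance
  haveI : ReflectsColimit (ringDiagram B) (forget CommRingCat.{u}) :=
    reflectsColimit_of_reflectsIsomorphisms _ _
  apply isColimitOfReflects (forget CommRingCat.{u})
  refine Types.FilteredColimit.isColimitOf' _ _ (fun x => ?_) (fun i x y h => ?_)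
  · exact ⟨{(x : B)}, ⟨x, Algebra.subset_adjoin (Finset.mem_coe.2 (Finset.mem_singleton_self _))⟩, rfl⟩
  · exact ⟨i, 𝟙 i, by rw [Subtype.ext (h : (x : Algebra.adjoin ℤ (i : Set B)).1 = y.1)]⟩

/-- The spectra of the finitely generated subalgebras. -/
noncomputable def diagram : (Finset B)ᵒᵖ ⥤ Scheme.{u} :=
  (ringDiagram B).op ⋙ Scheme.Spec

/-- The cone with point `Spec B`. -/
noncomputable def cone : Cone (diagram B) :=
  Scheme.Spec.mapCone (ringCocone B).op

/-- `Spec B` is the limit. -/
noncomputable def isLimitCone : IsLimit (cone B) :=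
  isLimitOfPreserves Scheme.Spec (isColimitRingCocone B).op

theorem cone_pt : (cone B).pt = Spec B := rfl

instance isAffine_obj (s : (Finset B)ᵒᵖ) : IsAffine ((diagram B).obj s) :=
  inferInstanceAs (IsAffine (Spec _))

instance isLocallyNoetherian_obj (s : (Finset B)ᵒᵖ) : IsLocallyNoetherian ((diagram B).obj s) := by
  let A := Algebra.adjoin ℤ ((s.unop : Finset B) : Set B)
  haveI : Algebra.FiniteType ℤ A :=
    (Subalgebra.fg_iff_finiteType _).1 (Subalgebra.fg_def.2 ⟨_, (s.unop).finite_toSet, rfl⟩)
  haveI : IsNoetherianRing A := Algebra.FiniteType.isNoetherianRing ℤ A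
  haveI : IsNoetherianRing ↥((ringDiagram B).obj s.unop) := ‹IsNoetherianRing A›
  exact inferInstanceAs (IsLocallyNoetherian (Spec ((ringDiagram B).obj s.unop)))

instance isAffineHom_map {s t : (Finset B)ᵒᵖ} (h : s ⟶ t) : IsAffineHom ((diagram B).map h) :=
  isAffineHom_of_isAffine _

end Groth.Agent.H2.Rigid.SubDiagram
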