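import Groth.Agent.H2.Rigid.Push
import Groth.Agent.H2.Rigid.SubDiagram
import Groth.Agent.Lib.Lim.SmoothEtale
import Groth.Agent.Lib.Lim.Valuative
import Mathlib.AlgebraicGeometry.Morphisms.Smooth

/-!
# `g_* O = O` for proper smooth morphisms with a section over an arbitrary base
-/

universe u

open CategoryTheory Limits AlgebraicGeometry TopologicalSpace IsLocalRing Opposite
open Groth.Agent.Lib.Lim Groth.Agent.Lib.Lim.Basic

namespace Groth.Agent.H2.Rigid

/-- Over a Noetherian base, a function killed by the section vanishes at each point whose fibre has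
only constant functions. -/
theorem germ_eq_zero_of_section {X T : Scheme.{u}} [IsLocallyNoetherian T] (g : X ⟶ T) [IsProper g]
    [Flat g] (s : T ⟶ X) (hs : s ≫ g = 𝟙 _) (a : Γ(X, ⊤)) (ha : s.appTop.hom a = 0) (x : X)
    (hx : Function.Surjective (g.fiberToSpecResidueField (g x)).appTop.hom) :
    X.presheaf.germ ⊤ x trivial a = 0 := by
  let A := T.presheaf.stalk (g x)
  let h : Spec A ⟶ T := T.fromSpecStalk (g x)
  let g' := pullback.snd g h
  haveI : Flat g' := inferInstanceAs (Flat (pullback.snd g h))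
  haveI : IsProper g' := inferInstanceAs (IsProper (pullback.snd g h))
  let s' : Spec A ⟶ pullback g h := pullback.lift (h ≫ s) (𝟙 _) (by simp [hs])
  have hsq := (IsPullback.of_hasPullback g' (cpt A)).paste_horiz (IsPullback.of_hasPullback g h)
  have h0 : Function.Surjective (pullback.snd g' (cpt A)).appTop.hom := by
    have e : cpt A ≫ h = T.fromSpecResidueField (g x) := rfl
    rw [e] at hsq
    have h1 : hsq.isoPullback.inv ≫ pullback.snd g' (cpt A) = g.fiberToSpecResidueField (g x) :=
      hsq.isoPullback_inv_snd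
    intro y
    obtain ⟨z, hz⟩ := hx ((hsq.isoPullback.inv).appTop.hom y)
    haveI : IsIso hsq.isoPullback.inv.appTop :=
      inferInstanceAs (IsIso (Scheme.Γ.map hsq.isoPullback.inv.op))
    refine ⟨z, (ConcreteCategory.bijective_of_isIso hsq.isoPullback.inv.appTop).1 ?_⟩
    exact ((congr($(Scheme.Hom.comp_appTop hsq.isoPullback.inv (pullback.snd g' (cpt A))).hom z)).symm.trans
      ((congr($(congrArg Scheme.Hom.appTop h1).hom z)).trans hz))
  have key : (pullback.fst g h).appTop.hom a = 0 := by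
    apply eq_zero_of_section g' s' (pullback.lift_snd _ _ _) h0
    have e : (pullback.fst g h).appTop ≫ s'.appTop = s.appTop ≫ h.appTop := by
      rw [← Scheme.Hom.comp_appTop, ← Scheme.Hom.comp_appTop, pullback.lift_fst]
    exact (congr($(e).hom a)).trans ((congrArg h.appTop.hom ha).trans (map_zero h.appTop.hom))
  obtain ⟨z, hz, -⟩ := Scheme.Pullback.exists_preimage_pullback x (closedPoint A)
    (f := g) (g := h) (Scheme.fromSpecStalk_closedPoint).symm
  have := germ_eq_zero_of_flat (pullback.fst g h) a key z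
  rwa [hz] at this

/-- A stage carrying a smooth proper model with a section and a given function. -/
theorem exists_model {I : Type u} [SmallCategory I] [IsCofiltered I] [∀ i j : I, Subsingleton (i ⟶ j)]
    (D : I ⥤ Scheme.{u}) (c : Cone D) (hc : IsLimit c) [∀ i, IsAffine (D.obj i)]
    {X : Scheme.{u}} (f : X ⟶ c.pt) [IsProper f] [Smooth f] [CompactSpace X] [QuasiSeparatedSpace X]
    (σ : c.pt ⟶ X) (hσ : σ ≫ f = 𝟙 _) (a : Γ(X, ⊤)) :
    ∃ (l : I) (Xl : Scheme.{u}) (gl : Xl ⟶ D.obj l) (q : X ⟶ Xl) (τ : D.obj l ⟶ Xl)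
      (al : Γ(Xl, ⊤)),
      IsPullback q f gl (c.π.app l) ∧ IsProper gl ∧ Smooth gl ∧ τ ≫ gl = 𝟙 _ ∧
        σ ≫ q = c.π.app l ≫ τ ∧ q.appTop.hom al = a := by
  haveI : ∀ {i j : I} (g : i ⟶ j), IsAffineHom (D.map g) := fun g => isAffineHom_of_isAffine _
  have hD : ∀ (i j : I) (g : i ⟶ j), IsAffineHom (D.map g) := fun _ _ g => inferInstance
  obtain ⟨i, Xi, fi, qi, hXc, hXq, hfi, hi⟩ := FPDescend.exists_descent hc f
  obtain ⟨k₁, φ₁, h₁⟩ := SmoothEtale.smooth_descends D c hc hD i inferInstance inferInstance fi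
    hXc hXq hfi f qi hi inferInstance
  obtain ⟨k₂, φ₂, h₂⟩ := Valuative.isProper_descends D c hc hD i inferInstance inferInstance fi
    hXc hXq inferInstance f qi hi inferInstance
  have := fun j => compactSpace_bcDiagram D fi j
  have := fun j => quasiSeparatedSpace_bcDiagram D fi j
  obtain ⟨j, aj, haj⟩ := exists_appTop_π_eq_of_isLimit (bcDiagram D fi) (bcCone hi.w)
    (isLimitBcCone hc hi) a
  obtain ⟨k', α₁, α₂, -⟩ := IsCofilteredOrEmpty.cone_objs k₁ k₂
  obtain ⟨k, β, γ, -⟩ := IsCofilteredOrEmpty.cone_objs k' j.left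
  let φ : k ⟶ i := γ ≫ j.hom
  let Xk := pullback fi (D.map φ)
  let gk : Xk ⟶ D.obj k := pullback.snd fi (D.map φ)
  let qk : X ⟶ Xk := pullback.lift qi (f ≫ c.π.app k) (by rw [Category.assoc, c.w, hi.w])
  have hk : IsPullback qk f gk (c.π.app k) := FPDescend.move hi φ
  haveI : Smooth gk :=
    Descend.prop_of_factor (P := @Smooth) h₁ (D.map (β ≫ α₁)) (by
      rw [← D.map_comp, Subsingleton.elim ((β ≫ α₁) ≫ φ₁) φ]) (IsPullback.of_hasPullback _ _)
  haveI : IsProper gk :=
    Descend.prop_of_factor (P := @IsProper) h₂ (D.map (β ≫ α₂)) (by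
      rw [← D.map_comp, Subsingleton.elim ((β ≫ α₂) ≫ φ₂) φ]) (IsPullback.of_hasPullback _ _)
  let ak : Γ(Xk, ⊤) := ((bcDiagram D fi).map (Over.homMk γ : Over.mk φ ⟶ j)).appTop.hom aj
  have hak : qk.appTop.hom ak = a := by
    have e : qk ≫ (bcDiagram D fi).map (Over.homMk γ : Over.mk φ ⟶ j) = (bcCone hi.w).π.app j :=
      (bcCone hi.w).w (Over.homMk γ : Over.mk φ ⟶ j)
    exact (congr($(congrArg Scheme.Hom.appTop e).hom aj)).trans haj.symm
  obtain ⟨l, ψ, g', hg', hg'σ⟩ := exists_bc_hom (D := D) (c := c) (i₀ := k) (T := D.obj k)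
    (a := 𝟙 _) (P := c.pt) (p := 𝟙 _) (q := c.π.app k) hc
    (IsPullback.of_vert_isIso ⟨by simp⟩) gk (𝟙 _) (σ ≫ qk)
    (by rw [Category.assoc, hk.w, reassoc_of% hσ, Category.comp_id])
  let Xl := pullback gk (D.map ψ)
  let ql : X ⟶ Xl := pullback.lift qk (f ≫ c.π.app l) (by rw [Category.assoc, c.w, hk.w])
  have hl : IsPullback ql f (pullback.snd gk (D.map ψ)) (c.π.app l) := FPDescend.move hk ψ
  let w : D.obj l ⟶ pullback (𝟙 (D.obj k)) (D.map ψ) := pullback.lift (D.map ψ) (𝟙 _) (by simp)
  have hw : (w ≫ g') ≫ gk = 𝟙 _ ≫ D.map ψ := by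
    rw [Category.assoc, hg', Category.comp_id]
    exact pullback.lift_fst _ _ _
  refine ⟨l, Xl, pullback.snd gk (D.map ψ), ql, pullback.lift (w ≫ g') (𝟙 _) hw,
    (pullback.fst gk (D.map ψ)).appTop.hom ak, hl, inferInstance, inferInstance,
    pullback.lift_snd _ _ _, ?_, ?_⟩
  · apply pullback.hom_ext
    · simp only [ql, Category.assoc, pullback.lift_fst]
      refine hg'σ.symm.trans ((congrArg (fun m => m ≫ g') ?_).trans (Category.assoc _ _ _))
      apply pullback.hom_ext
      · simp only [w, Category.assoc, pullback.lift_fst, c.w]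
      · simp only [w, Category.assoc, pullback.lift_snd, Category.comp_id, Category.id_comp]
    · simp only [ql, Category.assoc, pullback.lift_snd, Category.comp_id]
      rw [reassoc_of% hσ]
  · rw [← CommRingCat.comp_apply, ← Scheme.Hom.comp_appTop, pullback.lift_fst, hak]

/-- Over a limit of affine Noetherian stages: a function killed by a section is zero. -/
theorem eq_zero_of_section_limit {I : Type u} [SmallCategory I] [IsCofiltered I]
    [∀ i j : I, Subsingleton (i ⟶ j)] (D : I ⥤ Scheme.{u}) (c : Cone D) (hc : IsLimit c)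
    [∀ i, IsAffine (D.obj i)] [∀ i, IsLocallyNoetherian (D.obj i)] [IsAffine c.pt] {X : Scheme.{u}}
    (f : X ⟶ c.pt) [IsProper f] [Smooth f] (hf : H0 f) (σ : c.pt ⟶ X) (hσ : σ ≫ f = 𝟙 _)
    (a : Γ(X, ⊤)) (ha : σ.appTop.hom a = 0) : a = 0 := by
  haveI : CompactSpace X := (quasiCompact_iff_compactSpace f).mp inferInstance
  haveI : QuasiSeparatedSpace X := quasiSeparatedSpace_of_quasiSeparated f
  obtain ⟨l, Xl, gl, q, τ, al, hsq, hp, hsm, hτ, hστ, hal⟩ := exists_model D c hc f σ hσ a
  haveI := hp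
  haveI := hsm
  let bl := al - gl.appTop.hom (τ.appTop.hom al)
  have hτb : τ.appTop.hom bl = 0 := by
    rw [map_sub, ← CommRingCat.comp_apply gl.appTop, ← Scheme.Hom.comp_appTop, hτ]
    simp
  have hqb : q.appTop.hom bl = a := by
    rw [map_sub, hal, ← CommRingCat.comp_apply gl.appTop, ← Scheme.Hom.comp_appTop, hsq.w,
      ← CommRingCat.comp_apply τ.appTop, ← Scheme.Hom.comp_appTop, Category.assoc, ← hστ,
      Scheme.Hom.comp_appTop, Scheme.Hom.comp_appTop, CommRingCat.comp_apply,
      CommRingCat.comp_apply, hal, ha, map_zero, sub_zero]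
  refine eq_zero_of_germ a fun x => ?_
  have h0 : X.presheaf.germ ⊤ x trivial (q.appTop.hom bl) = 0 := by
    have hfib : Function.Surjective (gl.fiberToSpecResidueField (gl (q x))).appTop.hom := by
      have e : gl (q x) = c.π.app l (f x) := congr($(hsq.w) x)
      rw [e]
      let π : c.pt ⟶ D.obj l := c.π.app l
      let r := π.residueFieldMap (f x)
      letI : Algebra ((D.obj l).residueField (π (f x)))
          (c.pt.residueField (f x)) := r.hom.toAlgebra
      haveI : QuasiCompact (gl.fiberToSpecResidueField (π (f x))) :=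
        inferInstanceAs (QuasiCompact (pullback.snd gl _))
      haveI : QuasiSeparated (gl.fiberToSpecResidueField (π (f x))) :=
        inferInstanceAs (QuasiSeparated (pullback.snd gl _))
      have sq := (IsPullback.of_hasPullback f (c.pt.fromSpecResidueField (f x))).paste_horiz hsq
      have hr : Spec.map r ≫ (D.obj l).fromSpecResidueField (π (f x)) =
          c.pt.fromSpecResidueField (f x) ≫ π :=
        π.SpecMap_residueFieldMap_fromSpecResidueField (f x)
      rw [← hr] at sq
      have sq' := IsPullback.of_right (h₁₁ := (IsPullback.of_hasPullback gl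
          ((D.obj l).fromSpecResidueField (π (f x)))).lift
          (pullback.fst f _ ≫ q) (pullback.snd f _ ≫ Spec.map r)
          (by rw [Category.assoc (pullback.snd f _), ← sq.w]))
        (by rw [IsPullback.lift_fst]; exact sq)
        (IsPullback.lift_snd _ _ _ _) (IsPullback.of_hasPullback gl _)
      exact @surjective_of_baseChange _ (c.pt.residueField (f x)) _ _ r.hom.toAlgebra _
        (gl.fiberToSpecResidueField (π (f x))) _ _ _ _ _ sq' (hf (f x))
    have hz := germ_eq_zero_of_section gl τ hτ bl hτb (q x) hfib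
    exact (Scheme.Hom.germ_stalkMap_apply q ⊤ x trivial bl).symm.trans
      ((congrArg (q.stalkMap x).hom hz).trans (map_zero (q.stalkMap x).hom))
  rwa [hqb] at h0

/-- Over an affine base: a function killed by a section is zero. -/
theorem eq_zero_of_section_affine {B : CommRingCat.{u}} {X : Scheme.{u}} (f : X ⟶ Spec B)
    [IsProper f] [Smooth f] (hf : H0 f) (σ : Spec B ⟶ X) (hσ : σ ≫ f = 𝟙 _) (a : Γ(X, ⊤))
    (ha : σ.appTop.hom a = 0) : a = 0 := by
  haveI : IsAffine (SubDiagram.cone B).pt := inferInstanceAs (IsAffine (Spec B))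
  exact @eq_zero_of_section_limit _ _ _ _ (SubDiagram.diagram B) (SubDiagram.cone B)
    (SubDiagram.isLimitCone B) _ _ _ X f ‹IsProper f› ‹Smooth f› hf σ hσ a ha

/-- A function killed by a section of a proper smooth morphism is zero. -/
theorem eq_zero_of_section_smooth {X T : Scheme.{u}} (g : X ⟶ T) [IsProper g] [Smooth g]
    (hg : H0 g) (σ : T ⟶ X) (hσ : σ ≫ g = 𝟙 _) (a : Γ(X, ⊤)) (ha : σ.appTop.hom a = 0) : a = 0 := by
  refine eq_zero_of_germ a fun x => ?_
  let A := T.presheaf.stalk (g x)
  let h : Spec A ⟶ T := T.fromSpecStalk (g x)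
  haveI : IsProper (pullback.snd g h) := inferInstance
  haveI : Smooth (pullback.snd g h) := inferInstance
  have key : (pullback.fst g h).appTop.hom a = 0 := by
    apply eq_zero_of_section_affine (pullback.snd g h) (hg.pullback_snd g h)
      (pullback.lift (h ≫ σ) (𝟙 _) (by simp [hσ])) (pullback.lift_snd _ _ _)
    rw [← CommRingCat.comp_apply, ← Scheme.Hom.comp_appTop, pullback.lift_fst,
      Scheme.Hom.comp_appTop, CommRingCat.comp_apply, ha, map_zero]
  obtain ⟨z, hz, -⟩ := Scheme.Pullback.exists_preimage_pullback x (closedPoint A)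
    (f := g) (g := h) (Scheme.fromSpecStalk_closedPoint).symm
  have := germ_eq_zero_of_flat (pullback.fst g h) a key z
  rwa [hz] at this

/-- Proper smooth with a section and constant functions on the fibres: `g_* O = O`. -/
theorem push_of_smooth {X T : Scheme.{u}} (g : X ⟶ T) [IsProper g] [Smooth g] (hg : H0 g)
    (σ : T ⟶ X) (hσ : σ ≫ g = 𝟙 _) : Push g := by
  intro U
  let g' := g ∣_ U
  have hU := isPullback_morphismRestrict g U
  haveI : IsProper g' := MorphismProperty.of_isPullback hU.flip inferInstance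
  haveI : Smooth g' := MorphismProperty.of_isPullback hU.flip inferInstance
  let σ' : (U : Scheme.{u}) ⟶ g ⁻¹ᵁ U :=
    hU.flip.lift (U.ι ≫ σ) (𝟙 _) (by rw [Category.assoc, hσ, Category.comp_id, Category.id_comp])
  have hσ' : σ' ≫ g' = 𝟙 _ := hU.flip.lift_snd _ _ _
  have hret : g'.appTop ≫ σ'.appTop = 𝟙 _ := by
    rw [← Scheme.Hom.comp_appTop, hσ']; simp
  have h : Function.Bijective g'.appTop.hom := by
    refine ⟨Function.LeftInverse.injective (g := σ'.appTop.hom) fun y => congr($(hret).hom y),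
      fun y => ⟨σ'.appTop.hom y, ?_⟩⟩
    refine (sub_eq_zero.1 (eq_zero_of_section_smooth g' (hg.of_isPullback hU.flip) σ' hσ' _ ?_)).symm
    rw [map_sub, sub_eq_zero]
    exact (congr($(hret).hom (σ'.appTop.hom y))).symm
  rw [morphismRestrict_appTop] at h
  have key : ∀ {V : T.Opens}, V = U → Function.Bijective (g.app V).hom →
      Function.Bijective (g.app U).hom := by rintro V rfl h; exact h
  exact key (U.ι_image_top) ((Function.Bijective.of_comp_iff' (ConcreteCategory.bijective_of_isIso
    (X.presheaf.map (eqToHom (image_morphismRestrict_preimage g U ⊤)).op)) _).1 h)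

end Groth.Agent.H2.Rigid
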