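import Groth.Agent.H2.Rigid.Formal
import Mathlib.AlgebraicGeometry.Sites.Fpqc
import Mathlib.RingTheory.Flat.Localization
import Mathlib.RingTheory.Flat.FaithfullyFlat.Algebra
import Mathlib.Algebra.MvPolynomial.CommRing

/-!
# `g_* O = O` for proper flat morphisms over a locally Noetherian base
-/

universe u

open CategoryTheory Limits AlgebraicGeometry TopologicalSpace IsLocalRing Opposite

namespace Groth.Agent.H2.Rigid

instance flat_fromSpecStalk {X : Scheme.{u}} (x : X) : Flat (X.fromSpecStalk x) := by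
  obtain ⟨_, ⟨U, hU, rfl⟩, hxU, -⟩ := X.isBasis_affineOpens.exists_subset_of_mem_open
    (Set.mem_univ x) isOpen_univ
  rw [← hU.fromSpecStalk_eq_fromSpecStalk hxU]
  unfold IsAffineOpen.fromSpecStalk
  have : Flat (Spec.map (X.presheaf.germ U x hxU)) := by
    rw [HasRingHomProperty.Spec_iff (P := @Flat)]
    letI : Algebra Γ(X, U) (X.presheaf.stalk x) := (X.presheaf.germ U x hxU).hom.toAlgebra
    haveI := hU.isLocalization_stalk ⟨x, hxU⟩
    exact RingHom.flat_algebraMap_iff.2 (IsLocalization.flat _ (hU.primeIdealOf ⟨x, hxU⟩).asIdeal.primeCompl)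
  haveI := hU.isOpenImmersion_fromSpec
  haveI : Flat hU.fromSpec := inferInstance
  exact MorphismProperty.comp_mem @Flat _ _ ‹_› ‹_›

theorem stalkMap_injective_of_flat {X Y : Scheme.{u}} (f : X ⟶ Y) [Flat f] (x : X) :
    Function.Injective (f.stalkMap x).hom := by
  algebraize [(f.stalkMap x).hom]
  haveI : Module.Flat (Y.presheaf.stalk (f x)) (X.presheaf.stalk x) := Flat.stalkMap f x
  haveI : IsLocalHom (algebraMap (Y.presheaf.stalk (f x)) (X.presheaf.stalk x)) :=
    inferInstanceAs (IsLocalHom (f.stalkMap x).hom)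
  haveI := Module.FaithfullyFlat.of_flat_of_isLocalHom (A := Y.presheaf.stalk (f x))
    (B := X.presheaf.stalk x)
  exact FaithfulSMul.algebraMap_injective (Y.presheaf.stalk (f x)) (X.presheaf.stalk x)

/-- A function vanishes at `y` if its pullback along a flat morphism vanishes at a point over `y`. -/
theorem germ_eq_zero_of_flat {X Y : Scheme.{u}} (f : X ⟶ Y) [Flat f] (a : Γ(Y, ⊤))
    (ha : f.appTop.hom a = 0) (x : X) : Y.presheaf.germ ⊤ (f x) trivial a = 0 := by
  apply stalkMap_injective_of_flat f x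
  rw [map_zero]
  refine (Scheme.Hom.germ_stalkMap_apply f ⊤ x trivial a).trans ?_
  exact (congrArg _ ha).trans (map_zero _)

theorem eq_zero_of_germ {X : Scheme.{u}} (a : Γ(X, ⊤))
    (h : ∀ x : X, X.presheaf.germ ⊤ x trivial a = 0) : a = 0 := by
  refine TopCat.Presheaf.IsSheaf.section_ext X.IsSheaf (fun x _ => ?_)
  obtain ⟨W, hxW, i₁, i₂, e⟩ := X.presheaf.germ_eq (U := ⊤) (V := ⊤) x trivial trivial a 0
    ((h x).trans (map_zero _).symm)
  exact ⟨W, le_top, hxW, e⟩

/-- With a section, a global function killed by the section is zero. -/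
theorem eq_zero_of_section' {X T : Scheme.{u}} [IsLocallyNoetherian T] (g : X ⟶ T) [IsProper g]
    [Flat g] (hg : H0 g) (s : T ⟶ X) (hs : s ≫ g = 𝟙 _) (a : Γ(X, ⊤))
    (ha : s.appTop.hom a = 0) : a = 0 := by
  refine eq_zero_of_germ a fun x => ?_
  let A := T.presheaf.stalk (g x)
  let h : Spec A ⟶ T := T.fromSpecStalk (g x)
  let g' := pullback.snd g h
  haveI : Flat g' := inferInstanceAs (Flat (pullback.snd g h))
  haveI : IsProper g' := inferInstanceAs (IsProper (pullback.snd g h))
  let s' : Spec A ⟶ pullback g h := pullback.lift (h ≫ s) (𝟙 _) (by simp [hs])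
  have h0 : Function.Surjective (pullback.snd g' (cpt A)).appTop.hom :=
    hg.isPullback ((IsPullback.of_hasPullback g' (cpt A)).paste_horiz (IsPullback.of_hasPullback g h))
  have key : (pullback.fst g h).appTop.hom a = 0 := by
    apply eq_zero_of_section g' s' (pullback.lift_snd _ _ _) h0
    have e : (pullback.fst g h).appTop ≫ s'.appTop = s.appTop ≫ h.appTop := by
      rw [← Scheme.Hom.comp_appTop, ← Scheme.Hom.comp_appTop, pullback.lift_fst]
    exact (congr($(e).hom a)).trans ((congrArg h.appTop.hom ha).trans (map_zero h.appTop.hom))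
  obtain ⟨z, hz, -⟩ := Scheme.Pullback.exists_preimage_pullback x (closedPoint A)
    (f := g) (g := h) (Scheme.fromSpecStalk_closedPoint).symm
  have hfl : Flat (pullback.fst g h) := inferInstance
  have := germ_eq_zero_of_flat (pullback.fst g h) a key z
  rwa [hz] at this

theorem H0.of_isPullback {X T X' T' : Scheme.{u}} {g : X ⟶ T} {g' : X' ⟶ T'} {a : X' ⟶ X}
    {b : T' ⟶ T} [QuasiCompact g] [QuasiSeparated g] (hg : H0 g) (h : IsPullback a g' g b) :
    H0 g' := fun t =>
  hg.isPullback ((IsPullback.of_hasPullback g' (T'.fromSpecResidueField t)).paste_horiz h)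

/-- The ring `ℤ[T]`. -/
noncomputable abbrev ZT : CommRingCat.{u} := .of (MvPolynomial PUnit.{u + 1} (ULift.{u} ℤ))

/-- Evaluation `ℤ[T] → R`, `T ↦ a`. -/
noncomputable def evalFn {R : CommRingCat.{u}} (a : R) : ZT.{u} ⟶ R :=
  CommRingCat.ofHom
    (MvPolynomial.eval₂Hom ((Int.castRingHom R).comp (ULift.ringEquiv.{0, u} (R := ℤ)).toRingHom)
      fun _ => a)

theorem evalFn_X {R : CommRingCat.{u}} (a : R) :
    (evalFn a).hom (MvPolynomial.X PUnit.unit) = a :=
  MvPolynomial.eval₂Hom_X' _ _ _

theorem evalFn_comp {R S : CommRingCat.{u}} (φ : R ⟶ S) (a : R) :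
    evalFn a ≫ φ = evalFn (φ.hom a) :=
  CommRingCat.hom_ext (MvPolynomial.ringHom_ext (fun r => by simp [evalFn]) (fun i => by simp [evalFn]))

/-- A function as a morphism to the affine line over `ℤ`. -/
noncomputable def fnHom {X : Scheme.{u}} (a : Γ(X, ⊤)) : X ⟶ Spec ZT.{u} :=
  X.toSpecΓ ≫ Spec.map (evalFn a)

theorem comp_fnHom {X Y : Scheme.{u}} (h : Y ⟶ X) (a : Γ(X, ⊤)) :
    h ≫ fnHom a = fnHom (h.appTop.hom a) := by
  rw [fnHom, fnHom, Scheme.toSpecΓ_naturality_assoc, ← evalFn_comp h.appTop a]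
  exact congrArg _ (Spec.map_comp _ _).symm

theorem fnHom_appTop {X : Scheme.{u}} (a : Γ(X, ⊤)) :
    (fnHom a).appTop.hom ((Scheme.ΓSpecIso ZT.{u}).inv.hom (MvPolynomial.X PUnit.unit)) = a := by
  have e : (Scheme.ΓSpecIso ZT.{u}).inv ≫ (fnHom a).appTop = evalFn a := by
    rw [fnHom, Scheme.Hom.comp_appTop, Scheme.toSpecΓ_appTop]
    exact (Scheme.ΓSpecIso_inv_naturality_assoc _ _).symm.trans (by simp)
  exact (congr($(e).hom _)).trans (evalFn_X a)

/-- `g_* O = O`. -/
def Push {X T : Scheme.{u}} (g : X ⟶ T) : Prop :=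
  ∀ U : T.Opens, Function.Bijective (g.app U).hom

theorem Push.restrict {X T : Scheme.{u}} {g : X ⟶ T} (h : Push g) (W : T.Opens) : Push (g ∣_ W) := by
  intro V
  rw [morphismRestrict_app]
  exact (ConcreteCategory.bijective_of_isIso
    (X.presheaf.map (eqToHom (image_morphismRestrict_preimage g W V)).op)).comp (h _)

theorem appTop_bijective {X T : Scheme.{u}} [IsLocallyNoetherian T] (g : X ⟶ T) [IsProper g]
    [Flat g] [Surjective g] (hg : H0 g) : Function.Bijective g.appTop.hom := by
  constructor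
  · rw [injective_iff_map_eq_zero]
    intro a ha
    refine eq_zero_of_germ a fun t => ?_
    obtain ⟨x, rfl⟩ := g.surjective t
    exact germ_eq_zero_of_flat g a ha x
  · intro a
    have : IsLocallyNoetherian X := LocallyOfFiniteType.isLocallyNoetherian g
    have : IsProper (pullback.fst g g) := inferInstance
    have hΔ : (pullback.fst g g).appTop.hom a - (pullback.snd g g).appTop.hom a = 0 := by
      apply eq_zero_of_section' (pullback.fst g g) (hg.of_isPullback (IsPullback.of_hasPullback g g).flip)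
        (pullback.lift (𝟙 X) (𝟙 X) rfl) (pullback.lift_fst _ _ _)
      rw [map_sub, sub_eq_zero, ← CommRingCat.comp_apply, ← CommRingCat.comp_apply,
        ← Scheme.Hom.comp_appTop, ← Scheme.Hom.comp_appTop, pullback.lift_fst, pullback.lift_snd]
    rw [sub_eq_zero] at hΔ
    let u : T ⟶ Spec ZT.{u} := EffectiveEpi.desc g (fnHom a) (fun {Z} g₁ g₂ h => by
      rw [← pullback.lift_fst g₁ g₂ h, Category.assoc, comp_fnHom, hΔ, ← comp_fnHom,
        pullback.lift_snd_assoc])
    have hu : g ≫ u = fnHom a := EffectiveEpi.fac _ _ _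
    refine ⟨u.appTop.hom ((Scheme.ΓSpecIso ZT.{u}).inv.hom (MvPolynomial.X PUnit.unit)), ?_⟩
    rw [← CommRingCat.comp_apply, ← Scheme.Hom.comp_appTop, hu, fnHom_appTop]

/-- Proper, flat, surjective, constant functions on fibres: `g_* O = O`. -/
theorem push_of_flat {X T : Scheme.{u}} [IsLocallyNoetherian T] (g : X ⟶ T) [IsProper g]
    [Flat g] [Surjective g] (hg : H0 g) : Push g := by
  intro U
  haveI : IsLocallyNoetherian (U : Scheme.{u}) := isLocallyNoetherian_of_isOpenImmersion U.ι
  haveI : IsProper (g ∣_ U) := MorphismProperty.of_isPullback (isPullback_morphismRestrict g U).flip inferInstance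
  haveI : Flat (g ∣_ U) := MorphismProperty.of_isPullback (isPullback_morphismRestrict g U).flip inferInstance
  haveI : Surjective (g ∣_ U) := MorphismProperty.of_isPullback (isPullback_morphismRestrict g U).flip inferInstance
  have h := appTop_bijective (g ∣_ U) (hg.of_isPullback (isPullback_morphismRestrict g U).flip)
  rw [morphismRestrict_appTop] at h
  have key : ∀ {V : T.Opens}, V = U → Function.Bijective (g.app V).hom →
      Function.Bijective (g.app U).hom := by rintro V rfl h; exact h
  refine key (U.ι_image_top) ((Function.Bijective.of_comp_iff' (ConcreteCategory.bijective_of_isIso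
    (X.presheaf.map (eqToHom (image_morphismRestrict_preimage g U ⊤)).op)) _).1 h)

end Groth.Agent.H2.Rigid
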