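import Groth.Agent.H2.Rigid.Formal
import Groth.Agent.H2.Rigid.Push
import Mathlib.RingTheory.Flat.FaithfullyFlat.Algebra
import Mathlib.RingTheory.AdicCompletion.Basic

/-!
# Functions on flat schemes over complete local rings whose closed fibre has only constants
-/

set_option autoImplicit false

universe u

open CategoryTheory Limits AlgebraicGeometry TopologicalSpace IsLocalRing Opposite

noncomputable section

namespace Groth.Agent.H2.Rigid.Complete

variable {A : CommRingCat.{u}} [IsLocalRing A] {X : Scheme.{u}} (f : X ⟶ Spec A)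

/-- A constant function. -/
def cst (c : A) : Γ(X, ⊤) := f.appTop.hom ((Scheme.ΓSpecIso A).inv.hom c)

omit [IsLocalRing A] in
theorem res_cst (U : X.Opens) (c : A) :
    (X.presheaf.map (homOfLE (le_top : U ≤ ⊤)).op).hom (cst f c) = phi f U c := by
  have e : f.appTop ≫ X.presheaf.map (homOfLE (le_top : U ≤ ⊤)).op =
      f.appLE ⊤ U (le_top.trans_eq (Scheme.Hom.preimage_top f).symm) := rfl
  exact congr($(e).hom ((Scheme.ΓSpecIso A).inv.hom c))

variable [Flat f] (h0 : Function.Surjective (pullback.snd f (cpt A)).appTop.hom)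

include h0 in
/-- Modulo `I` a function congruent to zero modulo `I + (ε)`, `m ε ⊆ I`, is a constant multiple of `ε`. -/
theorem step {I : Ideal A} {ε : A} (hm : ∀ x ∈ maximalIdeal A, x * ε ∈ I) (a : Γ(X, ⊤))
    (h : Vanish f a (I ⊔ Ideal.span {ε})) : ∃ l : A, ∀ V : X.affineOpens,
      (X.presheaf.map (homOfLE le_top).op).hom a - phi f V.1 (l * ε) ∈ I.map (phi f V.1) := by
  by_cases hε : ε ∈ I
  · rw [sup_eq_left.2 ((Ideal.span_singleton_le_iff_mem I).2 hε)] at h
    exact ⟨0, fun V => by simpa using h V⟩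
  let P := pullback f (cpt A)
  let i := pullback.fst f (cpt A)
  let p := pullback.snd f (cpt A)
  -- the coefficients
  have hdec : ∀ U : X.affineOpens, ∃ c : Γ(X, U.1),
      (X.presheaf.map (homOfLE le_top).op).hom a - c * phi f U.1 ε ∈ I.map (phi f U.1) := by
    intro U
    have h := h U
    rw [Ideal.map_sup, Ideal.map_span, Set.image_singleton, Submodule.mem_sup] at h
    obtain ⟨y, hy, z, hz, e⟩ := h
    obtain ⟨c, rfl⟩ := Ideal.mem_span_singleton'.1 hz
    exact ⟨c, by rw [← e, add_sub_cancel_right]; exact hy⟩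
  choose c hc using hdec
  have huniq : ∀ (W : X.affineOpens) (y : Γ(X, W.1)),
      phi f W.1 ε * y ∈ I.map (phi f W.1) → (i.app W.1).hom y = 0 := by
    intro W y hy
    letI := (phi f W.1).toAlgebra
    haveI : Module.Flat A Γ(X, W.1) := flat_phi f W.2
    have := mem_map_maximalIdeal_of_mul_mem I ε hε hm y hy
    refine Ideal.mem_comap.1 (Ideal.map_le_iff_le_comap (K := RingHom.ker (i.app W.1).hom).2 ?_ this)
    intro m hm'
    rw [Ideal.mem_comap, RingHom.mem_ker]
    change (i.app W.1).hom (phi f W.1 m) = 0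
    rw [phi_fst, (residue_eq_zero_iff m).2 hm', map_zero, map_zero, map_zero]
  -- they glue to a constant on the closed fibre
  obtain ⟨g, hg, -⟩ := P.sheaf.existsUnique_gluing' (fun V : X.affineOpens => i ⁻¹ᵁ V.1) ⊤
    (fun _ => homOfLE le_top) (fun x _ => by
      obtain ⟨_, ⟨V, hV, rfl⟩, hxV, -⟩ := X.isBasis_affineOpens.exists_subset_of_mem_open
        (Set.mem_univ (i x)) isOpen_univ
      exact Opens.mem_iSup.2 ⟨⟨V, hV⟩, hxV⟩)
    (fun V => (i.app V.1).hom (c V)) (by
      intro V V'
      refine TopCat.Presheaf.IsSheaf.section_ext P.IsSheaf (fun x hx => ?_)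
      obtain ⟨_, ⟨W, hW, rfl⟩, hxW, hWle⟩ := X.isBasis_affineOpens.exists_subset_of_mem_open
        (show i x ∈ ((V.1 ⊓ V'.1 : X.Opens) : Set X) from hx) (V.1 ⊓ V'.1).isOpen
      refine ⟨i ⁻¹ᵁ W, fun z hz => ⟨(hWle hz).1, (hWle hz).2⟩, hxW, ?_⟩
      have hWV : W ≤ V.1 := fun z hz => (hWle hz).1
      have hWV' : W ≤ V'.1 := fun z hz => (hWle hz).2
      have key := huniq ⟨W, hW⟩ ((X.presheaf.map (homOfLE hWV).op).hom (c V) -
        (X.presheaf.map (homOfLE hWV').op).hom (c V')) (by
        have d1 := res_mem_map f I hWV (hc V)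
        have d2 := res_mem_map f I hWV' (hc V')
        rw [map_sub, map_mul, res_phi, ← CommRingCat.comp_apply, ← Functor.map_comp] at d1 d2
        have := sub_mem d2 d1
        convert this using 1
        simp only [homOfLE_leOfHom, ← op_comp, homOfLE_comp]
        ring)
      rw [map_sub, sub_eq_zero] at key
      simp only [← CommRingCat.comp_apply, Scheme.Hom.naturality] at key
      change (P.presheaf.map _).hom ((P.presheaf.map _).hom _) =
        (P.presheaf.map _).hom ((P.presheaf.map _).hom _)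
      simp only [← CommRingCat.comp_apply, ← Functor.map_comp, Category.assoc]
      exact key)
  obtain ⟨l, hl⟩ : ∃ l : A, p.appTop.hom
      ((Scheme.ΓSpecIso (.of (ResidueField A))).inv.hom (residue A l)) = g := by
    obtain ⟨z, hz⟩ := h0 g
    obtain ⟨z', rfl⟩ := (ConcreteCategory.bijective_of_isIso
      (Scheme.ΓSpecIso (.of (ResidueField A))).inv).2 z
    obtain ⟨l, rfl⟩ := residue_surjective z'
    exact ⟨l, hz⟩
  have hdiff : ∀ V : X.affineOpens,
      (X.presheaf.map (homOfLE le_top).op).hom a - phi f V.1 (l * ε) ∈ I.map (phi f V.1) := by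
    intro V
    have h1 : (i.app V.1).hom (c V - phi f V.1 l) = 0 := by
      rw [map_sub, sub_eq_zero, phi_fst, hl]
      exact (hg V).symm
    have h2 := mem_of_app_eq_zero f V.2 _ h1
    have h3 : (c V - phi f V.1 l) * phi f V.1 ε ∈ I.map (phi f V.1) := by
      have := Ideal.mul_mem_mul h2 (Ideal.mem_map_of_mem (phi f V.1) (Ideal.mem_span_singleton_self ε))
      rw [← Ideal.map_mul] at this
      refine Ideal.map_mono ?_ this
      rw [Ideal.mul_le]
      intro m hm' z hz
      obtain ⟨w, rfl⟩ := Ideal.mem_span_singleton'.1 hz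
      rw [mul_left_comm]
      exact I.mul_mem_left _ (hm m hm')
    have := add_mem (hc V) h3
    convert this using 1
    rw [map_mul]; ring
  exact ⟨l, hdiff⟩

include h0 in
/-- Modulo every power of the maximal ideal a function is constant. -/
theorem exists_const_pow [IsNoetherianRing A] (n : ℕ) :
    ∀ a : Γ(X, ⊤), ∃ c : A, Vanish f (a - cst f c) (maximalIdeal A ^ n) := by
  classical
  induction n with
  | zero => exact fun a => ⟨0, fun U => by simp [Ideal.map_top]⟩
  | succ n ih =>
    intro a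
    obtain ⟨c, hc⟩ := ih a
    obtain ⟨S, hS⟩ := (IsNoetherian.noetherian (maximalIdeal A ^ n) : (maximalIdeal A ^ n).FG)
    suffices H : ∀ T : Finset A, T ⊆ S → ∀ b : Γ(X, ⊤),
        Vanish f b (maximalIdeal A ^ (n + 1) ⊔ Ideal.span T) →
          ∃ c : A, Vanish f (b - cst f c) (maximalIdeal A ^ (n + 1)) by
      obtain ⟨d, hd⟩ := H S subset_rfl _ fun U => Ideal.map_mono (le_sup_of_le_right hS.ge) (hc U)
      refine ⟨c + d, ?_⟩
      rw [cst, map_add, map_add, ← sub_sub]
      exact hd
    intro T hT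
    induction T using Finset.induction_on with
    | empty => exact fun b hb => ⟨0, by simpa [cst] using hb⟩
    | @insert x T hxT ihT =>
      intro b hb
      rw [Finset.coe_insert, Ideal.span_insert, sup_comm (Ideal.span {x}), ← sup_assoc] at hb
      obtain ⟨l, hl⟩ := step f h0 (ε := x) (fun m hm => Ideal.mem_sup_left (by
        rw [pow_succ', ← hS]
        exact Ideal.mul_mem_mul hm (Ideal.subset_span (hT (Finset.mem_insert_self x T))))) b hb
      obtain ⟨d, hd⟩ := ihT (fun z hz => hT (Finset.mem_insert_of_mem hz)) (b - cst f (l * x))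
        fun U => by rw [map_sub, res_cst]; exact hl U
      refine ⟨l * x + d, ?_⟩
      rw [cst, map_add, map_add, ← sub_sub]
      exact hd

omit h0 in
/-- A constant which vanishes modulo `I` lies in `I`. -/
theorem mem_of_vanish (x : X) (hx : f x = closedPoint A) {I : Ideal A} {c : A}
    (h : Vanish f (cst f c) I) : c ∈ I := by
  obtain ⟨_, ⟨U, hU, rfl⟩, hxU, -⟩ := X.isBasis_affineOpens.exists_subset_of_mem_open
    (Set.mem_univ x) isOpen_univ
  let ψ : A →+* X.presheaf.stalk x := (X.presheaf.germ U x hxU).hom.comp (phi f U)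
  have hψ : ψ.Flat := RingHom.Flat.comp (flat_phi f hU) (by
    let _ := TopCat.Presheaf.algebra_section_stalk X.presheaf (⟨x, hxU⟩ : U)
    have := hU.isLocalization_stalk ⟨x, hxU⟩
    exact RingHom.flat_algebraMap_iff.2
      (IsLocalization.flat (X.presheaf.stalk x) (hU.primeIdealOf ⟨x, hxU⟩).asIdeal.primeCompl))
  have hle : (maximalIdeal A).map ψ ≤ maximalIdeal (X.presheaf.stalk x) := by
    rw [Ideal.map_le_iff_le_comap]
    intro m hm
    rw [Ideal.mem_comap, mem_maximalIdeal, mem_nonunits_iff]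
    intro hu
    have h1 : x ∈ X.basicOpen (phi f U m) := (Scheme.mem_basicOpen _ _ x hxU).2 hu
    have h2 : x ∈ U ⊓ f ⁻¹ᵁ (Spec A).basicOpen ((Scheme.ΓSpecIso A).inv.hom m) :=
      (Scheme.basicOpen_appLE f U ⊤ (le_top.trans_eq (Scheme.Hom.preimage_top f).symm) _).le h1
    have h3 : closedPoint A ∈ (Spec A).basicOpen ((Scheme.ΓSpecIso A).inv.hom m) := hx ▸ h2.2
    rw [basicOpen_eq_of_affine'] at h3
    exact h3 ((congr($((Scheme.ΓSpecIso A).inv_hom_id).hom m)).symm ▸ hm)
  have hc : ψ c ∈ I.map ψ := by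
    have := Ideal.mem_map_of_mem (X.presheaf.germ U x hxU).hom (h ⟨U, hU⟩)
    rw [res_cst, Ideal.map_map] at this
    exact this
  letI := ψ.toAlgebra
  haveI : Module.Flat A (X.presheaf.stalk x) := hψ
  haveI : IsLocalHom (algebraMap A (X.presheaf.stalk x)) :=
    ((local_hom_TFAE ψ).out 2 0).1 hle
  haveI : Module.FaithfullyFlat A (X.presheaf.stalk x) :=
    @Module.FaithfullyFlat.of_flat_of_isLocalHom _ _ _ _ _ _ _ ‹_› ‹_›
  exact (Ideal.comap_map_eq_self_of_faithfullyFlat (A := A) (B := X.presheaf.stalk x) I).le hc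

omit h0 in
/-- A function vanishing modulo all powers of the maximal ideal is zero when `f` is closed. -/
theorem eq_zero_of_vanish [IsNoetherianRing A] [IsLocallyNoetherian X] (hcl : IsClosedMap f) (a : Γ(X, ⊤))
    (hv : ∀ n : ℕ, Vanish f a (maximalIdeal A ^ n)) : a = 0 := by
  have key : ∀ x : X, f x = closedPoint A → X.presheaf.germ ⊤ x trivial a = 0 := by
    intro x hx
    obtain ⟨_, ⟨U, hU, rfl⟩, hxU, -⟩ := X.isBasis_affineOpens.exists_subset_of_mem_open
      (Set.mem_univ x) isOpen_univ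
    have hle : (maximalIdeal A).map ((X.presheaf.germ U x hxU).hom.comp (phi f U)) ≤
        maximalIdeal (X.presheaf.stalk x) := by
      rw [Ideal.map_le_iff_le_comap]
      intro m hm
      rw [Ideal.mem_comap, mem_maximalIdeal, mem_nonunits_iff]
      intro hu
      have h1 : x ∈ X.basicOpen (phi f U m) := (Scheme.mem_basicOpen _ _ x hxU).2 hu
      have h2 : x ∈ U ⊓ f ⁻¹ᵁ (Spec A).basicOpen ((Scheme.ΓSpecIso A).inv.hom m) :=
        (Scheme.basicOpen_appLE f U ⊤ (le_top.trans_eq (Scheme.Hom.preimage_top f).symm) _).le h1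
      have h3 : closedPoint A ∈ (Spec A).basicOpen ((Scheme.ΓSpecIso A).inv.hom m) := hx ▸ h2.2
      rw [basicOpen_eq_of_affine'] at h3
      exact h3 ((congr($((Scheme.ΓSpecIso A).inv_hom_id).hom m)).symm ▸ hm)
    rw [← TopCat.Presheaf.germ_res_apply X.presheaf (homOfLE (le_top : U ≤ ⊤)) x hxU a]
    have : ∀ n : ℕ, (X.presheaf.germ U x hxU).hom ((X.presheaf.map (homOfLE le_top).op).hom a) ∈
        maximalIdeal (X.presheaf.stalk x) ^ n := fun n => by
      have := Ideal.mem_map_of_mem (X.presheaf.germ U x hxU).hom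
        (hv n ⟨U, hU⟩)
      rw [Ideal.map_map, Ideal.map_pow] at this
      exact Ideal.pow_right_mono hle n this
    have hb := Submodule.mem_iInf _ |>.2 this
    rwa [Ideal.iInf_pow_eq_bot_of_isLocalRing _ (maximalIdeal.isMaximal _).ne_top,
      Submodule.mem_bot] at hb
  refine TopCat.Presheaf.IsSheaf.section_ext X.IsSheaf (fun x _ => ?_)
  obtain ⟨_, ⟨y, hy, rfl⟩, hyc⟩ : ∃ c ∈ f '' closure {x}, c = closedPoint A := by
    have hcl : IsClosed (f '' closure {x}) := hcl _ isClosed_closure
    exact ⟨_, (specializes_closedPoint (f x)).mem_closed hcl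
      ⟨x, subset_closure rfl, rfl⟩, rfl⟩
  have hxy : x ⤳ y := specializes_iff_mem_closure.2 hy
  obtain ⟨W, hyW, i₁, i₂, e⟩ := X.presheaf.germ_eq (U := ⊤) (V := ⊤) y trivial trivial a 0
    ((key y hyc).trans (map_zero _).symm)
  exact ⟨W, le_top, hxy.mem_open W.2 hyW, e⟩


omit [Flat f] h0 in
/-- Constants of the closed fibre: the hypothesis of the preceding results. -/
theorem fibre_facts {C : Type u} [CommRing C] [IsLocalRing C] {X X₀ : Scheme.{u}}
    (g : X ⟶ Spec (CommRingCat.of C)) (i : X₀ ⟶ X)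
    (f₀ : X₀ ⟶ Spec (CommRingCat.of (C ⧸ IsLocalRing.maximalIdeal C)))
    (hsq : IsPullback i f₀ g
      (Spec.map (CommRingCat.ofHom (Ideal.Quotient.mk (IsLocalRing.maximalIdeal C)))))
    (h : Function.Bijective ((Scheme.ΓSpecIso (CommRingCat.of (C ⧸ IsLocalRing.maximalIdeal C))).inv ≫
      f₀.appTop)) :
    Function.Surjective (pullback.snd g (cpt (CommRingCat.of C))).appTop.hom ∧
      ∃ x : X, g x = closedPoint (CommRingCat.of C) := by
  have sq : IsPullback i f₀ g (cpt (CommRingCat.of C)) := hsq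
  refine ⟨fun y => ?_, ?_⟩
  · haveI : IsIso sq.isoPullback.hom.appTop :=
      inferInstanceAs (IsIso (Scheme.Γ.map sq.isoPullback.hom.op))
    obtain ⟨c, hc⟩ := h.2 (sq.isoPullback.hom.appTop.hom y)
    refine ⟨(Scheme.ΓSpecIso (CommRingCat.of (C ⧸ IsLocalRing.maximalIdeal C))).inv.hom c, ?_⟩
    apply (ConcreteCategory.bijective_of_isIso sq.isoPullback.hom.appTop).1
    have e : (pullback.snd g (cpt (CommRingCat.of C))).appTop ≫ sq.isoPullback.hom.appTop = f₀.appTop :=
      (Scheme.Hom.comp_appTop _ _).symm.trans (congrArg Scheme.Hom.appTop sq.isoPullback_hom_snd)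
    exact (congr($(e).hom _)).trans hc
  · have hne : Nonempty X₀ := by
      by_contra hne
      rw [not_nonempty_iff] at hne
      haveI : Nontrivial (C ⧸ IsLocalRing.maximalIdeal C) :=
        inferInstanceAs (Nontrivial (ResidueField C))
      exact zero_ne_one (h.1 (Subsingleton.elim _ _) : (0 : C ⧸ IsLocalRing.maximalIdeal C) = 1)
    obtain ⟨z⟩ := hne
    refine ⟨i z, ?_⟩
    rw [← Scheme.Hom.comp_apply, sq.w, Scheme.Hom.comp_apply]
    refine PrimeSpectrum.ext ?_
    let P : PrimeSpectrum (ResidueField C) := f₀ z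
    change P.asIdeal.comap (residue C) = IsLocalRing.maximalIdeal C
    have hz : P.asIdeal = ⊥ := P.asIdeal.eq_bot_or_top.resolve_right P.isPrime.ne_top
    rw [hz, ← RingHom.ker_eq_comap_bot, IsLocalRing.ker_residue]

/-- Flat over an Artinian local ring. -/
theorem bijective_of_isArtinian {C : Type u} [CommRing C] [IsLocalRing C] [IsArtinianRing C]
    {X : Scheme.{u}} (g : X ⟶ Spec (CommRingCat.of C)) [Flat g]
    (h : Function.Surjective (pullback.snd g (cpt (CommRingCat.of C))).appTop.hom)
    (x : X) (hx : g x = closedPoint (CommRingCat.of C)) :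
    Function.Bijective (cst g) := by
  obtain ⟨N, hN⟩ : IsNilpotent (IsLocalRing.maximalIdeal (CommRingCat.of C)) := by
    rw [← IsLocalRing.jacobson_eq_maximalIdeal (⊥ : Ideal C) bot_ne_top]
    exact IsArtinianRing.isNilpotent_jacobson_bot
  refine ⟨fun a b hab => ?_, fun a => ?_⟩
  · rw [← sub_eq_zero]
    have h1 : a - b ∈ (⊥ : Ideal (CommRingCat.of C)) :=
      mem_of_vanish g x hx fun U => by
        have e : cst g (a - b) = 0 := by
          change g.appTop.hom _ = 0
          rw [map_sub, map_sub, sub_eq_zero]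
          exact hab
        rw [e, map_zero]; exact zero_mem _
    simpa using h1
  · haveI : IsNoetherianRing (CommRingCat.of C) := inferInstanceAs (IsNoetherianRing C)
    obtain ⟨c, hc⟩ := exists_const_pow g h N a
    refine ⟨c, (sub_eq_zero.1 (TopCat.Presheaf.IsSheaf.section_ext X.IsSheaf (fun y _ => ?_))).symm⟩
    obtain ⟨_, ⟨U, hU, rfl⟩, hyU, -⟩ := X.isBasis_affineOpens.exists_subset_of_mem_open
      (Set.mem_univ y) isOpen_univ
    refine ⟨U, le_top, hyU, ?_⟩
    have := hc ⟨U, hU⟩
    rw [hN, Ideal.zero_eq_bot, Ideal.map_bot, Ideal.mem_bot] at this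
    rw [map_zero]
    exact this

/-- Closed flat over a complete Noetherian local ring. -/
theorem bijective_of_isAdicComplete {C : Type u} [CommRing C] [IsLocalRing C] [IsNoetherianRing C]
    [IsAdicComplete (IsLocalRing.maximalIdeal C) C] {X : Scheme.{u}}
    (g : X ⟶ Spec (CommRingCat.of C)) [Flat g] [IsLocallyNoetherian X] (hcl : IsClosedMap g)
    (h : Function.Surjective (pullback.snd g (cpt (CommRingCat.of C))).appTop.hom)
    (x : X) (hx : g x = closedPoint (CommRingCat.of C)) :
    Function.Bijective (cst g) := by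
  haveI : IsNoetherianRing (CommRingCat.of C) := inferInstanceAs (IsNoetherianRing C)
  let m : Ideal (CommRingCat.of C) := IsLocalRing.maximalIdeal (CommRingCat.of C)
  have hsub : ∀ a b, cst g (a - b) = cst g a - cst g b := fun a b => by simp [cst]
  have hinter : ∀ c : CommRingCat.of C, (∀ n : ℕ, c ∈ m ^ n) → c = 0 := fun c hc => by
    have hb := Submodule.mem_iInf _ |>.2 hc
    rwa [Ideal.iInf_pow_eq_bot_of_isLocalRing _ (IsLocalRing.maximalIdeal.isMaximal _).ne_top,
      Submodule.mem_bot] at hb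
  refine ⟨fun a b hab => sub_eq_zero.1 (hinter _ fun n => mem_of_vanish g x hx fun U => ?_), fun a => ?_⟩
  · rw [hsub, hab, sub_self, map_zero]; exact zero_mem _
  choose c hc using fun n => exists_const_pow g h n a
  have hcau : ∀ {p q : ℕ}, p ≤ q → c q - c p ∈ m ^ p := fun {p q} hpq =>
    mem_of_vanish g x hx fun U => by
      have h1 : (X.presheaf.map (homOfLE le_top).op).hom (a - cst g (c q)) ∈ (m ^ p).map (phi g U.1) :=
        Ideal.map_mono (Ideal.pow_le_pow_right hpq) (hc q U)
      have h2 := sub_mem (hc p U) h1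
      rw [← map_sub, sub_sub_sub_cancel_left, ← hsub] at h2
      exact h2
  obtain ⟨L, hL⟩ := IsPrecomplete.prec (I := IsLocalRing.maximalIdeal C) (M := C) inferInstance
    (f := c) fun {p q} hpq => by
      rw [SModEq.sub_mem, smul_eq_mul, Ideal.mul_top, ← neg_mem_iff, neg_sub]
      exact hcau hpq
  refine ⟨L, (sub_eq_zero.1 (eq_zero_of_vanish g hcl _ fun n U => ?_)).symm⟩
  have h1 := hL n
  rw [SModEq.sub_mem, smul_eq_mul, Ideal.mul_top] at h1
  have h2 := add_mem (hc n U) (Ideal.mem_map_of_mem (phi g U.1) h1)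
  rw [map_sub, res_cst, map_sub] at h2
  rw [map_sub, res_cst]
  simpa using h2

end Groth.Agent.H2.Rigid.Complete
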