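import Groth.Agent.H2.Rigid.Const
import Groth.Agent.Lib.GrpSch.SmoothReduced

/-! Smooth morphisms are geometrically reduced; finite presentation over a Noetherian base. -/

universe u

open CategoryTheory Limits AlgebraicGeometry

namespace Groth.Agent.H2.Rigid

theorem geometricallyReduced_of_smooth {X T : Scheme.{u}} (f : X ⟶ T) [Smooth f] :
    GeometricallyReduced f :=
  ⟨by
    intro K _ y Z a b h
    haveI : Smooth b := MorphismProperty.of_isPullback h inferInstance
    exact Groth.Agent.Lib.GrpSch.isReduced_of_smooth_field b⟩

theorem lfp_of_noetherian {X T : Scheme.{u}} [IsLocallyNoetherian T] (f : X ⟶ T)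
    [LocallyOfFiniteType f] : LocallyOfFinitePresentation f :=
  LocallyOfFinitePresentation.iff_locallyOfFiniteType.2 inferInstance

end Groth.Agent.H2.Rigid
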