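import Groth.Agent.H2.Rigid.AbScheme
import Groth.Agent.H2.Rigid.Smooth
import Groth.Agent.Lib.GrpSch.ConnFibre

/-!
# Abelian schemes given with connected fibres
-/

universe u

open CategoryTheory Limits MonoidalCategory CartesianMonoidalCategory MonObj AlgebraicGeometry

namespace Groth.Agent.H2.Rigid

variable {S : Scheme.{u}}

/-- A smooth proper group scheme with connected fibres is geometrically connected, with constant
functions on the fibres. -/
theorem conn_and_H0 (X : Over S) [GrpObj X] [IsProper X.hom] [Smooth X.hom]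
    (hX : ∀ s : S, ConnectedSpace ↥(X.hom.fiber s)) :
    GeometricallyConnected X.hom ∧ H0 X.hom := by
  have hc := Groth.Agent.Lib.GrpSch.geometricallyConnected_of_section X.hom η[X].left (Over.w η[X]) hX
  haveI := geometricallyReduced_of_smooth X.hom
  exact ⟨hc, H0.of_geometrically X.hom⟩

theorem isPreconnected_preimage (X : Over S) [GrpObj X] [IsProper X.hom] [Smooth X.hom]
    (hX : ∀ s : S, ConnectedSpace ↥(X.hom.fiber s)) (s : S) :
    _root_.IsPreconnected (X.hom ⁻¹' {s}) := by
  haveI := (conn_and_H0 X hX).1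
  haveI : UniversallyOpen X.hom := UniversallyOpen.of_flat X.hom
  exact (X.hom.isConnected_preimage_singleton s).isPreconnected

/-- A morphism `A ×_S B ⟶ C` of abelian schemes, trivial on both axes, is trivial. -/
theorem eq_one_of_axes' (A B C : Over S)
    [GrpObj A] [Smooth A.hom] [IsProper A.hom] (hA : ∀ s : S, ConnectedSpace ↥(A.hom.fiber s))
    [GrpObj B] [Smooth B.hom] [IsProper B.hom] (hB : ∀ s : S, ConnectedSpace ↥(B.hom.fiber s))
    [GrpObj C] [IsSeparated C.hom] (F : A ⊗ B ⟶ C)
    (h₀ : lift (𝟙 A) (1 : A ⟶ B) ≫ F = 1) (h₁ : lift (1 : B ⟶ A) (𝟙 B) ≫ F = 1) : F = 1 :=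
  eq_one_of_axes (conn_and_H0 A hA).2 η[A] (isPreconnected_preimage B hB) F η[B]
    (by rwa [← Hom.one_def]) (by rwa [← Hom.one_def])

end Groth.Agent.H2.Rigid
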