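import Groth.Agent.Lib.PointDim.Basic
import Groth.Agent.Lib.Cyc.LocalDim
import Groth.Agent.Lib.Cyc.DimFun
import Groth.Agent.Lib.GeomConn.Residue
import Groth.Agent.Lib.TopDim.Basic
import Mathlib.RingTheory.Ideal.KrullsHeightTheorem

/-! Dimension at a point: transcendence degree plus dimension of the local ring. -/

universe u

open CategoryTheory AlgebraicGeometry Groth.Agent.Lib.Cyc
attribute [local instance] Curv2.resAlgebra

namespace Groth.Agent.H2.Rigid.DimPoint

theorem fdelta_eq_trdeg (k : Type u) [Field k] (X : Scheme.{u})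
    [X.Over (Spec (CommRingCat.of k))] [LocallyOfFiniteType (X ↘ Spec (CommRingCat.of k))] (x : X) :
    Algebra.trdeg k (X.residueField x) =
      ((FieldDim.fdelta (X ↘ Spec (CommRingCat.of k)) x).toNat : Cardinal) := by
  rw [← FieldDim.trdegAt_eq_fdelta, Residue.trdegAt,
    Groth.Agent.Lib.PointDim.Basic.trdeg_residueFieldMap, Groth.Agent.Lib.PointDim.Basic.tdeg]
  have h : CommRingCat.ofHom (Curv2.resMap k X x) =
      Groth.Agent.Lib.PointDim.Basic.kToRes (X ↘ Spec (CommRingCat.of k)) x :=
    Spec.map_injective ((Groth.Agent.Lib.GeomConn.Residue.specMap_resMap k X x).trans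
      (Groth.Agent.Lib.PointDim.Basic.specMap_kToRes _ x).symm)
  rw [← h]

variable {K : Type u} [Field K] {X : Scheme.{u}} (f : X ⟶ Spec (CommRingCat.of K))
  [LocallyOfFiniteType f]

/-- `dim O_x + trdeg κ(x)` is the largest `trdeg κ(ξ)` over generisations `ξ` of `x`, i.e. the
local dimension. -/
theorem localDim_eq (x : X) (b : ℕ) (hb : ringKrullDim (X.presheaf.stalk x) = b) :
    FlatMor.localDim X x = (((FieldDim.fdelta f x).toNat + b : ℕ) : WithBot ℕ∞) := by
  have hδ := FieldDim.isDimFun_fdelta f
  have h0 := FieldDim.fdelta_nonneg f x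
  refine le_antisymm ((LocalDim.localDim_le_iff f x _).2 fun ξ hξ => ?_) ?_
  · have h1 := DimFun.krullDim_zeroLocus_genPrime hδ x ξ hξ
    have h2 : Order.krullDim (PrimeSpectrum.zeroLocus (R := X.presheaf.stalk x)
        (RingHom.ker (Cyc.specMap x ξ hξ) : Set (X.presheaf.stalk x))) ≤
        ringKrullDim (X.presheaf.stalk x) :=
      Order.krullDim_le_of_strictMono Subtype.val fun _ _ h => h
    rw [h1, hb] at h2
    have : (FieldDim.fdelta f ξ - FieldDim.fdelta f x).toNat ≤ b := by exact_mod_cast h2
    omega
  · obtain ⟨l, hl⟩ := Order.le_krullDim_iff.1 (le_of_eq hb.symm)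
    let g : PrimeSpectrum (X.presheaf.stalk x) → X := fun p => X.fromSpecStalk x p
    have hg : ∀ p q, p < q → FieldDim.fdelta f (g q) < FieldDim.fdelta f (g p) := fun p q hpq =>
      DimFun.lt_of_specializes hδ ((DimFun.fromSpecStalk_specializes_iff x p q).2 hpq.le)
        fun h => hpq.ne (DimFun.fromSpecStalk_injective x h)
    have key : ∀ i : ℕ, (hi : i < l.length + 1) →
        (i : ℤ) + FieldDim.fdelta f (g (l ⟨i, hi⟩)) ≤ FieldDim.fdelta f (g l.head) := by
      intro i
      induction i with
      | zero => intro hi; simp [RelSeries.head]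
      | succ i ih =>
        intro hi
        have h1 := ih (by omega)
        have h2 := hg _ _ (l.step ⟨i, by omega⟩)
        have h2' : FieldDim.fdelta f (g (l ⟨i + 1, hi⟩)) < FieldDim.fdelta f (g (l ⟨i, by omega⟩)) := h2
        omega
    have h3 := key l.length (Nat.lt_succ_self _)
    have h4 := DimFun.le_of_specializes hδ
      (DimFun.fromSpecStalk_specializes_self x (l ⟨l.length, Nat.lt_succ_self _⟩))
    by_contra hlt
    rw [not_le] at hlt
    rcases hn : (FieldDim.fdelta f x).toNat + b with _ | n
    · rw [hn] at hlt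
      refine absurd hlt (not_lt.mpr ?_)
      exact Groth.Agent.Lib.TopDim.Basic.localDim_nonneg x
    · rw [hn] at hlt
      have hle : FlatMor.localDim X x ≤ (n : WithBot ℕ∞) := by
        generalize FlatMor.localDim X x = d at hlt
        induction d with
        | bot => exact bot_le
        | coe d =>
          induction d with
          | top => simp at hlt
          | coe d =>
            have : d < n + 1 := by exact_mod_cast hlt
            exact_mod_cast Nat.lt_succ_iff.mp this
      have h5 := (LocalDim.localDim_le_iff f x n).1 hle _ (DimFun.fromSpecStalk_specializes_self x l.head)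
      have h5' : FieldDim.fdelta f (g l.head) ≤ n := h5
      have h4' : FieldDim.fdelta f x ≤
          FieldDim.fdelta f (g (l ⟨l.length, Nat.lt_succ_self _⟩)) := h4
      omega

/-- The local dimension of an open subset of an irreducible scheme. -/
theorem exists_dim_stalk [IsLocallyNoetherian X] (x : X) :
    ∃ b : ℕ, ringKrullDim (X.presheaf.stalk x) = b := by
  have h1 : ringKrullDim (X.presheaf.stalk x) ≠ ⊤ := ringKrullDim_ne_top
  have h2 : ringKrullDim (X.presheaf.stalk x) ≠ ⊥ := ringKrullDim_ne_bot
  generalize ringKrullDim (X.presheaf.stalk x) = d at h1 h2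
  induction d with
  | bot => exact absurd rfl h2
  | coe d =>
    induction d with
    | top => exact absurd rfl h1
    | coe d => exact ⟨d, rfl⟩

end Groth.Agent.H2.Rigid.DimPoint
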