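import Groth.Agent.H2.Rigid.Translate
import Groth.Agent.H2.FibreDimPullback
import Mathlib.AlgebraicGeometry.Geometrically.Integral
import Mathlib.Topology.Connected.LocallyConnected

/-!
# Morphisms from abelian varieties have equidimensional fibres
-/

universe u

open CategoryTheory Limits MonoidalCategory CartesianMonoidalCategory MonObj AlgebraicGeometry
open TopologicalSpace Topology

namespace Groth.Agent.H2.Rigid.EquiDim

open Translate

theorem isOpen_connectedComponent_of_noetherian {α : Type*} [TopologicalSpace α] [NoetherianSpace α]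
    (x : α) : IsOpen (connectedComponent x) := by
  have e : (connectedComponent x)ᶜ =
      ⋃₀ {Z ∈ irreducibleComponents α | Disjoint Z (connectedComponent x)} := by
    ext y
    constructor
    · intro hy
      refine ⟨irreducibleComponent y, ⟨irreducibleComponent_mem_irreducibleComponents y,
        Set.disjoint_left.2 fun z hz hzC => hy ?_⟩, mem_irreducibleComponent⟩
      have h1 := (irreducibleComponent_subset_connectedComponent (x := y)) hz
      rw [connectedComponent_eq hzC, ← connectedComponent_eq h1]
      exact mem_connectedComponent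
    · rintro ⟨Z, ⟨-, hd⟩, hyZ⟩
      exact Set.disjoint_left.1 hd hyZ
  rw [← isClosed_compl_iff, e, Set.sUnion_eq_biUnion]
  exact (NoetherianSpace.finite_irreducibleComponents.subset (Set.sep_subset _ _)).isClosed_biUnion
    fun Z hZ => isClosed_of_mem_irreducibleComponents Z hZ.1

theorem exists_open_subset_component {α : Type*} [TopologicalSpace α] [NoetherianSpace α]
    {Z : Set α} (hZ : Z ∈ irreducibleComponents α) :
    ∃ U : Set α, IsOpen U ∧ U.Nonempty ∧ U ⊆ Z := by
  obtain ⟨U, h1, h2, h3⟩ := NoetherianSpace.exists_isOpen_nonempty_subset_irreducibleComponent Z hZ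
  exact ⟨U, h1, h2, h3⟩

theorem fibreDimAt_eq_component {X Y : Scheme.{u}} (f : X ⟶ Y) [LocallyOfFiniteType f]
    [QuasiCompact f] (x : X) :
    FlatMor.fibreDimAt f x = FlatMor.localDim ↥(connectedComponentIn (f ⁻¹' {f x}) x)
      ⟨x, mem_connectedComponentIn (show x ∈ f ⁻¹' {f x} from rfl)⟩ := by
  haveI : IsLocallyNoetherian (f.fiber (f x)) :=
    LocallyOfFiniteType.isLocallyNoetherian (f.fiberToSpecResidueField (f x))
  haveI : AlgebraicGeometry.IsNoetherian (f.fiber (f x)) := {}
  haveI : NoetherianSpace ↥(f ⁻¹' {f x}) :=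
    (f.fiberHomeo (f x)).symm.isEmbedding.isInducing.noetherianSpace
  rw [Groth.Agent.Lib.FibreDim.Basic.fibreDimAt_eq]
  let F : Set X := f ⁻¹' {f x}
  let C := connectedComponentIn F x
  have hsub : C ⊆ F := connectedComponentIn_subset _ _
  have hpre : (Subtype.val ⁻¹' C : Set F) = connectedComponent (⟨x, rfl⟩ : F) := by
    have hx : x ∈ F := rfl
    show (Subtype.val ⁻¹' connectedComponentIn F x : Set F) = _
    rw [connectedComponentIn_eq_image hx, Set.preimage_image_eq _ Subtype.val_injective]
  have hop : IsOpen (Subtype.val ⁻¹' C : Set F) := by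
    rw [hpre]; exact isOpen_connectedComponent_of_noetherian _
  have hemb : IsOpenEmbedding (Set.inclusion hsub) := by
    refine ⟨(Topology.IsEmbedding.inclusion hsub), ?_⟩
    rw [Set.range_inclusion hsub]
    exact hop
  exact Groth.Agent.Lib.FibreDim.Basic.localDim_eq_of_isOpenEmbedding hemb
    ⟨x, mem_connectedComponentIn (show x ∈ F from rfl)⟩

variable {k : Type u} [Field k] (X : Over (Spec (CommRingCat.of k))) [GrpObj X]
  [IsProper X.hom] [ConnectedSpace X.left] {Y : Scheme.{u}} (q : Y ⟶ Spec (CommRingCat.of k))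
  [IsSeparated q] (f : X.left ⟶ Y) (hf : f ≫ q = X.hom)

include hf in
theorem fibreDimAt_rational (x : 𝟙_ (Over (Spec (CommRingCat.of k))) ⟶ X) :
    FlatMor.fibreDimAt f (pt x) = FlatMor.fibreDimAt f (pt η[X]) := by
  haveI : IsProper (f ≫ q) := hf ▸ inferInstance
  haveI : IsProper f := IsProper.of_comp f q
  rw [fibreDimAt_eq_component, fibreDimAt_eq_component]
  have himg := image_component q f hf x
  let e : ↥(connectedComponentIn (f ⁻¹' {f (pt η[X])}) (pt η[X])) ≃ₜ
      ↥(connectedComponentIn (f ⁻¹' {f (pt x)}) (pt x)) :=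
    ((transHomeo x).image _).trans (Homeomorph.setCongr himg)
  rw [← Groth.Agent.Lib.FibreDim.Basic.localDim_eq_of_homeomorph e]
  congr 1
  apply Subtype.ext
  show pt x = (trans x).left (pt η[X])
  rw [trans_apply, MonObj.one_eq_one, _root_.mul_one]

end Groth.Agent.H2.Rigid.EquiDim

namespace Groth.Agent.H2.Rigid.EquiDim

open Translate

/-- All local fibre dimensions of a morphism out of an abelian variety agree. -/
theorem fibreDimAt_eq_origin {k : Type u} [Field k] (X : Over (Spec (CommRingCat.of k))) [GrpObj X]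
    [IsProper X.hom] [GeometricallyIntegral X.hom] {Y : Scheme.{u}}
    (q : Y ⟶ Spec (CommRingCat.of k)) [IsSeparated q] (f : X.left ⟶ Y) (hf : f ≫ q = X.hom)
    (x : X.left) : FlatMor.fibreDimAt f x = FlatMor.fibreDimAt f (pt η[X]) := by
  haveI : LocallyOfFiniteType (f ≫ q) := hf ▸ inferInstance
  haveI : LocallyOfFiniteType f := locallyOfFiniteType_of_comp f q
  let K := X.left.residueField x
  obtain ⟨φ, hφ⟩ := Spec.map_surjective (X.left.fromSpecResidueField x ≫ X.hom)
  let b : Spec (CommRingCat.of K) ⟶ Spec (CommRingCat.of k) := Spec.map φ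
  let XK : Over (Spec (CommRingCat.of K)) := Over.mk (pullback.snd X.hom b)
  letI : GrpObj XK :=
    haveI : GrpObj (Over.mk X.hom) := inferInstanceAs (GrpObj X)
    Over.grpObjMkPullbackSnd (f := X.hom) (g := b)
  haveI : IsProper XK.hom := inferInstanceAs (IsProper (pullback.snd X.hom b))
  haveI : GeometricallyIntegral XK.hom := inferInstanceAs (GeometricallyIntegral (pullback.snd X.hom b))
  haveI : IsIntegral XK.left := GeometricallyIntegral.isIntegral_of_subsingleton XK.hom
  haveI : ConnectedSpace XK.left := inferInstance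
  let fK : XK.left ⟶ pullback q b := pullback.map X.hom b q b f (𝟙 _) (𝟙 _) (by simp [hf]) (by simp)
  have hfK : fK ≫ pullback.snd q b = XK.hom :=
    (pullback.lift_snd _ _ _).trans (Category.comp_id _)
  have sq : IsPullback (pullback.fst X.hom b) fK f (pullback.fst q b) := by
    refine IsPullback.of_bot ?_ (pullback.lift_fst _ _ _).symm (IsPullback.of_hasPullback q b)
    rw [hfK, hf]
    exact IsPullback.of_hasPullback X.hom b
  let xK : 𝟙_ (Over (Spec (CommRingCat.of K))) ⟶ XK :=
    Over.homMk (pullback.lift (X.left.fromSpecResidueField x) (𝟙 _) (by simp [b, hφ]))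
      (pullback.lift_snd _ _ _)
  have hxK : pullback.fst X.hom b (pt xK) = x := by
    show (xK.left ≫ pullback.fst X.hom b) (IsLocalRing.closedPoint K) = x
    have e : xK.left ≫ pullback.fst X.hom b = X.left.fromSpecResidueField x := pullback.lift_fst _ _ _
    rw [e]
    exact Scheme.fromSpecResidueField_apply x _
  have hηK : pullback.fst X.hom b (pt η[XK]) = pt η[X] := by
    have e : η[XK].left ≫ pullback.fst X.hom b = b ≫ η[X].left := by
      simp [XK, Over.grpObjMkPullbackSnd, Over.grpObjMkPullbackSnd_one, pullback.lift_fst]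
    exact (congr($e (IsLocalRing.closedPoint K))).trans
      (congrArg η[X].left (Subsingleton.elim (α := Spec (CommRingCat.of k)) _ _))
  have h1 := H2.FibreDimPullback.fibreDimAt_of_isPullback sq (pt xK)
  have h2 := H2.FibreDimPullback.fibreDimAt_of_isPullback sq (pt η[XK])
  rw [hxK] at h1
  rw [hηK] at h2
  rw [← h1, ← h2]
  exact fibreDimAt_rational XK (pullback.snd q b) fK hfK xK

end Groth.Agent.H2.Rigid.EquiDim
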