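import Groth.Agent.Lib.Kaehler.SmoothChart
import Groth.Agent.H83.EtaleCriterion
import Groth.Agent.H63.GrpDim
import Groth.Agent.H2.FibreDimPullback
import Mathlib.AlgebraicGeometry.Morphisms.Etale
import Mathlib.AlgebraicGeometry.Morphisms.FormallyUnramified
import Mathlib.RingTheory.OrzechProperty

/-!
# Unramified between smooth schemes of the same relative dimension is étale
-/

universe u

open CategoryTheory Limits MonoidalCategory CartesianMonoidalCategory MonObj AlgebraicGeometry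
open TensorProduct

namespace Groth.Agent.H2.Rigid

theorem etale_of_unramified_aux {A B C : Type u} [CommRing A] [CommRing B] [CommRing C] [Algebra A B]
    [Algebra B C] [Algebra A C] [IsScalarTower A B C] [Nontrivial B] [Nontrivial C] (n : ℕ)
    [Algebra.IsStandardSmoothOfRelativeDimension n A B]
    [Algebra.IsStandardSmoothOfRelativeDimension n A C]
    [Algebra.FormallyUnramified B C] : Algebra.Etale B C := by
  haveI := Algebra.IsStandardSmoothOfRelativeDimension.isStandardSmooth (R := A) (S := B) n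
  haveI := Algebra.IsStandardSmoothOfRelativeDimension.isStandardSmooth (R := A) (S := C) n
  have bB : Module.Basis (Fin n) B Ω[B⁄A] := Module.finBasisOfFinrankEq B _ (Module.finrank_eq_of_rank_eq
    (Algebra.IsStandardSmoothOfRelativeDimension.rank_kaehlerDifferential n))
  have bC : Module.Basis (Fin n) C Ω[C⁄A] := Module.finBasisOfFinrankEq C _ (Module.finrank_eq_of_rank_eq
    (Algebra.IsStandardSmoothOfRelativeDimension.rank_kaehlerDifferential n))
  let φ := KaehlerDifferential.mapBaseChange A B C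
  have hsurj : Function.Surjective φ := fun x =>
    (KaehlerDifferential.exact_mapBaseChange_map A B C x).1
      (Subsingleton.elim _ _)
  let ψ := φ.comp ((bB.baseChange C).equiv bC (Equiv.refl _)).symm.toLinearMap
  have hψ : Function.Bijective ψ := OrzechProperty.bijective_of_surjective_endomorphism ψ
    (hsurj.comp (LinearEquiv.surjective _))
  have hb : Function.Bijective φ :=
    (Function.Bijective.of_comp_iff _ ((bB.baseChange C).equiv bC (Equiv.refl _)).symm.bijective).1 hψ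
  haveI := Groth.Agent.H83.EtaleCriterion.formallyEtale_of_bijective A B C hb
  haveI : Algebra.FinitePresentation A C := inferInstance
  haveI : Algebra.FinitePresentation B C :=
    Algebra.FinitePresentation.of_restrict_scalars_finitePresentation A B C
  exact ⟨inferInstance, inferInstance⟩

/-- Unramified between smooth schemes of the same relative dimension is étale. -/
theorem etale_of_unramified {X Y S : Scheme.{u}} (g : X ⟶ S) (h : Y ⟶ S) [Smooth g] [Smooth h]
    (f : X ⟶ Y) (w : f ≫ h = g) [FormallyUnramified f]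
    (hdim : ∀ x, FlatMor.fibreDimAt g x = FlatMor.fibreDimAt h (f x)) : Etale f := by
  subst w
  rw [HasRingHomProperty.iff_exists_appLE (P := @Etale)
    ((RingHom.Etale.stableUnderComposition.stableUnderCompositionWithLocalizationAway
      (RingHom.Etale.propertyIsLocal.HoldsForLocalizationAway RingHom.Etale.containsIdentities)).1)]
  intro x
  obtain ⟨n, U₀, V₀, hU₀, hV₀, e₀, hxV₀, hstd₀⟩ :=
    Groth.Agent.Lib.Kaehler.SmoothChart.exists_std_chart (f ≫ h) x
  obtain ⟨n', U', W', hU', hW', e', hyW', hstd'⟩ :=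
    Groth.Agent.Lib.Kaehler.SmoothChart.exists_std_chart h (f x)
  have hn : n = n' := by
    have h1 := Groth.Agent.Lib.Kaehler.SmoothChart.fibreDimAt_of_chart hU₀ hV₀ e₀ hstd₀ hxV₀
    have h2 := Groth.Agent.Lib.Kaehler.SmoothChart.fibreDimAt_of_chart hU' hW' e' hstd' hyW'
    rw [hdim, h2] at h1
    exact_mod_cast h1.symm
  subst hn
  have hPa := RingHom.isStandardSmoothOfRelativeDimension_stableUnderCompositionWithLocalizationAway.{u} n
  have hPl := (RingHom.isStandardSmoothOfRelativeDimension_localizationPreserves.{u} n).away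
  -- move the chart of `Y` above `U₀`
  obtain ⟨r₁, s₁, hyW, e₁, hstd₁⟩ := exists_basicOpen_le_appLE_of_appLE_of_isAffine hPa.right hPl
    (f x) ⟨U₀, hU₀⟩ ⟨U', hU'⟩ ⟨W', hW'⟩ ⟨W', hW'⟩ hyW' hyW' e' hstd' (e₀ hxV₀)
  let U₁ := S.basicOpen r₁
  let W₁ := Y.basicOpen s₁
  -- move the chart of `X` above `U₁`, inside the preimage of `W₁`
  obtain ⟨_, ⟨V₁, hV₁, rfl⟩, hxV₁, hV₁sub⟩ :=
    X.isBasis_affineOpens.exists_subset_of_mem_open
      (show x ∈ ((f ⁻¹ᵁ W₁ : X.Opens) : Set X) from hyW) (f ⁻¹ᵁ W₁).2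
  obtain ⟨r₂, s₂, hxV, e₂, hstd₂⟩ := exists_basicOpen_le_appLE_of_appLE_of_isAffine hPa.right hPl
    x ⟨U₁, hU₀.basicOpen r₁⟩ ⟨U₀, hU₀⟩ ⟨V₁, hV₁⟩ ⟨V₀, hV₀⟩ hxV₁ hxV₀ e₀ hstd₀ (e₁ hyW)
  let U₂ := S.basicOpen r₂
  have hU₂ : IsAffineOpen U₂ := (hU₀.basicOpen r₁).basicOpen r₂
  have hW₁ : IsAffineOpen W₁ := hW'.basicOpen s₁
  let W₂ := Y.basicOpen (h.appLE U₁ W₁ e₁ r₂)
  have hW₂ : IsAffineOpen W₂ := hW₁.basicOpen _
  have hWeq : W₂ = W₁ ⊓ h ⁻¹ᵁ U₂ := by
    simp only [W₂, U₂, Scheme.preimage_basicOpen, Scheme.Hom.appLE, CommRingCat.comp_apply,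
      Scheme.basicOpen_res]
  have e₂' : W₂ ≤ h ⁻¹ᵁ U₂ := hWeq.le.trans inf_le_right
  have hVW : X.basicOpen s₂ ≤ f ⁻¹ᵁ W₂ := fun z hz =>
    hWeq.ge ⟨hV₁sub (X.basicOpen_le s₂ hz), e₂ hz⟩
  have hstdB : RingHom.IsStandardSmoothOfRelativeDimension n (h.appLE U₂ W₂ e₂').hom := by
    have := (hU₀.basicOpen r₁).isLocalization_basicOpen r₂
    have := hW₁.isLocalization_basicOpen (h.appLE U₁ W₁ e₁ r₂)
    show RingHom.IsStandardSmoothOfRelativeDimension n
      (h.appLE (S.basicOpen r₂) (Y.basicOpen (h.appLE U₁ W₁ e₁ r₂)) _).hom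
    rw [(hU₀.basicOpen r₁).appLE_eq_away_map h hW₁]
    exact hPl _ _ _ _ hstd₁
  refine ⟨⟨W₂, hW₂⟩, ⟨X.basicOpen s₂, hV₁.basicOpen s₂⟩, hxV, hVW, ?_⟩
  let φ := h.appLE U₂ W₂ e₂'
  let ψ := f.appLE W₂ (X.basicOpen s₂) hVW
  have hfu : ψ.hom.FormallyUnramified :=
    f.formallyUnramified_appLE hW₂ (hV₁.basicOpen s₂) hVW
  have hC : RingHom.IsStandardSmoothOfRelativeDimension n (φ ≫ ψ).hom := by
    simp only [φ, ψ, Scheme.Hom.appLE_comp_appLE]
    exact hstd₂
  letI := φ.hom.toAlgebra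
  letI := ψ.hom.toAlgebra
  letI := (φ ≫ ψ).hom.toAlgebra
  haveI : IsScalarTower Γ(S, U₂) Γ(Y, W₂) Γ(X, X.basicOpen s₂) := IsScalarTower.of_algebraMap_eq' rfl
  haveI : Algebra.IsStandardSmoothOfRelativeDimension n Γ(S, U₂) Γ(Y, W₂) := hstdB
  haveI : Algebra.IsStandardSmoothOfRelativeDimension n Γ(S, U₂) Γ(X, X.basicOpen s₂) := hC
  haveI : Algebra.FormallyUnramified Γ(Y, W₂) Γ(X, X.basicOpen s₂) := hfu
  haveI : Nontrivial Γ(Y, W₂) := (Y.presheaf.germ W₂ (f x) (hVW hxV)).hom.domain_nontrivial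
  haveI : Nontrivial Γ(X, X.basicOpen s₂) :=
    (X.presheaf.germ (X.basicOpen s₂) x hxV).hom.domain_nontrivial
  exact etale_of_unramified_aux (A := Γ(S, U₂)) (B := Γ(Y, W₂)) (C := Γ(X, X.basicOpen s₂)) n

/-- The fibre dimension of a group scheme is constant on each fibre. -/
theorem fibreDimAt_eq_of_group {S : Scheme.{u}} (X : Over S) [GrpObj X] [LocallyOfFiniteType X.hom]
    (x y : X.left) (h : X.hom x = X.hom y) :
    FlatMor.fibreDimAt X.hom x = FlatMor.fibreDimAt X.hom y := by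
  let F : Over (Spec (CommRingCat.of (S.residueField (X.hom x)))) := Over.mk (X.hom.fiberToSpecResidueField (X.hom x))
  letI : GrpObj F :=
    haveI : GrpObj (Over.mk X.hom) := inferInstanceAs (GrpObj X)
    (Over.grpObjMkPullbackSnd (f := X.hom) (g := S.fromSpecResidueField (X.hom x)) :)
  haveI : LocallyOfFiniteType F.hom :=
    inferInstanceAs (LocallyOfFiniteType (pullback.snd X.hom (S.fromSpecResidueField (X.hom x))))
  have key : ∀ z : X.left, X.hom z = X.hom x →
      FlatMor.fibreDimAt X.hom z = FlatMor.localDim ↥F.left (Groth.Agent.H63.GrpIrred.unitPt F) := by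
    intro z hz
    obtain ⟨z', hz'⟩ : z ∈ Set.range (X.hom.fiberι (X.hom x)) := by
      rw [X.hom.range_fiberι]; exact hz
    rw [← Groth.Agent.H63.GrpDim.localDim_eq_unit F z', ← hz']
    exact (Groth.Agent.Lib.FibreDim.Basic.localDim_preimage X.hom
        ((X.hom.fiberHomeo (X.hom x)) z')).symm.trans
      (Groth.Agent.Lib.FibreDim.Basic.localDim_eq_of_homeomorph (X.hom.fiberHomeo (X.hom x)) z')
  rw [key x rfl, key y h.symm]

end Groth.Agent.H2.Rigid
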