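import Groth.Agent.H2.Rigid.PushFlat
import Groth.Agent.H2.Rigid.Const

/-!
# The rigidity lemma for proper flat morphisms of finite presentation
-/

set_option autoImplicit false

universe u

open CategoryTheory Limits AlgebraicGeometry TopologicalSpace Opposite

namespace Groth.Agent.H2.Rigid

/-- Fibres with injective constants are non-empty. -/
theorem surjective_of_constants {X T : Scheme.{u}} (g : X ⟶ T)
    (h : ∀ t : T, Function.Injective (g.fiberToSpecResidueField t).appTop.hom) : Surjective g := by
  refine ⟨fun t => ?_⟩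
  by_contra hne
  haveI : IsEmpty ↥(g.fiber t) :=
    ⟨fun z => hne ⟨g.fiberι t z, (g.range_fiberι t).le ⟨z, rfl⟩⟩⟩
  have h01 : (0 : Γ(Spec (T.residueField t), ⊤)) = 1 :=
    h t (Subsingleton.elim _ _)
  have h2 := congrArg (Scheme.ΓSpecIso (T.residueField t)).hom.hom h01
  rw [map_zero, map_one] at h2
  exact zero_ne_one h2

variable {X T Y S : Scheme.{u}}

/-- Rigidity: over a connected base a morphism collapsing one fibre factors through the base. -/
theorem exists_factor_of_proper (g : X ⟶ T) [IsProper g] [Flat g] [LocallyOfFinitePresentation g]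
    [Surjective g] [ConnectedSpace T] (hg : H0 g) (f : X ⟶ Y) (p : T ⟶ S) (q : Y ⟶ S)
    [IsSeparated q] (hf : f ≫ q = g ≫ p) {t : T} (ht : t ∈ constSet g f) :
    ∃ k : T ⟶ Y, g ≫ k = f ∧ k ≫ q = p := by
  have hP := PushFlat.push_of_flat_fp g hg
  have huniv := constSet_eq_univ g f g.isClosedMap hg p q hf ht
  obtain ⟨k, hk⟩ := Push.exists_factor (f := f) hP g.isClosedMap huniv
  refine ⟨k, hk, hP.hom_ext ?_⟩
  rw [reassoc_of% hk, hf]

end Groth.Agent.H2.Rigid
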