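import Groth.Agent.H2.Rigid.FibreIsoRing
import Mathlib.AlgebraicGeometry.ZariskisMainTheorem
import Mathlib.AlgebraicGeometry.Morphisms.Flat
import Mathlib.AlgebraicGeometry.Morphisms.FinitePresentation
import Mathlib.AlgebraicGeometry.Morphisms.Finite
import Mathlib.AlgebraicGeometry.Fiber

/-!
# A morphism with flat source is an isomorphism near the fibres where it is one
-/

universe u

open CategoryTheory Limits AlgebraicGeometry TensorProduct

namespace Groth.Agent.H2.Rigid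

theorem isPullback_fromSpec {X Y : Scheme.{u}} (f : X ⟶ Y) {V : Y.Opens} (hV : IsAffineOpen V)
    (hW : IsAffineOpen (f ⁻¹ᵁ V)) :
    IsPullback hW.fromSpec (Spec.map (f.app V)) f hV.fromSpec := by
  have e : Spec.map (f.app V) ≫ hV.fromSpec = hW.fromSpec ≫ f := by
    rw [Scheme.Hom.app_eq_appLE, hV.SpecMap_appLE_fromSpec f hW]
  refine (IsPullback.paste_horiz (h₁₂ := (f ⁻¹ᵁ V).ι) (h₂₂ := V.ι) (v₁₂ := f ∣_ V)
    (IsPullback.of_horiz_isIso (fst := hW.isoSpec.inv) (g := hV.isoSpec.inv) ⟨?_⟩)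
    (isPullback_morphismRestrict f V).flip)
  rw [← cancel_mono V.ι, Category.assoc, morphismRestrict_ι, ← Category.assoc, Category.assoc _ hV.isoSpec.inv]
  exact e.symm

theorem isIso_morphismRestrict_of_bijective {X Y : Scheme.{u}} (f : X ⟶ Y) {V : Y.Opens}
    (hV : IsAffineOpen V) (hW : IsAffineOpen (f ⁻¹ᵁ V)) (hb : Function.Bijective (f.app V)) :
    IsIso (f ∣_ V) := by
  haveI : IsIso (f.app V) := (ConcreteCategory.isIso_iff_bijective _).2 hb
  haveI : IsAffine V.toScheme := hV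
  haveI : IsAffine (f ⁻¹ᵁ V).toScheme := hW
  haveI : IsIso (f ∣_ V).appTop := by
    rw [morphismRestrict_appTop]
    haveI : IsIso (f.app (V.ι ''ᵁ ⊤)) := by rw [V.ι_image_top]; infer_instance
    exact @IsIso.comp_isIso _ _ _ _ _ _ _ this (Functor.map_isIso _ _)
  exact ((MorphismProperty.isomorphisms _).arrow_mk_iso_iff (arrowIsoSpecΓOfIsAffine (f ∣_ V))).2
    (inferInstanceAs (IsIso (Spec.map (f ∣_ V).appTop)))

theorem finite_app_of_eq {X Y : Scheme.{u}} (f : X ⟶ Y) {V V' : Y.Opens} {W : X.Opens} (e : V' = V)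
    (eW : W = f ⁻¹ᵁ V') (hf : (f.app V' ≫ X.presheaf.map (eqToHom eW).op).hom.Finite) :
    (f.app V).hom.Finite := by
  subst eW e
  simpa using hf

/-- Surjectivity on a basic open. -/
theorem surjective_app_basicOpen {X Y : Scheme.{u}} (f : X ⟶ Y) {V : Y.Opens}
    (hV : IsAffineOpen V) (hW : IsAffineOpen (f ⁻¹ᵁ V)) (r : Γ(Y, V))
    (hr : ∀ c, ∃ b, f.app V b = f.app V r * c) : Function.Surjective (f.app (Y.basicOpen r)) := by
  have key : ∀ (W' : X.Opens) (e : W' ≤ f ⁻¹ᵁ Y.basicOpen r), W' = X.basicOpen (f.app V r) →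
      Function.Surjective (f.appLE (Y.basicOpen r) W' e) := by
    rintro W' e rfl x
    have := hW.isLocalization_basicOpen (f.app V r)
    obtain ⟨⟨c, ⟨_, n, rfl⟩⟩, hx⟩ := IsLocalization.surj (Submonoid.powers (f.app V r)) x
    obtain ⟨b, hb⟩ := hr c
    have := hV.isLocalization_basicOpen r
    obtain ⟨z, hz⟩ := (IsLocalization.Away.algebraMap_isUnit r).pow (n + 1)
      |>.exists_right_inv (M := Γ(Y, Y.basicOpen r))
    refine ⟨algebraMap Γ(Y, V) Γ(Y, Y.basicOpen r) b * z, ?_⟩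
    have hn : ∀ a, f.appLE (Y.basicOpen r) _ e (algebraMap Γ(Y, V) Γ(Y, Y.basicOpen r) a) =
        algebraMap Γ(X, f ⁻¹ᵁ V) Γ(X, X.basicOpen (f.app V r)) (f.app V a) := fun a => by
      show (Y.presheaf.map _ ≫ f.appLE _ _ e) a = (f.app V ≫ X.presheaf.map _) a
      rw [Scheme.Hom.map_appLE]
      rfl
    have hu := (IsLocalization.Away.algebraMap_isUnit (S := Γ(X, X.basicOpen (f.app V r))) (f.app V r)).pow (n + 1)
    apply hu.mul_left_cancel
    rw [map_mul, hn, hb, map_mul]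
    have hz' := congrArg (f.appLE (Y.basicOpen r) _ e) hz
    rw [map_mul, map_pow, hn, map_one] at hz'
    rw [← mul_assoc, mul_comm _ (algebraMap _ _ (f.app V r) * _), mul_assoc, hz', mul_one, ← hx]
    simp only [map_pow]
    ring
  intro x
  have h2 := key (f ⁻¹ᵁ Y.basicOpen r) le_rfl (f.preimage_basicOpen r) x
  rwa [← Scheme.Hom.app_eq_appLE] at h2

/-- Bijectivity on a basic open. -/
theorem bijective_app_basicOpen {X Y : Scheme.{u}} (f : X ⟶ Y) {V : Y.Opens}
    (hV : IsAffineOpen V) (hW : IsAffineOpen (f ⁻¹ᵁ V)) (r : Γ(Y, V))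
    (hs : Function.Surjective (f.app V)) (hr : ∀ b, f.app V b = 0 → r * b = 0) :
    Function.Bijective (f.app (Y.basicOpen r)) := by
  refine ⟨(injective_iff_map_eq_zero _).2 fun x hx => ?_,
    surjective_app_basicOpen f hV hW r fun c => hs _⟩
  have key : ∀ (W' : X.Opens) (e : W' ≤ f ⁻¹ᵁ Y.basicOpen r), W' = X.basicOpen (f.app V r) →
      f.appLE (Y.basicOpen r) W' e x = 0 → x = 0 := by
    rintro W' e rfl hx
    have := hW.isLocalization_basicOpen (f.app V r)
    have := hV.isLocalization_basicOpen r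
    obtain ⟨⟨b, ⟨_, n, rfl⟩⟩, hb⟩ := IsLocalization.surj (Submonoid.powers r) x
    have h1 := congrArg (f.appLE (Y.basicOpen r) _ e) hb
    rw [map_mul, hx, zero_mul] at h1
    have h2 : algebraMap Γ(X, f ⁻¹ᵁ V) Γ(X, X.basicOpen (f.app V r)) (f.app V b) = 0 := by
      refine Eq.trans ?_ h1.symm
      show (f.app V ≫ X.presheaf.map _) b = (Y.presheaf.map _ ≫ f.appLE _ _ e) b
      rw [Scheme.Hom.map_appLE]
      rfl
    obtain ⟨⟨_, m, rfl⟩, hm⟩ := (IsLocalization.map_eq_zero_iff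
      (Submonoid.powers (f.app V r)) Γ(X, X.basicOpen (f.app V r)) (f.app V b)).1 h2
    have h3 := hr (r ^ m * b) (by rw [map_mul, map_pow]; exact hm)
    have hu := IsLocalization.Away.algebraMap_isUnit (S := Γ(Y, Y.basicOpen r)) r
    have h4 := congrArg (algebraMap Γ(Y, V) Γ(Y, Y.basicOpen r)) h3
    rw [map_mul, map_mul, map_pow, map_zero, ← hb, ← mul_assoc, ← pow_succ', mul_comm x, ← mul_assoc,
      map_pow, ← pow_add] at h4
    exact (hu.pow _).mul_right_eq_zero.1 h4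
  refine key (f ⁻¹ᵁ Y.basicOpen r) le_rfl (f.preimage_basicOpen r) ?_
  rwa [← Scheme.Hom.app_eq_appLE]

section
variable {X Y S : Scheme.{u}} (g : X ⟶ S) (h : Y ⟶ S) (f : X ⟶ Y)

/-- The fibre map is the base change of `f`. -/
theorem isIso_pullback_of_fibre {s : S} (e : g.fiber s ≅ h.fiber s)
    (he : e.hom ≫ h.fiberι s = g.fiberι s ≫ f) (w : f ≫ h = g) {T : Scheme.{u}} (z : T ⟶ Y)
    (r : T ⟶ Spec (S.residueField s)) (hr : z ≫ h = r ≫ S.fromSpecResidueField s)
    {P : Scheme.{u}} {p₁ : P ⟶ X} {p₂ : P ⟶ T} (hP : IsPullback p₁ p₂ f z) : IsIso p₂ := by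
  have hfac : e.hom ≫ h.fiberToSpecResidueField s = g.fiberToSpecResidueField s := by
    rw [← cancel_mono (S.fromSpecResidueField s), Category.assoc, ← h.fiber_fac, reassoc_of% he,
      w, g.fiber_fac]
  have hsq : IsPullback (g.fiberι s) e.hom f (h.fiberι s) := by
    refine IsPullback.of_bot ?_ he.symm (IsPullback.of_hasPullback h (S.fromSpecResidueField s))
    rw [w]
    exact (congrArg (fun v => IsPullback (g.fiberι s) v g (S.fromSpecResidueField s)) hfac).mpr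
      (IsPullback.of_hasPullback g (S.fromSpecResidueField s))
  let z' : T ⟶ h.fiber s := pullback.lift z r hr
  have hz : z' ≫ h.fiberι s = z := pullback.lift_fst _ _ _
  let l : P ⟶ g.fiber s := hsq.lift p₁ (p₂ ≫ z') (by rw [Category.assoc, hz, hP.w])
  have hl : IsPullback l p₂ e.hom z' := by
    refine IsPullback.of_right ?_ (hsq.lift_snd _ _ _) hsq
    rw [hsq.lift_fst, hz]
    exact hP
  exact MorphismProperty.of_isPullback (P := MorphismProperty.isomorphisms Scheme) hl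
    (inferInstanceAs (IsIso e.hom))

/-- On an affine chart, the map on functions is bijective on the fibre. -/
theorem fibre_bijective {s : S} (e : g.fiber s ≅ h.fiber s)
    (he : e.hom ≫ h.fiberι s = g.fiberι s ≫ f) (w : f ≫ h = g)
    {U : S.Opens} (hU : IsAffineOpen U) {V : Y.Opens} (hV : IsAffineOpen V)
    (hW : IsAffineOpen (f ⁻¹ᵁ V)) (hVU : V ≤ h ⁻¹ᵁ U) (y : V) (hy : h y.1 = s) :
    letI := (h.appLE U V hVU).hom.toAlgebra
    letI := (f.app V).hom.toAlgebra
    letI := ((f.app V).hom.comp (h.appLE U V hVU).hom).toAlgebra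
    haveI : IsScalarTower Γ(S, U) Γ(Y, V) Γ(X, f ⁻¹ᵁ V) := IsScalarTower.of_algebraMap_eq' rfl
    Function.Bijective (((Algebra.linearMap Γ(Y, V) Γ(X, f ⁻¹ᵁ V)).restrictScalars Γ(S, U)).lTensor
      (PrimeSpectrum.comap (algebraMap Γ(S, U) Γ(Y, V)) (hV.primeIdealOf y)).asIdeal.ResidueField) := by
  let := (h.appLE U V hVU).hom.toAlgebra
  let := (f.app V).hom.toAlgebra
  let := ((f.app V).hom.comp (h.appLE U V hVU).hom).toAlgebra
  haveI : IsScalarTower Γ(S, U) Γ(Y, V) Γ(X, f ⁻¹ᵁ V) := IsScalarTower.of_algebraMap_eq' rfl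
  let A := Γ(S, U)
  let B := Γ(Y, V)
  let C := Γ(X, f ⁻¹ᵁ V)
  let p := PrimeSpectrum.comap (algebraMap A B) (hV.primeIdealOf y)
  let K := p.asIdeal.ResidueField
  let aK : Spec (CommRingCat.of K) ⟶ Spec A := Spec.map (CommRingCat.ofHom (algebraMap A K))
  have hpt : ∀ t : Spec (CommRingCat.of K), (aK ≫ hU.fromSpec) t = s := by
    intro t
    have h1 : aK t = p := PrimeSpectrum.ext (by
      show Ideal.comap (algebraMap A K) t.asIdeal = p.asIdeal
      rw [(Ideal.eq_bot_or_top (t.asIdeal : Ideal K)).resolve_right t.isPrime.ne_top, ← RingHom.ker_eq_comap_bot,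
        Ideal.ker_algebraMap_residueField])
    show hU.fromSpec (aK t) = s
    rw [h1, ← hy, ← hV.fromSpec_primeIdealOf y]
    exact congr($(hU.SpecMap_appLE_fromSpec h hV hVU) (hV.primeIdealOf y))
  obtain ⟨ρ, hρ⟩ : ∃ ρ : Spec (CommRingCat.of K) ⟶ Spec (S.residueField s),
      aK ≫ hU.fromSpec = ρ ≫ S.fromSpecResidueField s := by
    obtain ⟨⟨s', φ⟩, hs'⟩ := (Scheme.SpecToEquivOfField K S).symm.surjective (aK ≫ hU.fromSpec)
    have hs'' : Spec.map φ ≫ S.fromSpecResidueField s' = aK ≫ hU.fromSpec := hs'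
    obtain rfl : s' = s := by
      have := hpt (IsLocalRing.closedPoint K)
      rw [← hs''] at this
      exact (S.fromSpecResidueField_apply s' _).symm.trans this
    exact ⟨Spec.map φ, hs''.symm⟩
  let iB : B →+* K ⊗[A] B := (Algebra.TensorProduct.includeRight : B →ₐ[A] K ⊗[A] B).toRingHom
  let iC : C →+* K ⊗[A] C := (Algebra.TensorProduct.includeRight : C →ₐ[A] K ⊗[A] C).toRingHom
  let ψ : K ⊗[A] B →ₐ[A] K ⊗[A] C :=
    Algebra.TensorProduct.map (AlgHom.id A K) (IsScalarTower.toAlgHom A B C)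
  have hB : IsPullback (Spec.map (CommRingCat.ofHom iB))
      (Spec.map (CommRingCat.ofHom (Algebra.TensorProduct.includeLeftRingHom : K →+* K ⊗[A] B)))
      (Spec.map (CommRingCat.ofHom (algebraMap A B))) aK :=
    (isPullback_SpecMap_of_isPushout _ _ _ _ (CommRingCat.isPushout_tensorProduct A K B)).flip
  have hC : IsPullback (Spec.map (CommRingCat.ofHom iC))
      (Spec.map (CommRingCat.ofHom (Algebra.TensorProduct.includeLeftRingHom : K →+* K ⊗[A] C)))
      (Spec.map (CommRingCat.ofHom (algebraMap A C))) aK :=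
    (isPullback_SpecMap_of_isPushout _ _ _ _ (CommRingCat.isPushout_tensorProduct A K C)).flip
  have e1 : CommRingCat.ofHom (Algebra.TensorProduct.includeLeftRingHom : K →+* K ⊗[A] B) ≫
      CommRingCat.ofHom ψ.toRingHom =
      CommRingCat.ofHom (Algebra.TensorProduct.includeLeftRingHom : K →+* K ⊗[A] C) := by
    refine CommRingCat.hom_ext (RingHom.ext fun x => ?_)
    show ψ (x ⊗ₜ[A] (1 : B)) = x ⊗ₜ[A] (1 : C)
    simp [ψ]
  have e2 : CommRingCat.ofHom iB ≫ CommRingCat.ofHom ψ.toRingHom =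
      CommRingCat.ofHom (algebraMap B C) ≫ CommRingCat.ofHom iC := by
    ext x
    show ψ ((1 : K) ⊗ₜ[A] x) = (1 : K) ⊗ₜ[A] algebraMap B C x
    simp [ψ]
  have hsqψ : IsPullback (Spec.map (CommRingCat.ofHom iC)) (Spec.map (CommRingCat.ofHom ψ.toRingHom))
      (Spec.map (f.app V)) (Spec.map (CommRingCat.ofHom iB)) := by
    refine IsPullback.of_bot ?_ ?_ hB
    · rw [← Spec.map_comp, ← Spec.map_comp, e1]
      exact hC
    · rw [← Spec.map_comp, ← Spec.map_comp, e2]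
      rfl
  have hbig := hsqψ.paste_horiz (isPullback_fromSpec f hV hW)
  haveI : IsIso (Spec.map (CommRingCat.ofHom ψ.toRingHom)) := by
    refine isIso_pullback_of_fibre g h f e he w (Spec.map (CommRingCat.ofHom iB) ≫ hV.fromSpec)
      (Spec.map (CommRingCat.ofHom (Algebra.TensorProduct.includeLeftRingHom : K →+* K ⊗[A] B)) ≫ ρ)
      ?_ hbig
    rw [Category.assoc, Category.assoc, ← hρ, ← hB.w_assoc, ← hU.SpecMap_appLE_fromSpec h hV hVU]
    rfl
  have hb : Function.Bijective ψ := isIso_SpecMap_iff.1 this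
  have hψ : ⇑(((Algebra.linearMap B C).restrictScalars A).lTensor K) = ⇑ψ := by
    ext x
    induction x with
    | zero => simp
    | add a b ha hb => rw [map_add, map_add, ha, hb]
    | tmul a b => simp [ψ]
  rw [hψ]
  exact hb

/-- Near a point over `s`, `f` is an isomorphism. -/
theorem exists_isIso_nhd [LocallyOfFiniteType h] [LocallyOfFinitePresentation f] [Flat g]
    {s : S} (e : g.fiber s ≅ h.fiber s) (he : e.hom ≫ h.fiberι s = g.fiberι s ≫ f) (w : f ≫ h = g)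
    {U : S.Opens} (hU : IsAffineOpen U) {V : Y.Opens} (hV : IsAffineOpen V) [IsFinite (f ∣_ V)]
    (hVU : V ≤ h ⁻¹ᵁ U) (y : Y) (hy : h y = s) (hyV : y ∈ V) :
    ∃ D : Y.Opens, y ∈ D ∧ IsIso (f ∣_ D) := by
  -- the relevant data on an affine open
  have hWf : ∀ D : Y.Opens, IsAffineOpen D → D ≤ V → IsAffineOpen (f ⁻¹ᵁ D) := by
    intro D hD hDV
    haveI : IsAffineHom (f ∣_ V) := inferInstance
    have := (hD.preimage_of_isOpenImmersion V.ι (by rw [V.opensRange_ι]; exact hDV)).preimage (f ∣_ V)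
    rw [← Scheme.Hom.comp_preimage, morphismRestrict_ι, Scheme.Hom.comp_preimage] at this
    have h2 := this.image_of_isOpenImmersion (f ⁻¹ᵁ V).ι
    rwa [Scheme.Hom.image_preimage_eq_opensRange_inf, Scheme.Opens.opensRange_ι,
      inf_eq_right.2 (show f ⁻¹ᵁ D ≤ f ⁻¹ᵁ V from fun x hx => hDV hx)] at h2
  have hW := hWf V hV le_rfl
  let := (h.appLE U V hVU).hom.toAlgebra
  let := (f.app V).hom.toAlgebra
  let := ((f.app V).hom.comp (h.appLE U V hVU).hom).toAlgebra
  haveI : IsScalarTower Γ(S, U) Γ(Y, V) Γ(X, f ⁻¹ᵁ V) := IsScalarTower.of_algebraMap_eq' rfl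
  haveI : Module.Finite Γ(Y, V) Γ(X, f ⁻¹ᵁ V) := by
    haveI : IsAffine V.toScheme := hV
    have h1 := (f ∣_ V).finite_appTop
    rw [morphismRestrict_appTop] at h1
    exact finite_app_of_eq f V.ι_image_top _ h1
  have h1 := fibre_bijective g h f e he w hU hV hW hVU ⟨y, hyV⟩ hy
  obtain ⟨r, hr, hr'⟩ := exists_notMem_mul_mem_range (A := Γ(S, U)) (hV.primeIdealOf ⟨y, hyV⟩) h1.2
  let D := Y.basicOpen r
  have hyD : y ∈ D := by
    show (⟨y, hyV⟩ : V).1 ∈ D
    rw [← hV.fromSpec_primeIdealOf ⟨y, hyV⟩]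
    show hV.primeIdealOf ⟨y, hyV⟩ ∈ hV.fromSpec ⁻¹ᵁ D
    rw [hV.fromSpec_preimage_basicOpen]
    exact hr
  have hDV : D ≤ V := Y.basicOpen_le r
  have hD : IsAffineOpen D := hV.basicOpen r
  have hsD : Function.Surjective (f.app D) := surjective_app_basicOpen f hV hW r hr'
  let := (h.appLE U D (hDV.trans hVU)).hom.toAlgebra
  let := (f.app D).hom.toAlgebra
  let := ((f.app D).hom.comp (h.appLE U D (hDV.trans hVU)).hom).toAlgebra
  haveI : IsScalarTower Γ(S, U) Γ(Y, D) Γ(X, f ⁻¹ᵁ D) := IsScalarTower.of_algebraMap_eq' rfl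
  haveI : Module.Flat Γ(S, U) Γ(X, f ⁻¹ᵁ D) := by
    have hle : f ⁻¹ᵁ D ≤ g ⁻¹ᵁ U := by
      rw [← w]; exact fun x hx => hVU (hDV hx)
    have h3 := g.flat_appLE hU (hWf D hD hDV) hle
    subst w
    rw [← Scheme.Hom.appLE_comp_appLE _ _ U D (f ⁻¹ᵁ D) (hDV.trans hVU) le_rfl,
      ← Scheme.Hom.app_eq_appLE] at h3
    exact h3
  have hfg : (RingHom.ker (f.app D).hom).FG := by
    have h4 := f.finitePresentation_appLE hD (hWf D hD hDV) le_rfl
    rw [← Scheme.Hom.app_eq_appLE] at h4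
    haveI : Algebra.FinitePresentation Γ(Y, D) Γ(X, f ⁻¹ᵁ D) := h4
    exact Algebra.FinitePresentation.ker_fG_of_surjective (Algebra.ofId Γ(Y, D) Γ(X, f ⁻¹ᵁ D)) hsD
  have h2 := fibre_bijective g h f e he w hU hD (hWf D hD hDV) (hDV.trans hVU) ⟨y, hyD⟩ hy
  obtain ⟨r₂, hr₂, hr₂'⟩ := exists_notMem_mul_eq_zero (A := Γ(S, U)) hsD hfg
    (hD.primeIdealOf ⟨y, hyD⟩) h2.1
  let D₂ := Y.basicOpen r₂
  have hyD₂ : y ∈ D₂ := by
    show (⟨y, hyD⟩ : D).1 ∈ D₂
    rw [← hD.fromSpec_primeIdealOf ⟨y, hyD⟩]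
    show hD.primeIdealOf ⟨y, hyD⟩ ∈ hD.fromSpec ⁻¹ᵁ D₂
    rw [hD.fromSpec_preimage_basicOpen]
    exact hr₂
  refine ⟨D₂, hyD₂, isIso_morphismRestrict_of_bijective f (hD.basicOpen r₂)
    (hWf _ (hD.basicOpen r₂) ((Y.basicOpen_le r₂).trans hDV))
    (bijective_app_basicOpen f hD (hWf D hD hDV) r₂ hsD hr₂')⟩

end

end Groth.Agent.H2.Rigid

namespace Groth.Agent.H2.Rigid

theorem isPullback_restrict_le {X Y : Scheme.{u}} (f : X ⟶ Y) {U V : Y.Opens} (h : U ≤ V) :
    IsPullback (X.homOfLE (show f ⁻¹ᵁ U ≤ f ⁻¹ᵁ V from fun _ hx => h hx)) (f ∣_ U) (f ∣_ V)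
      (Y.homOfLE h) := by
  refine IsPullback.of_right ?_ ?_ (isPullback_morphismRestrict f V).flip
  · simp only [Scheme.homOfLE_ι]
    exact (isPullback_morphismRestrict f U).flip
  · rw [← cancel_mono V.ι]
    simp [morphismRestrict_ι]

end Groth.Agent.H2.Rigid
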