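import Mathlib.RingTheory.Flat.Equalizer
import Mathlib.RingTheory.Support
import Mathlib.RingTheory.LocalRing.Module
import Mathlib.RingTheory.FinitePresentation
import Mathlib.RingTheory.Finiteness.Finsupp
import Mathlib.RingTheory.Spectrum.Prime.Topology
import Mathlib.RingTheory.Localization.Away.Basic
import Mathlib.RingTheory.LocalRing.ResidueField.Fiber

/-!
# Isomorphism from fibres, ring level
-/

universe u

open TensorProduct

namespace Groth.Agent.H2.Rigid

variable {A B : Type u} [CommRing A] [CommRing B] [Algebra A B]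

/-- A finite module vanishing on the fibre over `p` is killed by an element outside `q ∣ p`. -/
theorem exists_notMem_smul_eq_zero (q : PrimeSpectrum B) (M : Type u) [AddCommGroup M] [Module A M]
    [Module B M] [IsScalarTower A B M] [Module.Finite B M]
    [Subsingleton ((PrimeSpectrum.comap (algebraMap A B) q).asIdeal.ResidueField ⊗[A] M)] :
    ∃ r ∉ q.asIdeal, ∀ m : M, r • m = 0 := by
  let p := PrimeSpectrum.comap (algebraMap A B) q
  let K := p.asIdeal.ResidueField
  let L := q.asIdeal.ResidueField
  have : q.asIdeal.LiesOver p.asIdeal := ⟨rfl⟩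
  let g : K →ₐ[A] L := Ideal.ResidueField.mapₐ p.asIdeal q.asIdeal (Algebra.ofId A B) rfl
  let φ : K ⊗[A] M →ₗ[A] L ⊗[B] M :=
    TensorProduct.lift (((TensorProduct.mk B L M).restrictScalars₁₂ A A).comp g.toLinearMap)
  have hs : q ∉ Module.support B M := by
    rw [Module.mem_support_iff_nontrivial_residueField_tensorProduct, not_nontrivial_iff_subsingleton]
    refine ⟨fun a b => ?_⟩
    have h0 : ∀ m : M, (1 : L) ⊗ₜ[B] m = 0 := fun m => by
      have := congrArg φ (Subsingleton.elim ((1 : K) ⊗ₜ[A] m) 0)
      simpa [φ, g] using this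
    suffices ∀ x : L ⊗[B] M, x = 0 by rw [this a, this b]
    intro x
    induction x with
    | zero => rfl
    | add x y hx hy => rw [hx, hy, add_zero]
    | tmul c m =>
      rw [show c = c • (1 : L) by rw [smul_eq_mul, mul_one], ← TensorProduct.smul_tmul', h0, smul_zero]
  rw [Module.support_eq_zeroLocus, PrimeSpectrum.mem_zeroLocus, Set.not_subset] at hs
  obtain ⟨r, hr, hrq⟩ := hs
  exact ⟨r, hrq, Module.mem_annihilator.1 hr⟩

variable {C : Type u} [CommRing C] [Algebra A C] [Algebra B C] [IsScalarTower A B C]

theorem exists_notMem_of_exact [Module.Finite B C] {M : Type u} [AddCommGroup M] [Module A M]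
    [Module B M] [IsScalarTower A B M] (π : C →ₗ[B] M) (hπ : Function.Surjective π)
    (hex : Function.Exact (Algebra.linearMap B C) π) (q : PrimeSpectrum B)
    (h : Function.Surjective (((Algebra.linearMap B C).restrictScalars A).lTensor
      (PrimeSpectrum.comap (algebraMap A B) q).asIdeal.ResidueField)) :
    ∃ r ∉ q.asIdeal, ∀ c : C, π (r • c) = 0 := by
  haveI : Module.Finite B M := Module.Finite.of_surjective π hπ
  let K := (PrimeSpectrum.comap (algebraMap A B) q).asIdeal.ResidueField
  have hz : ∀ a : K ⊗[A] M, a = 0 := by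
    intro a
    obtain ⟨c, rfl⟩ := LinearMap.lTensor_surjective K (g := π.restrictScalars A) hπ a
    exact ((lTensor_exact (f := (Algebra.linearMap B C).restrictScalars A)
      (g := π.restrictScalars A) K hex hπ) c).2 (h c)
  have : Subsingleton (K ⊗[A] M) := ⟨fun a b => (hz a).trans (hz b).symm⟩
  obtain ⟨r, hr, hkill⟩ := exists_notMem_smul_eq_zero (A := A) q M
  exact ⟨r, hr, fun c => (map_smul π r c).trans (hkill _)⟩

/-- Surjective on the fibre ⇒ the cokernel is killed by an element outside `q`. -/
theorem exists_notMem_mul_mem_range [Module.Finite B C] (q : PrimeSpectrum B)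
    (h : Function.Surjective (((Algebra.linearMap B C).restrictScalars A).lTensor
      (PrimeSpectrum.comap (algebraMap A B) q).asIdeal.ResidueField)) :
    ∃ r ∉ q.asIdeal, ∀ c : C, ∃ b : B, algebraMap B C b = algebraMap B C r * c := by
  obtain ⟨r, hr, hk⟩ := exists_notMem_of_exact (LinearMap.range (Algebra.linearMap B C)).mkQ
    (Submodule.mkQ_surjective _) (LinearMap.exact_iff.2 (Submodule.ker_mkQ _)) q h
  refine ⟨r, hr, fun c => ?_⟩
  have h1 := hk c
  rw [Submodule.mkQ_apply, Submodule.Quotient.mk_eq_zero, Algebra.smul_def] at h1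
  exact h1

/-- Surjective, flat target, injective on the fibre ⇒ the kernel is killed by an element outside `q`. -/
theorem exists_notMem_mul_eq_zero [Module.Flat A C] (hs : Function.Surjective (algebraMap B C))
    (hfg : (RingHom.ker (algebraMap B C)).FG) (q : PrimeSpectrum B)
    (h : Function.Injective (((Algebra.linearMap B C).restrictScalars A).lTensor
      (PrimeSpectrum.comap (algebraMap A B) q).asIdeal.ResidueField)) :
    ∃ r ∉ q.asIdeal, ∀ b : B, algebraMap B C b = 0 → r * b = 0 := by
  let φ := Algebra.linearMap B C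
  let I : Submodule B B := LinearMap.ker φ
  have hI : I.FG := hfg
  haveI : Module.Finite B I := Module.Finite.iff_fg.2 hI
  let K := (PrimeSpectrum.comap (algebraMap A B) q).asIdeal.ResidueField
  have hex : Function.Exact (I.subtype.restrictScalars A) (φ.restrictScalars A) :=
    LinearMap.exact_iff.2 (Submodule.ext fun c => by simp [I])
  have hinj := LinearMap.lTensor_injective_of_exact_of_flat (φ.restrictScalars A) hs
    (I.subtype.restrictScalars A) Subtype.val_injective hex K
  have : Subsingleton (K ⊗[A] I) := by
    refine ⟨fun a b => hinj (h ?_)⟩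
    rw [← LinearMap.comp_apply, ← LinearMap.comp_apply, ← LinearMap.lTensor_comp,
      hex.linearMap_comp_eq_zero]
    rw [LinearMap.lTensor_zero, LinearMap.zero_apply, LinearMap.zero_apply]
  obtain ⟨r, hr, hkill⟩ := exists_notMem_smul_eq_zero (A := A) q I
  exact ⟨r, hr, fun b hb => congrArg Subtype.val (hkill ⟨b, hb⟩)⟩

end Groth.Agent.H2.Rigid
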