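import Groth.Agent.H2.Rigid.H0
import Mathlib.AlgebraicGeometry.Noetherian
import Mathlib.LinearAlgebra.TensorProduct.Quotient
import Mathlib.RingTheory.Filtration
import Mathlib.RingTheory.Flat.Basic

/-!
# Functions on a proper flat scheme over a Noetherian local ring

If `f : X ⟶ Spec A` is proper and flat over a Noetherian local ring, has a section `s` and its
closed fibre has only constant functions, then a global function killed by `s` is zero: by flatness
it vanishes on every infinitesimal neighbourhood of the closed fibre, so by Krull's intersection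
theorem near the closed fibre, so everywhere.
-/

universe u

open CategoryTheory Limits AlgebraicGeometry TopologicalSpace IsLocalRing Opposite TensorProduct

namespace Groth.Agent.H2.Rigid

/-- `(I R : ε) = 𝔪 R` for `R` flat over the local ring `A`, if `ε ∉ I` and `𝔪 ε ⊆ I`. -/
theorem mem_map_maximalIdeal_of_mul_mem {A R : Type u} [CommRing A] [IsLocalRing A] [CommRing R]
    [Algebra A R] [Module.Flat A R] (I : Ideal A) (ε : A) (hε : ε ∉ I)
    (hm : ∀ x ∈ maximalIdeal A, x * ε ∈ I) (c : R)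
    (hc : algebraMap A R ε * c ∈ I.map (algebraMap A R)) :
    c ∈ (maximalIdeal A).map (algebraMap A R) := by
  let u : (A ⧸ maximalIdeal A) →ₗ[A] (A ⧸ I) :=
    (maximalIdeal A).liftQ (I.mkQ ∘ₗ LinearMap.mulRight A ε) (fun x hx => by
      exact Ideal.Quotient.eq_zero_iff_mem.2 (hm x hx))
  have hu : Function.Injective u := by
    rw [← LinearMap.ker_eq_bot, LinearMap.ker_eq_bot']
    intro x hx
    obtain ⟨y, rfl⟩ := Submodule.Quotient.mk_surjective _ x
    by_contra hy
    have hyu : IsUnit y := by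
      by_contra h
      exact hy ((Submodule.Quotient.mk_eq_zero _).2 h)
    have : y * ε ∈ I := (Submodule.Quotient.mk_eq_zero _).1 hx
    exact hε ((I.unit_mul_mem_iff_mem hyu).1 this)
  have h := Module.Flat.rTensor_preserves_injective_linearMap (M := R) u hu
  have h0 : (u.rTensor R) (Ideal.Quotient.mk _ 1 ⊗ₜ c) = 0 := by
    apply (quotTensorEquivQuotSMul R I).injective
    rw [map_zero]
    have hu1 : u (Ideal.Quotient.mk (maximalIdeal A) 1) = Ideal.Quotient.mk I ε :=
      congrArg (Ideal.Quotient.mk I) (one_mul ε)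
    rw [LinearMap.rTensor_tmul, hu1, quotTensorEquivQuotSMul_mk_tmul,
      Submodule.Quotient.mk_eq_zero, Ideal.smul_top_eq_map, Algebra.smul_def]
    exact hc
  rw [← map_zero (u.rTensor R)] at h0
  have h1 := congrArg (quotTensorEquivQuotSMul R (maximalIdeal A)) (h h0)
  rw [map_zero, quotTensorEquivQuotSMul_mk_tmul, Submodule.Quotient.mk_eq_zero, one_smul,
    Ideal.smul_top_eq_map] at h1
  exact h1

variable {A : CommRingCat.{u}} {X : Scheme.{u}} (f : X ⟶ Spec A)

/-- `A → Γ(X, U)`. -/
noncomputable def phi (U : X.Opens) : A →+* Γ(X, U) :=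
  ((Scheme.ΓSpecIso A).inv ≫ f.appLE ⊤ U (le_top.trans_eq (Scheme.Hom.preimage_top f).symm)).hom

theorem res_phi {U W : X.Opens} (h : W ≤ U) (x : A) :
    (X.presheaf.map (homOfLE h).op).hom (phi f U x) = phi f W x := by
  have e := congr($(Scheme.Hom.appLE_map f (U := ⊤) (V := U) (V' := W)
    (le_top.trans_eq (Scheme.Hom.preimage_top f).symm) (homOfLE h).op).hom
    ((Scheme.ΓSpecIso A).inv.hom x))
  exact e

theorem flat_phi [Flat f] {U : X.Opens} (hU : IsAffineOpen U) : (phi f U).Flat := by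
  rw [phi, CommRingCat.hom_comp]
  exact RingHom.Flat.comp (.of_bijective (ConcreteCategory.bijective_of_isIso (Scheme.ΓSpecIso A).inv))
    (f.flat_appLE (isAffineOpen_top _) hU _)

theorem res_mem_map (I : Ideal A) {U W : X.Opens} (h : W ≤ U) {y : Γ(X, U)}
    (hy : y ∈ I.map (phi f U)) :
    (X.presheaf.map (homOfLE h).op).hom y ∈ I.map (phi f W) := by
  have e : (X.presheaf.map (homOfLE h).op).hom.comp (phi f U) = phi f W :=
    RingHom.ext (res_phi f h)
  rw [← e, ← Ideal.map_map]
  exact Ideal.mem_map_of_mem _ hy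

variable [IsLocalRing A]

/-- The inclusion of the closed point. -/
noncomputable def cpt (A : CommRingCat.{u}) [IsLocalRing A] :
    Spec (.of (ResidueField A)) ⟶ Spec A :=
  Spec.map (CommRingCat.ofHom (residue A))

theorem cpt_appTop (x : A) :
    (cpt A).appTop.hom ((Scheme.ΓSpecIso A).inv.hom x) =
      (Scheme.ΓSpecIso (.of (ResidueField A))).inv.hom (residue A x) :=
  (congr($(Scheme.ΓSpecIso_inv_naturality (CommRingCat.ofHom (residue A))).hom x)).symm

theorem phi_fst (U : X.Opens) (x : A) :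
    ((pullback.fst f (cpt A)).app U).hom (phi f U x) =
      ((pullback f (cpt A)).presheaf.map (homOfLE le_top).op).hom
        ((pullback.snd f (cpt A)).appTop.hom
          ((Scheme.ΓSpecIso (.of (ResidueField A))).inv.hom (residue A x))) := by
  rw [← cpt_appTop]
  have e : f.appLE ⊤ U (le_top.trans_eq (Scheme.Hom.preimage_top f).symm) ≫
      (pullback.fst f (cpt A)).app U = (cpt A).appTop ≫ (pullback.snd f (cpt A)).appTop ≫
      (pullback f (cpt A)).presheaf.map (homOfLE (le_top : pullback.fst f (cpt A) ⁻¹ᵁ U ≤ ⊤)).op := by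
    rw [Scheme.Hom.app_eq_appLE, Scheme.Hom.appLE_comp_appLE, ← Category.assoc,
      ← Scheme.Hom.comp_appTop, ← pullback.condition]
    rfl
  exact congr($(e).hom ((Scheme.ΓSpecIso A).inv.hom x))

theorem mem_of_app_eq_zero {U : X.Opens} (hU : IsAffineOpen U) (y : Γ(X, U))
    (hy : ((pullback.fst f (cpt A)).app U).hom y = 0) : y ∈ (maximalIdeal A).map (phi f U) := by
  have := isIso_pushoutSection_of_isAffineOpen (IsPullback.of_hasPullback f (cpt A))
    (US := ⊤) (UT := ⊤) (UX := U) (UY := pullback.fst f (cpt A) ⁻¹ᵁ U) le_top le_top (by simp)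
    (isAffineOpen_top _) (isAffineOpen_top _) hU
  have H := (isIso_pushoutSection_iff _ _ _ _).1 this
  let J := (maximalIdeal A).map (phi f U)
  let q : Γ(X, U) ⟶ CommRingCat.of (Γ(X, U) ⧸ J) := CommRingCat.ofHom (Ideal.Quotient.mk J)
  let l : ResidueField A →+* Γ(X, U) ⧸ J :=
    Ideal.Quotient.lift _ ((Ideal.Quotient.mk J).comp (phi f U))
      fun a ha => Ideal.Quotient.eq_zero_iff_mem.2 (Ideal.mem_map_of_mem _ ha)
  let r : Γ(Spec (.of (ResidueField A)), ⊤) ⟶ CommRingCat.of (Γ(X, U) ⧸ J) :=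
    (Scheme.ΓSpecIso (.of (ResidueField A))).hom ≫ CommRingCat.ofHom l
  obtain ⟨d, hd, -⟩ := H.exists_desc q r (by
    rw [← cancel_epi (Scheme.ΓSpecIso A).inv]
    ext x
    change Ideal.Quotient.mk J (phi f U x) = _
    have e : (cpt A).appLE ⊤ ⊤ le_top = (cpt A).appTop := Scheme.Hom.appLE_eq_app _
    simp only [CommRingCat.comp_apply, e, cpt_appTop, r]
    have e2 : (Scheme.ΓSpecIso (.of (ResidueField A))).hom.hom
        ((Scheme.ΓSpecIso (.of (ResidueField A))).inv.hom (residue A x)) = residue A x :=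
      congr($((Scheme.ΓSpecIso (.of (ResidueField A))).inv_hom_id).hom (residue A x))
    exact (Ideal.Quotient.lift_mk (maximalIdeal A) ((Ideal.Quotient.mk J).comp (phi f U)) _).symm.trans (congrArg l
      ((congrArg (Scheme.ΓSpecIso (.of (ResidueField A))).hom.hom (cpt_appTop x)).trans e2)).symm)
  have h1 := congr($(hd).hom y)
  rw [Scheme.Hom.app_eq_appLE] at hy
  exact Ideal.Quotient.eq_zero_iff_mem.1 (h1.symm.trans ((congrArg d.hom hy).trans (map_zero _)))

theorem phi_section (s : Spec A ⟶ X) (hs : s ≫ f = 𝟙 _) {U : X.Opens} (hsU : ⊤ ≤ s ⁻¹ᵁ U) (x : A) :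
    (Scheme.ΓSpecIso A).hom.hom ((s.appLE U ⊤ hsU).hom (phi f U x)) = x := by
  have e : f.appLE ⊤ U (le_top.trans_eq (Scheme.Hom.preimage_top f).symm) ≫ s.appLE U ⊤ hsU
      = 𝟙 _ := by
    rw [Scheme.Hom.appLE_comp_appLE]
    have : ∀ (g : Spec A ⟶ Spec A) (h : ⊤ ≤ g ⁻¹ᵁ (⊤ : (Spec A).Opens)), g = 𝟙 _ →
        g.appLE ⊤ ⊤ h = 𝟙 _ := by
      rintro g h rfl
      simp only [Scheme.Hom.appLE, Scheme.Hom.id_app, Category.id_comp]
      exact (Spec A).presheaf.map_id _
    exact this _ _ hs
  have h1 := congr($(e).hom ((Scheme.ΓSpecIso A).inv.hom x))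
  exact (congrArg _ h1).trans (congr($((Scheme.ΓSpecIso A).inv_hom_id).hom x))

/-- The vanishing condition modulo `I`. -/
def Vanish (a : Γ(X, ⊤)) (I : Ideal A) : Prop :=
  ∀ U : X.affineOpens, (X.presheaf.map (homOfLE le_top).op).hom a ∈ I.map (phi f U.1)

variable [Flat f] (s : Spec A ⟶ X) (hs : s ≫ f = 𝟙 _)
  (h0 : Function.Surjective (pullback.snd f (cpt A)).appTop.hom)
  (a : Γ(X, ⊤)) (hsa : s.appTop.hom a = 0)

include hs h0 hsa in
theorem Vanish.step {I : Ideal A} {ε : A} (hm : ∀ x ∈ maximalIdeal A, x * ε ∈ I)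
    (h : Vanish f a (I ⊔ Ideal.span {ε})) : Vanish f a I := by
  by_cases hε : ε ∈ I
  · rwa [sup_eq_left.2 ((Ideal.span_singleton_le_iff_mem I).2 hε)] at h
  intro U
  let P := pullback f (cpt A)
  let i := pullback.fst f (cpt A)
  let p := pullback.snd f (cpt A)
  -- the coefficients
  have hdec : ∀ U : X.affineOpens, ∃ c : Γ(X, U.1),
      (X.presheaf.map (homOfLE le_top).op).hom a - c * phi f U.1 ε ∈ I.map (phi f U.1) := by
    intro U
    have h := h U
    rw [Ideal.map_sup, Ideal.map_span, Set.image_singleton, Submodule.mem_sup] at h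
    obtain ⟨y, hy, z, hz, e⟩ := h
    obtain ⟨c, rfl⟩ := Ideal.mem_span_singleton'.1 hz
    exact ⟨c, by rw [← e, add_sub_cancel_right]; exact hy⟩
  choose c hc using hdec
  have huniq : ∀ (W : X.affineOpens) (y : Γ(X, W.1)),
      phi f W.1 ε * y ∈ I.map (phi f W.1) → (i.app W.1).hom y = 0 := by
    intro W y hy
    letI := (phi f W.1).toAlgebra
    haveI : Module.Flat A Γ(X, W.1) := flat_phi f W.2
    have := mem_map_maximalIdeal_of_mul_mem I ε hε hm y hy
    refine Ideal.mem_comap.1 (Ideal.map_le_iff_le_comap (K := RingHom.ker (i.app W.1).hom).2 ?_ this)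
    intro m hm'
    rw [Ideal.mem_comap, RingHom.mem_ker]
    change (i.app W.1).hom (phi f W.1 m) = 0
    rw [phi_fst, (residue_eq_zero_iff m).2 hm', map_zero, map_zero, map_zero]
  -- they glue to a constant on the closed fibre
  obtain ⟨g, hg, -⟩ := P.sheaf.existsUnique_gluing' (fun V : X.affineOpens => i ⁻¹ᵁ V.1) ⊤
    (fun _ => homOfLE le_top) (fun x _ => by
      obtain ⟨_, ⟨V, hV, rfl⟩, hxV, -⟩ := X.isBasis_affineOpens.exists_subset_of_mem_open
        (Set.mem_univ (i x)) isOpen_univ
      exact Opens.mem_iSup.2 ⟨⟨V, hV⟩, hxV⟩)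
    (fun V => (i.app V.1).hom (c V)) (by
      intro V V'
      refine TopCat.Presheaf.IsSheaf.section_ext P.IsSheaf (fun x hx => ?_)
      obtain ⟨_, ⟨W, hW, rfl⟩, hxW, hWle⟩ := X.isBasis_affineOpens.exists_subset_of_mem_open
        (show i x ∈ ((V.1 ⊓ V'.1 : X.Opens) : Set X) from hx) (V.1 ⊓ V'.1).isOpen
      refine ⟨i ⁻¹ᵁ W, fun z hz => ⟨(hWle hz).1, (hWle hz).2⟩, hxW, ?_⟩
      have hWV : W ≤ V.1 := fun z hz => (hWle hz).1
      have hWV' : W ≤ V'.1 := fun z hz => (hWle hz).2
      have key := huniq ⟨W, hW⟩ ((X.presheaf.map (homOfLE hWV).op).hom (c V) -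
        (X.presheaf.map (homOfLE hWV').op).hom (c V')) (by
        have d1 := res_mem_map f I hWV (hc V)
        have d2 := res_mem_map f I hWV' (hc V')
        rw [map_sub, map_mul, res_phi, ← CommRingCat.comp_apply, ← Functor.map_comp] at d1 d2
        have := sub_mem d2 d1
        convert this using 1
        simp only [homOfLE_leOfHom, ← op_comp, homOfLE_comp]
        ring)
      rw [map_sub, sub_eq_zero] at key
      simp only [← CommRingCat.comp_apply, Scheme.Hom.naturality] at key
      change (P.presheaf.map _).hom ((P.presheaf.map _).hom _) =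
        (P.presheaf.map _).hom ((P.presheaf.map _).hom _)
      simp only [← CommRingCat.comp_apply, ← Functor.map_comp, Category.assoc]
      exact key)
  obtain ⟨l, hl⟩ : ∃ l : A, p.appTop.hom
      ((Scheme.ΓSpecIso (.of (ResidueField A))).inv.hom (residue A l)) = g := by
    obtain ⟨z, hz⟩ := h0 g
    obtain ⟨z', rfl⟩ := (ConcreteCategory.bijective_of_isIso
      (Scheme.ΓSpecIso (.of (ResidueField A))).inv).2 z
    obtain ⟨l, rfl⟩ := residue_surjective z'
    exact ⟨l, hz⟩
  have hdiff : ∀ V : X.affineOpens,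
      (X.presheaf.map (homOfLE le_top).op).hom a - phi f V.1 (l * ε) ∈ I.map (phi f V.1) := by
    intro V
    have h1 : (i.app V.1).hom (c V - phi f V.1 l) = 0 := by
      rw [map_sub, sub_eq_zero, phi_fst, hl]
      exact (hg V).symm
    have h2 := mem_of_app_eq_zero f V.2 _ h1
    have h3 : (c V - phi f V.1 l) * phi f V.1 ε ∈ I.map (phi f V.1) := by
      have := Ideal.mul_mem_mul h2 (Ideal.mem_map_of_mem (phi f V.1) (Ideal.mem_span_singleton_self ε))
      rw [← Ideal.map_mul] at this
      refine Ideal.map_mono ?_ this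
      rw [Ideal.mul_le]
      intro m hm' z hz
      obtain ⟨w, rfl⟩ := Ideal.mem_span_singleton'.1 hz
      rw [mul_left_comm]
      exact I.mul_mem_left _ (hm m hm')
    have := add_mem (hc V) h3
    convert this using 1
    rw [map_mul]; ring
  obtain ⟨_, ⟨V, hV, rfl⟩, hxV, -⟩ := X.isBasis_affineOpens.exists_subset_of_mem_open
    (Set.mem_univ (s (closedPoint A))) isOpen_univ
  have hsV : ⊤ ≤ s ⁻¹ᵁ V := fun z _ => by
    exact (s ⁻¹ᵁ V).isOpen.stableUnderGeneralization
      ((specializes_closedPoint z)) hxV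
  let e : Γ(X, V) →+* A := (s.appLE V ⊤ hsV ≫ (Scheme.ΓSpecIso A).hom).hom
  have he : e.comp (phi f V) = RingHom.id A := RingHom.ext fun x => phi_section f s hs hsV x
  have hlε : l * ε ∈ I := by
    have := Ideal.mem_map_of_mem e (hdiff ⟨V, hV⟩)
    rw [Ideal.map_map, he, Ideal.map_id, map_sub] at this
    have e1 : e ((X.presheaf.map (homOfLE le_top).op).hom a) = 0 := by
      have e3 : X.presheaf.map (homOfLE (le_top : V ≤ ⊤)).op ≫ s.appLE V ⊤ hsV = s.appTop := by
        rw [Scheme.Hom.map_appLE]; exact Scheme.Hom.appLE_eq_app _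
      exact (congrArg (Scheme.ΓSpecIso A).hom.hom (congr($(e3).hom a).trans hsa)).trans (map_zero (Scheme.ΓSpecIso A).hom.hom)
    have e2 : e (phi f V (l * ε)) = l * ε := congr($he (l * ε))
    rw [e1, e2, zero_sub, neg_mem_iff] at this
    exact this
  have := add_mem (hdiff U) (Ideal.mem_map_of_mem (phi f U.1) hlε)
  rwa [sub_add_cancel] at this

include hs h0 hsa in
theorem vanish_pow [IsNoetherianRing A] (n : ℕ) : Vanish f a (maximalIdeal A ^ n) := by
  classical
  induction n with
  | zero => intro U; simp [Ideal.map_top]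
  | succ n ih =>
    obtain ⟨S, hS⟩ := (IsNoetherian.noetherian (maximalIdeal A ^ n) : (maximalIdeal A ^ n).FG)
    suffices H : ∀ T : Finset A, T ⊆ S →
        Vanish f a (maximalIdeal A ^ (n + 1) ⊔ Ideal.span T) → Vanish f a (maximalIdeal A ^ (n + 1)) from
      H S subset_rfl (fun U => Ideal.map_mono
        (le_sup_of_le_right hS.ge) (ih U))
    intro T hT
    induction T using Finset.induction_on with
    | empty => simp
    | @insert x T hxT ihT =>
      intro hv
      refine ihT (fun z hz => hT (Finset.mem_insert_of_mem hz)) (Vanish.step f s hs h0 a hsa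
        (ε := x) (fun m hm => Ideal.mem_sup_left ?_) ?_)
      · rw [pow_succ', ← hS]
        exact Ideal.mul_mem_mul hm (Ideal.subset_span (hT (Finset.mem_insert_self x T)))
      · rwa [Finset.coe_insert, Ideal.span_insert, sup_comm (Ideal.span {x}), ← sup_assoc] at hv

include hs h0 hsa in
/-- A global function killed by the section is zero. -/
theorem eq_zero_of_section [IsNoetherianRing A] [IsProper f] : a = 0 := by
  haveI : IsLocallyNoetherian X := LocallyOfFiniteType.isLocallyNoetherian f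
  have key : ∀ x : X, f x = closedPoint A → X.presheaf.germ ⊤ x trivial a = 0 := by
    intro x hx
    obtain ⟨_, ⟨U, hU, rfl⟩, hxU, -⟩ := X.isBasis_affineOpens.exists_subset_of_mem_open
      (Set.mem_univ x) isOpen_univ
    have hle : (maximalIdeal A).map ((X.presheaf.germ U x hxU).hom.comp (phi f U)) ≤
        maximalIdeal (X.presheaf.stalk x) := by
      rw [Ideal.map_le_iff_le_comap]
      intro m hm
      rw [Ideal.mem_comap, mem_maximalIdeal, mem_nonunits_iff]
      intro hu
      have h1 : x ∈ X.basicOpen (phi f U m) := (Scheme.mem_basicOpen _ _ x hxU).2 hu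
      have h2 : x ∈ U ⊓ f ⁻¹ᵁ (Spec A).basicOpen ((Scheme.ΓSpecIso A).inv.hom m) :=
        (Scheme.basicOpen_appLE f U ⊤ (le_top.trans_eq (Scheme.Hom.preimage_top f).symm) _).le h1
      have h3 : closedPoint A ∈ (Spec A).basicOpen ((Scheme.ΓSpecIso A).inv.hom m) := hx ▸ h2.2
      rw [basicOpen_eq_of_affine'] at h3
      exact h3 ((congr($((Scheme.ΓSpecIso A).inv_hom_id).hom m)).symm ▸ hm)
    rw [← TopCat.Presheaf.germ_res_apply X.presheaf (homOfLE (le_top : U ≤ ⊤)) x hxU a]
    have : ∀ n : ℕ, (X.presheaf.germ U x hxU).hom ((X.presheaf.map (homOfLE le_top).op).hom a) ∈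
        maximalIdeal (X.presheaf.stalk x) ^ n := fun n => by
      have := Ideal.mem_map_of_mem (X.presheaf.germ U x hxU).hom
        (vanish_pow f s hs h0 a hsa n ⟨U, hU⟩)
      rw [Ideal.map_map, Ideal.map_pow] at this
      exact Ideal.pow_right_mono hle n this
    have hb := Submodule.mem_iInf _ |>.2 this
    rwa [Ideal.iInf_pow_eq_bot_of_isLocalRing _ (maximalIdeal.isMaximal _).ne_top,
      Submodule.mem_bot] at hb
  refine TopCat.Presheaf.IsSheaf.section_ext X.IsSheaf (fun x _ => ?_)
  obtain ⟨_, ⟨y, hy, rfl⟩, hyc⟩ : ∃ c ∈ f '' closure {x}, c = closedPoint A := by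
    have hcl : IsClosed (f '' closure {x}) := f.isClosedMap _ isClosed_closure
    exact ⟨_, (specializes_closedPoint (f x)).mem_closed hcl
      ⟨x, subset_closure rfl, rfl⟩, rfl⟩
  have hxy : x ⤳ y := specializes_iff_mem_closure.2 hy
  obtain ⟨W, hyW, i₁, i₂, e⟩ := X.presheaf.germ_eq (U := ⊤) (V := ⊤) y trivial trivial a 0
    ((key y hyc).trans (map_zero _).symm)
  exact ⟨W, le_top, hxy.mem_open W.2 hyW, e⟩

end Groth.Agent.H2.Rigid
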