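import Groth.Agent.H2.Rigid.H0
import Groth.Agent.H90.ConnFun
import Mathlib.FieldTheory.PurelyInseparable.Basic
import Mathlib.FieldTheory.Perfect
import Mathlib.FieldTheory.Minpoly.IsConjRoot
import Mathlib.RingTheory.Nilpotent.GeometricallyReduced
import Mathlib.RingTheory.Idempotents
import Mathlib.RingTheory.KrullDimension.Zero

/-!
# Global functions and geometric connectedness over a field

For a quasi-compact separated scheme `X` over a field `k` with ring of global functions `R`, the
functions on `X_K` are `R ⊗_k K`. When `R` is integral over `k` this describes geometric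
connectedness through `R`.
-/

universe u

open CategoryTheory Limits AlgebraicGeometry TensorProduct

namespace Groth.Agent.H2.Rigid.GeomConn0

section Algebra

variable {k R : Type u} [Field k] [CommRing R] [Algebra k R]

/-- Every element of an algebra integral over a field without non-trivial idempotents is a unit or
nilpotent. -/
theorem isUnit_or_isNilpotent (hid : ∀ e : R, IsIdempotentElem e → e = 0 ∨ e = 1) (b : R)
    (hb : IsIntegral k b) : IsUnit b ∨ IsNilpotent b := by
  obtain ⟨q, hq, hq0⟩ := Polynomial.exists_eq_pow_rootMultiplicity_mul_and_not_dvd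
    (minpoly k b) (minpoly.ne_zero hb) 0
  rw [map_zero, sub_zero] at hq0 hq
  set m := (minpoly k b).rootMultiplicity 0
  have hcop : IsCoprime (Polynomial.X ^ m) q :=
    ((Polynomial.irreducible_X).coprime_iff_not_dvd.2 hq0).pow_left
  obtain ⟨s, t, hst⟩ := hcop
  have h1 := congrArg (Polynomial.aeval b) hst
  have h0 := minpoly.aeval k b
  rw [hq] at h0
  simp only [map_add, map_mul, map_pow, Polynomial.aeval_X, map_one] at h0 h1
  set S := Polynomial.aeval b s
  set T := Polynomial.aeval b t
  set Q := Polynomial.aeval b q with hQ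
  have he : IsIdempotentElem (S * b ^ m) := by
    show _ * _ = _
    linear_combination (S * b ^ m) * h1 - S * T * h0
  rcases hid _ he with h | h
  · right
    refine ⟨m, ?_⟩
    rw [h, zero_add] at h1
    linear_combination T * h0 - b ^ m * h1
  · left
    have hQ0 : Q = 0 := by linear_combination S * h0 - Q * h
    have hc : q.coeff 0 ≠ 0 := fun h' => hq0 (Polynomial.X_dvd_iff.2 h')
    have hr : Q = algebraMap k R (q.coeff 0) + b * Polynomial.aeval b q.divX := by
      rw [hQ]
      conv_lhs => rw [← Polynomial.X_mul_divX_add q]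
      rw [map_add, map_mul, Polynomial.aeval_X, Polynomial.aeval_C, add_comm]
    refine IsUnit.of_mul_eq_one (a := b)
      (-(algebraMap k R (q.coeff 0)⁻¹ * Polynomial.aeval b q.divX)) ?_
    have h2 : algebraMap k R (q.coeff 0)⁻¹ * algebraMap k R (q.coeff 0) = 1 := by
      rw [← map_mul, inv_mul_cancel₀ hc, map_one]
    linear_combination h2 + algebraMap k R (q.coeff 0)⁻¹ * hr -
      algebraMap k R (q.coeff 0)⁻¹ * hQ0

/-- Such an algebra is local of dimension zero. -/
theorem isLocalRing_and_dim [Nontrivial R] [Algebra.IsIntegral k R]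
    (hid : ∀ e : R, IsIdempotentElem e → e = 0 ∨ e = 1) :
    IsLocalRing R ∧ ringKrullDim R = 0 := by
  have h := fun b : R => isUnit_or_isNilpotent (k := k) hid b (Algebra.IsIntegral.isIntegral b)
  have : IsLocalRing R := IsLocalRing.of_isUnit_or_isUnit_one_sub_self fun b =>
    (h b).imp_right IsNilpotent.isUnit_one_sub
  refine ⟨this, ?_⟩
  have : Ring.KrullDimLE 0 R := Ring.KrullDimLE.mk₀ fun p hp => by
    refine Ideal.isMaximal_iff.2 ⟨hp.one_notMem, fun J x hJ hxp hxJ => ?_⟩
    rcases h x with hx | ⟨n, hn⟩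
    · simpa [Ideal.eq_top_of_isUnit_mem J hxJ hx] using Submodule.mem_top
    · exact absurd (hp.mem_of_pow_mem n (hn ▸ p.zero_mem)) hxp
  exact ringKrullDimZero_iff_ringKrullDim_eq_zero.1 this

/-- A local ring of dimension zero has no non-trivial idempotents. -/
theorem idem_of_isLocalRing [IsLocalRing R] (e : R) (he : IsIdempotentElem e) : e = 0 ∨ e = 1 := by
  rcases IsLocalRing.isUnit_or_isUnit_one_sub_self e with h | h
  · exact Or.inr (h.mul_eq_left.1 he.eq)
  · exact Or.inl (h.mul_right_eq_zero.1 (by rw [sub_mul, one_mul, he.eq, sub_self]))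

/-- If every element has a `q^n`-th power that is a constant up to nilpotents, then no base change
to a field has non-trivial idempotents. -/
theorem idem_tensor [Nontrivial R] (q : ℕ) [ExpChar k q]
    (hR : ∀ a : R, ∃ (n : ℕ) (c : k), IsNilpotent (a ^ (q ^ n) - algebraMap k R c))
    (K : Type u) [Field K] [Algebra k K] (e : K ⊗[k] R) (he : IsIdempotentElem e) :
    e = 0 ∨ e = 1 := by
  have hinj : Function.Injective (Algebra.TensorProduct.includeRight : R →ₐ[k] K ⊗[k] R) :=
    Algebra.TensorProduct.includeRight_injective (RingHom.injective _)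
  have hT : Nontrivial (K ⊗[k] R) := hinj.nontrivial
  have hxk : ExpChar (K ⊗[k] R) q :=
    expChar_of_injective_ringHom (algebraMap k (K ⊗[k] R)).injective q
  have key : ∀ x : K ⊗[k] R, ∃ (n : ℕ) (μ : K),
      IsNilpotent (x ^ (q ^ n) - algebraMap K (K ⊗[k] R) μ) := by
    intro x
    induction x using TensorProduct.induction_on with
    | zero => exact ⟨0, 0, by simp⟩
    | tmul l a =>
      obtain ⟨n, c, hc⟩ := hR a
      refine ⟨n, c • l ^ (q ^ n), ?_⟩
      have : (l ⊗ₜ[k] a : K ⊗[k] R) ^ (q ^ n) - algebraMap K (K ⊗[k] R) (c • l ^ (q ^ n)) =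
          ((l ^ (q ^ n)) ⊗ₜ[k] (1 : R)) *
            Algebra.TensorProduct.includeRight (a ^ (q ^ n) - algebraMap k R c) := by
        rw [Algebra.TensorProduct.tmul_pow, Algebra.TensorProduct.algebraMap_apply, map_sub,
          mul_sub, Algebra.algebraMap_self_apply, Algebra.TensorProduct.includeRight_apply,
          Algebra.TensorProduct.includeRight_apply, Algebra.TensorProduct.tmul_mul_tmul,
          Algebra.TensorProduct.tmul_mul_tmul, mul_one, one_mul, one_mul,
          Algebra.algebraMap_eq_smul_one c, ← TensorProduct.smul_tmul]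
      rw [this]
      exact (Commute.all _ _).isNilpotent_mul_left (hc.map _)
    | add x y hx hy =>
      obtain ⟨n, μ, h1⟩ := hx
      obtain ⟨m, ν, h2⟩ := hy
      refine ⟨n + m, μ ^ (q ^ m) + ν ^ (q ^ n), ?_⟩
      have e1 : (x + y) ^ (q ^ (n + m)) -
          algebraMap K (K ⊗[k] R) (μ ^ (q ^ m) + ν ^ (q ^ n)) =
          (x ^ (q ^ n) - algebraMap K _ μ) ^ (q ^ m) +
            (y ^ (q ^ m) - algebraMap K _ ν) ^ (q ^ n) := by
        rw [add_pow_expChar_pow, sub_pow_expChar_pow, sub_pow_expChar_pow, map_add, map_pow,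
          map_pow, ← pow_mul, ← pow_mul, ← pow_add, ← pow_add, add_comm m n]
        ring
      rw [e1]
      exact (Commute.all _ _).isNilpotent_add (h1.pow_of_pos (pow_pos (expChar_pos k q) _).ne')
        (h2.pow_of_pos (pow_pos (expChar_pos k q) _).ne')
  obtain ⟨n, μ, hμ⟩ := key e
  rw [he.pow_eq (pow_pos (expChar_pos k q) n).ne'] at hμ
  set π := Ideal.Quotient.mk (nilradical (K ⊗[k] R))
  have hπ : ∀ z, IsNilpotent z → π z = 0 := fun z hz => Ideal.Quotient.eq_zero_iff_mem.2 hz
  have h1 : π e = π (algebraMap K _ μ) := by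
    rw [← sub_eq_zero, ← map_sub]; exact hπ _ hμ
  have h2 : μ * μ = μ := by
    have : IsNilpotent (algebraMap K (K ⊗[k] R) (μ * μ - μ)) := by
      refine mem_nilradical.1 (Ideal.Quotient.eq_zero_iff_mem.1 ?_)
      rw [map_sub, map_sub, map_mul, map_mul, ← h1, ← map_mul, he.eq, sub_self]
    by_contra hne
    have hu : IsUnit (algebraMap K (K ⊗[k] R) (μ * μ - μ)) :=
      (isUnit_iff_ne_zero.2 (sub_ne_zero.2 hne)).map _
    exact this.not_isUnit hu
  have hmu : μ = 0 ∨ μ = 1 := by
    rcases eq_or_ne μ 0 with h | h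
    · exact Or.inl h
    · exact Or.inr ((mul_eq_left₀ h).1 h2)
  rcases hmu with rfl | rfl
  · rw [map_zero, sub_zero] at hμ
    exact Or.inl (he.eq_zero_of_isNilpotent hμ)
  · rw [map_one] at hμ
    exact Or.inr (sub_eq_zero.1
      ((IsIdempotentElem.one_sub he).eq_zero_of_isNilpotent (neg_sub e 1 ▸ hμ.neg))).symm

/-- Conversely, if `R ⊗ k̄` has no non-trivial idempotents then every element has a `q^n`-th power
that is a constant up to nilpotents. -/
theorem pow_mem [Nontrivial R] [Algebra.IsIntegral k R] (q : ℕ) [ExpChar k q]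
    (hid : ∀ e : AlgebraicClosure k ⊗[k] R, IsIdempotentElem e → e = 0 ∨ e = 1) (a : R) :
    ∃ (n : ℕ) (c : k), IsNilpotent (a ^ (q ^ n) - algebraMap k R c) := by
  classical
  let L := AlgebraicClosure k
  have hinj : Function.Injective (Algebra.TensorProduct.includeRight : R →ₐ[k] L ⊗[k] R) :=
    Algebra.TensorProduct.includeRight_injective (RingHom.injective _)
  have hT : Nontrivial (L ⊗[k] R) := hinj.nontrivial
  set α : L ⊗[k] R := 1 ⊗ₜ[k] a
  have hα : IsIntegral k α :=
    (Algebra.IsIntegral.isIntegral a).map (Algebra.TensorProduct.includeRight : R →ₐ[k] L ⊗[k] R)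
  -- a constant `c` congruent to `α`
  obtain ⟨c, hc⟩ : ∃ c : L, IsNilpotent (α - algebraMap L (L ⊗[k] R) c) := by
    obtain ⟨M, hM⟩ := Ideal.exists_maximal (L ⊗[k] R)
    have hαL : IsIntegral L α := hα.tower_top
    have hm : IsIntegral L (Ideal.Quotient.mk M α) := hαL.map (Ideal.Quotient.mkₐ L M)
    letI := Ideal.Quotient.field M
    obtain ⟨c, hc⟩ : Ideal.Quotient.mk M α ∈ (algebraMap L (L ⊗[k] R ⧸ M)).range :=
      minpoly.mem_range_of_degree_eq_one L _
        (IsAlgClosed.degree_eq_one_of_irreducible L (minpoly.irreducible hm))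
    refine ⟨c, (isUnit_or_isNilpotent (k := L) hid _
      (hαL.sub isIntegral_algebraMap)).resolve_left fun hu => ?_⟩
    have : IsUnit (Ideal.Quotient.mk M (α - algebraMap L _ c)) := hu.map _
    rw [map_sub, ← Ideal.Quotient.algebraMap_eq, ← IsScalarTower.algebraMap_apply,
      Ideal.Quotient.algebraMap_eq, hc, sub_self] at this
    exact not_isUnit_zero this
  have hfix : ∀ σ : L ≃ₐ[k] L, σ c = c := by
    intro σ
    have h2 := hc.map (Algebra.TensorProduct.map σ.toAlgHom (AlgHom.id k R))
    have h3 : Algebra.TensorProduct.map σ.toAlgHom (AlgHom.id k R) (α - algebraMap L _ c) =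
        α - algebraMap L _ (σ c) := by
      simp [α, Algebra.TensorProduct.algebraMap_apply]
    rw [h3] at h2
    by_contra hne
    have h4 : IsNilpotent (algebraMap L (L ⊗[k] R) (σ c - c)) := by
      have := (Commute.all _ _).isNilpotent_sub hc h2
      have e2 : algebraMap L (L ⊗[k] R) (σ c - c) =
          α - algebraMap L _ c - (α - algebraMap L _ (σ c)) := by
        rw [map_sub]; ring
      rw [e2]
      exact this
    exact h4.not_isUnit ((isUnit_iff_ne_zero.2 (sub_ne_zero.2 hne)).map _)
  have hcint : IsIntegral k c := Algebra.IsIntegral.isIntegral c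
  have hsd : (minpoly k c).natSepDegree = 1 := by
    rw [Polynomial.natSepDegree_eq_of_isAlgClosed (E := L), Finset.card_eq_one]
    refine ⟨c, Finset.eq_singleton_iff_unique_mem.2 ⟨?_, fun y hy => ?_⟩⟩
    · rw [Multiset.mem_toFinset, Polynomial.mem_aroots]
      exact ⟨minpoly.ne_zero hcint, minpoly.aeval k c⟩
    · rw [Multiset.mem_toFinset, Polynomial.mem_aroots] at hy
      have : IsConjRoot k c y := isConjRoot_of_aeval_eq_zero hcint hy.2
      obtain ⟨σ, hσ⟩ := isConjRoot_iff_exists_algEquiv.1 this.symm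
      rw [← hσ, hfix]
  obtain ⟨n, c₀, hc₀⟩ := (minpoly.natSepDegree_eq_one_iff_pow_mem q).1 hsd
  refine ⟨n, c₀, ?_⟩
  have : IsNilpotent ((α - algebraMap L (L ⊗[k] R) c) ^ (q ^ n)) :=
    hc.pow_of_pos (pow_pos (expChar_pos k q) _).ne'
  have hxk : ExpChar (L ⊗[k] R) q :=
    expChar_of_injective_ringHom (algebraMap k (L ⊗[k] R)).injective q
  rw [sub_pow_expChar_pow, ← map_pow, ← hc₀, ← IsScalarTower.algebraMap_apply] at this
  refine (IsNilpotent.map_iff hinj).1 ?_
  rw [map_sub, map_pow, AlgHom.commutes]
  exact this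

/-- A finite geometrically reduced algebra which is a field is separable. -/
theorem isSeparable [Algebra.IsIntegral k R] [_root_.IsReduced (AlgebraicClosure k ⊗[k] R)]
    (a : R) : IsSeparable k a := by
  let L := AlgebraicClosure k
  have hint : IsIntegral k a := Algebra.IsIntegral.isIntegral a
  set f := (minpoly k a).map (algebraMap k L)
  set α : L ⊗[k] R := 1 ⊗ₜ[k] a
  have hf : f.Monic := (minpoly.monic hint).map _
  have hd : f.natDegree = (minpoly k a).natDegree := Polynomial.natDegree_map _
  have hfα : Polynomial.aeval α f = 0 := by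
    rw [Polynomial.aeval_map_algebraMap,
      show α = (Algebra.TensorProduct.includeRight : R →ₐ[k] L ⊗[k] R) a from rfl,
      Polynomial.aeval_algHom_apply, minpoly.aeval, map_zero]
  have hli : LinearIndependent L fun i : Fin (minpoly k a).natDegree => α ^ (i : ℕ) := by
    have := Module.Flat.linearIndependent_one_tmul (S := L) (linearIndependent_pow (K := k) a)
    convert this using 2 with i
    simp [α, Algebra.TensorProduct.tmul_pow]
  have hmin : ∀ g : Polynomial L, Polynomial.aeval α g = 0 → f ∣ g := by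
    intro g hg
    rw [← Polynomial.modByMonic_eq_zero_iff_dvd hf]
    have h0 : Polynomial.aeval α (g %ₘ f) = 0 := by
      rw [Polynomial.modByMonic_eq_sub_mul_div, map_sub, map_mul, hfα, zero_mul, sub_zero, hg]
    by_contra hne
    have hlt : (g %ₘ f).natDegree < (minpoly k a).natDegree := by
      rw [← hd]
      exact Polynomial.natDegree_modByMonic_lt g hf fun h1 =>
        hne (by rw [h1, Polynomial.modByMonic_one])
    rw [Polynomial.aeval_eq_sum_range' hlt, ← Fin.sum_univ_eq_sum_range
      (fun i => (g %ₘ f).coeff i • α ^ i)] at h0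
    have hz := Fintype.linearIndependent_iff.1 hli _ h0
    refine hne (Polynomial.ext fun i => ?_)
    rcases lt_or_ge i (minpoly k a).natDegree with hi | hi
    · simpa using hz ⟨i, hi⟩
    · simpa using Polynomial.coeff_eq_zero_of_natDegree_lt (hlt.trans_le hi)
  have hsq : Squarefree f := by
    rintro p ⟨r, hr⟩
    have h1 : Polynomial.aeval α (p * r) = 0 := by
      refine IsReduced.eq_zero _ ⟨2, ?_⟩
      rw [← map_pow, show (p * r) ^ 2 = r * f by rw [hr]; ring, map_mul, hfα, mul_zero]
    obtain ⟨w, hw⟩ := hmin _ h1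
    have hp0 : p * r ≠ 0 := fun h => hf.ne_zero (by rw [hr, mul_assoc, h, mul_zero])
    refine IsUnit.of_mul_eq_one (a := p) w (mul_left_cancel₀ hp0 ?_)
    rw [mul_one]
    conv_rhs => rw [hw, hr]
    ring
  exact Polynomial.separable_map (algebraMap k L) |>.1 (PerfectField.separable_iff_squarefree.2 hsq)

end Algebra

section Scheme

variable {k : Type u} [Field k] {X : Scheme.{u}} (f : X ⟶ Spec (.of k))

/-- The structure map on global functions. -/
noncomputable def str : k →+* Γ(X, ⊤) :=
  f.appTop.hom.comp (Scheme.ΓSpecIso (CommRingCat.of k)).inv.hom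

theorem str_isIntegral [UniversallyClosed f] : (str f).IsIntegral := by
  refine RingHom.IsIntegral.trans _ _ ?_ (isIntegral_appTop_of_universallyClosed f)
  exact RingHom.isIntegral_of_surjective _
    (Scheme.ΓSpecIso (CommRingCat.of k)).commRingCatIsoToRingEquiv.symm.surjective

/-- The functions on the base change of `X` are the base change of the functions. -/
theorem exists_ringEquiv [QuasiCompact f] [QuasiSeparated f] [Algebra k Γ(X, ⊤)]
    (halg : algebraMap k Γ(X, ⊤) = str f) {K : Type u} [Field K] [Algebra k K]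
    {P : Scheme.{u}} {p₁ : P ⟶ X} {p₂ : P ⟶ Spec (.of K)}
    (h : IsPullback p₁ p₂ f (Spec.map (CommRingCat.ofHom (algebraMap k K)))) :
    Nonempty (K ⊗[k] Γ(X, ⊤) ≃+* Γ(P, ⊤)) := by
  have H := (isPushout_baseChange f h).flip
  have H' : IsPushout (CommRingCat.ofHom (algebraMap k K))
      (CommRingCat.ofHom (algebraMap k Γ(X, ⊤)))
      ((Scheme.ΓSpecIso (CommRingCat.of K)).inv ≫ p₂.appTop) p₁.appTop := by
    refine H.of_iso (Scheme.ΓSpecIso (CommRingCat.of k)) (Scheme.ΓSpecIso (CommRingCat.of K))
      (Iso.refl _) (Iso.refl _) ?_ ?_ ?_ ?_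
    · exact Scheme.ΓSpecIso_naturality _
    · simp [halg, str]
    · simp
    · simp
  exact ⟨((CommRingCat.isPushout_tensorProduct k K Γ(X, ⊤)).isoIsPushout _ _
    H').commRingCatIsoToRingEquiv⟩

theorem idem_iff_of_ringEquiv {A B : Type u} [CommRing A] [CommRing B] (e : A ≃+* B) :
    (∀ x : A, IsIdempotentElem x → x = 0 ∨ x = 1) →
      (∀ y : B, IsIdempotentElem y → y = 0 ∨ y = 1) := fun h y hy => by
  rcases h (e.symm y) (hy.map e.symm.toRingHom) with h0 | h1
  · exact Or.inl (e.symm.injective (by rw [h0, map_zero]))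
  · exact Or.inr (e.symm.injective (by rw [h1, map_one]))

/-- Geometric connectedness through the ring of global functions. -/
theorem geometricallyConnected_iff [UniversallyClosed f] [IsSeparated f] [QuasiCompact f]
    [Algebra k Γ(X, ⊤)] (halg : algebraMap k Γ(X, ⊤) = str f) (q : ℕ) [ExpChar k q] :
    GeometricallyConnected f ↔
      (IsLocalRing Γ(X, ⊤) ∧ ringKrullDim Γ(X, ⊤) = 0 ∧
        ∀ a : Γ(X, ⊤), ∃ (n : ℕ) (c : k),
          IsNilpotent (a ^ (q ^ n) - algebraMap k Γ(X, ⊤) c)) := by
  have hint : Algebra.IsIntegral k Γ(X, ⊤) :=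
    ⟨fun x => by
      show RingHom.IsIntegralElem (algebraMap k Γ(X, ⊤)) x
      rw [halg]; exact str_isIntegral f x⟩
  constructor
  · intro hf
    have hc : ConnectedSpace X :=
      GeometricallyConnected.connectedSpace_of_subsingleton (f := f)
    have : Nonempty (⊤ : X.Opens) := ⟨⟨Classical.arbitrary X, trivial⟩⟩
    have hn : Nontrivial Γ(X, ⊤) := Scheme.component_nontrivial X ⊤
    obtain ⟨h1, h2⟩ := isLocalRing_and_dim (k := k)
      (fun e he => @Groth.Agent.H90.ConnFun.idempotent_eq_zero_or_one X inferInstance e he)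
    refine ⟨h1, h2, pow_mem q ?_⟩
    have sq := IsPullback.of_hasPullback f
      (Spec.map (CommRingCat.ofHom (algebraMap k (AlgebraicClosure k))))
    have : ConnectedSpace ↥(pullback f
        (Spec.map (CommRingCat.ofHom (algebraMap k (AlgebraicClosure k))))) :=
      GeometricallyConnected.geometrically_connectedSpace _ _ _ sq
    obtain ⟨e⟩ := exists_ringEquiv f halg sq
    exact idem_iff_of_ringEquiv e.symm
      (fun x hx => @Groth.Agent.H90.ConnFun.idempotent_eq_zero_or_one (pullback f
        (Spec.map (CommRingCat.ofHom (algebraMap k (AlgebraicClosure k))))) inferInstance x hx)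
  · rintro ⟨hl, -, hR⟩
    refine ⟨fun K _ y P p₁ p₂ h => ?_⟩
    obtain ⟨φ, rfl⟩ := Spec.map_surjective y
    letI : Algebra k K := φ.hom.toAlgebra
    obtain ⟨e⟩ := exists_ringEquiv f halg (K := K) h
    have : PreconnectedSpace P := Groth.Agent.H90.ConnFun.preconnectedSpace_of_idempotents
      (idem_iff_of_ringEquiv e (idem_tensor q hR K))
    have hT : Nontrivial (K ⊗[k] Γ(X, ⊤)) :=
      (Algebra.TensorProduct.includeRight_injective (A := K)
        (RingHom.injective (algebraMap k K))).nontrivial
    have : Nontrivial Γ(P, ⊤) := e.injective.nontrivial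
    have hnP : Nontrivial Γ(P, ⊤) := this
    have : Nonempty P := by
      by_contra hP
      rw [not_nonempty_iff] at hP
      exact (not_subsingleton_iff_nontrivial.2 hnP) inferInstance
    exact ⟨this⟩

end Scheme

end Groth.Agent.H2.Rigid.GeomConn0
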