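import Groth.Agent.H52.FBase.StalkBC
import Groth.Agent.Lib.GeomConn.Residue
import Groth.Agent.Lib.NormalTensor.Main
import Groth.Agent.Lib.Henselian.Normal
import Groth.Prelude.Def_Curv2
import Groth.Prelude.Def_Pi1
import Mathlib.RingTheory.Ideal.GoingUp

/-!
# Geometric normality at a point

Local rings of `X_K` above `x` are localizations of `O_x ⊗ K`; for `K` integral over `k` all maximal
ideals of this ring lie over `x`, so geometric normality at `x` can be read in `O_x`.
-/

set_option autoImplicit false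
universe u

open CategoryTheory CategoryTheory.Limits AlgebraicGeometry TensorProduct
open Groth.Agent.H52.FBase Groth.Agent.Lib.NormalTensor
attribute [local instance] Curv2.stalkAlgebra

namespace Groth.Agent.H2.Rigid.GeomNormal

/-- Normality of a scheme at a point. -/
def NormalAt (X : Scheme.{u}) (x : X) : Prop :=
  IsDomain (X.presheaf.stalk x) ∧ IsIntegrallyClosed (X.presheaf.stalk x)

theorem normal_of_equiv {A B : Type u} [CommRing A] [CommRing B] (e : A ≃+* B)
    (h : IsDomain A ∧ IsIntegrallyClosed A) : IsDomain B ∧ IsIntegrallyClosed B := by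
  obtain ⟨_, _⟩ := h
  exact ⟨e.symm.toMulEquiv.isDomain, .of_equiv e⟩

/-- Flat preimmersions preserve normality at points. -/
theorem normalAt_map {A B : Scheme.{u}} (j : A ⟶ B) [Flat j] [SurjectiveOnStalks j] (a : A)
    (h : NormalAt A a) : NormalAt B (j a) :=
  normal_of_equiv (RingEquiv.ofBijective (j.stalkMap a).hom (StalkBC.bijective_stalkMap j a)).symm h

/-- Flat morphisms reflect normality. -/
theorem normalAt_of_flat {A B : Scheme.{u}} (j : A ⟶ B) [Flat j] (a : A) (h : NormalAt A a) :
    NormalAt B (j a) := by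
  let _ : Algebra (B.presheaf.stalk (j a)) (A.presheaf.stalk a) := (j.stalkMap a).hom.toAlgebra
  have : Module.Flat (B.presheaf.stalk (j a)) (A.presheaf.stalk a) := Flat.stalkMap j a
  have : IsLocalHom (algebraMap (B.presheaf.stalk (j a)) (A.presheaf.stalk a)) :=
    inferInstanceAs (IsLocalHom (j.stalkMap a).hom)
  have : Module.FaithfullyFlat (B.presheaf.stalk (j a)) (A.presheaf.stalk a) := .of_flat_of_isLocalHom
  obtain ⟨_, _⟩ := h
  exact Groth.Agent.Lib.Henselian.Normal.isDomain_and_isIntegrallyClosed_of_faithfullyFlat _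
    (A.presheaf.stalk a)

instance (A : CommRingCat.{u}) (q : Spec A) : (PrimeSpectrum.asIdeal (R := A) q).IsPrime := q.isPrime

theorem normalAt_spec {R : CommRingCat.{u}} (h : EGA4.IsNormalRing R) (q : Spec R) :
    NormalAt (Spec R) q :=
  normal_of_equiv (Spec.stalkIso _ q).commRingCatIsoToRingEquiv.symm (h _)

variable (k : Type u) [Field k] (X : Scheme.{u}) [X.Over (Spec (CommRingCat.of k))]

/-- The local ring with its structure of `k`-algebra. -/
abbrev O (x : X) : Type u := StalkBC.Ox (X ↘ Spec (CommRingCat.of k)) x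

theorem isNormalRing_O_iff (x : X) (K : Type u) [Field K] [Algebra k K] :
    EGA4.IsNormalRing (K ⊗[k] O k X x) ↔ EGA4.IsNormalRing (K ⊗[k] ↥(X.presheaf.stalk x)) := by
  have h : (inferInstance : Algebra k (O k X x)) = Curv2.stalkAlgebra k X x := by
    refine Algebra.algebra_ext _ _ fun c => ?_
    have e : Curv2.stalkMap k X x = StalkBC.φ (X ↘ Spec (CommRingCat.of k)) x := by
      refine congrArg CommRingCat.Hom.hom (Spec.map_injective
        (a₁ := CommRingCat.ofHom (Curv2.stalkMap k X x))
        (a₂ := CommRingCat.ofHom (StalkBC.φ (X ↘ Spec (CommRingCat.of k)) x)) ?_)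
      exact (Groth.Agent.Lib.GeomConn.Residue.specMap_stalkMap k X x).trans
        (StalkBC.specMap_φ _ x).symm
    exact (congr($(e) c)).symm
  exact iff_of_eq (congrArg (fun i : Algebra k (X.presheaf.stalk x) =>
    @EGA4.IsNormalRing (@TensorProduct k _ K (X.presheaf.stalk x) _ _ _ i.toModule)
      (@Algebra.TensorProduct.instCommRing k K (X.presheaf.stalk x) _ _ _ _ i)) h)

/-- Points of `X_K` over generisations of `x` are normal when `K ⊗ O_x` is. -/
theorem normalAt_of_tensor (x : X) (K : Type u) [Field K] [Algebra k K]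
    (h : EGA4.IsNormalRing (K ⊗[k] O k X x)) (y : ↥(Curv2.bc k X K))
    (hy : Curv2.bcFst k X K y ⤳ x) : NormalAt (Curv2.bc k X K) y := by
  obtain ⟨q, rfl⟩ := StalkBC.exists_j_eq (X ↘ Spec (CommRingCat.of k)) x K y hy
  exact normal_of_equiv (StalkBC.stalkEquiv (X ↘ Spec (CommRingCat.of k)) x K q).symm
    (Field.isNormalRing_comm k h _)

/-- For integral `K`, normality at the points over `x` gives normality of `K ⊗ O_x`. -/
theorem tensor_of_normalAt (x : X) (K : Type u) [Field K] [Algebra k K] [Algebra.IsIntegral k K]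
    (h : ∀ y : ↥(Curv2.bc k X K), Curv2.bcFst k X K y = x → NormalAt (Curv2.bc k X K) y) :
    EGA4.IsNormalRing (K ⊗[k] O k X x) := by
  refine Field.isNormalRing_comm k (Basic.isNormalRing_of_forall_localization fun P hP => ?_)
  obtain ⟨m, hm, hPm⟩ := P.exists_le_maximal hP.ne_top
  have hint : (algebraMap (O k X x) (O k X x ⊗[k] K)).IsIntegral :=
    Algebra.IsIntegral.isIntegral (R := O k X x) (A := O k X x ⊗[k] K)
  have hmax : (m.comap (algebraMap (O k X x) (O k X x ⊗[k] K))).IsMaximal :=
    Ideal.isMaximal_comap_of_isIntegral_of_isMaximal' _ hint m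
  let q : Spec (CommRingCat.of (O k X x ⊗[k] K)) := (⟨m, hm.isPrime⟩ : PrimeSpectrum _)
  have hy := (StalkBC.j_π_eq_iff (X ↘ Spec (CommRingCat.of k)) x K q).2
    (IsLocalRing.eq_maximalIdeal hmax)
  obtain ⟨_, _⟩ := normal_of_equiv (StalkBC.stalkEquiv (X ↘ Spec (CommRingCat.of k)) x K q)
    (h _ hy)
  exact ⟨Localization.AtPrime m, inferInstance, inferInstance, m.primeCompl, inferInstance,
    fun a ha haP => ha (hPm haP), Main.isNormalRing_of_domain⟩

/-- Normality at the points over `x` of all finite purely inseparable extensions gives normality of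
all `K ⊗ O_x`. -/
theorem tensor_of_pi (x : X)
    (h : ∀ (k' : Type u) [Field k'] [Algebra k k'] [FiniteDimensional k k']
      [IsPurelyInseparable k k'] (x' : ↥(Curv2.bc k X k')),
      Curv2.bcFst k X k' x' = x → NormalAt (Curv2.bc k X k') x')
    (K : Type u) [Field K] [Algebra k K] : EGA4.IsNormalRing (K ⊗[k] O k X x) := by
  have hpi : Field.IsPINormal k (O k X x) := fun k' _ _ hfin hins =>
    have : Algebra.IsIntegral k k' := inferInstance
    tensor_of_normalAt k X x k' fun y hy => @h k' _ _ hfin hins y hy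
  exact hpi.isNormalRing_tensor K

end Groth.Agent.H2.Rigid.GeomNormal
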