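import Groth.Agent.Lib.SymGr.BaseChange
import Groth.Agent.Lib.Regular.Descent
import Groth.Agent.Lib.JacCrit.SmoothLocal
import Groth.Agent.S9406
import Groth.Prelude.Def_Found
import Mathlib.RingTheory.EssentialFiniteness

/-!
# Geometric regularity of Noetherian algebras over a field

Geometric regularity, regularity after finite purely inseparable extensions and adic formal
smoothness of all local rings agree; it propagates to every base change that stays Noetherian.
-/

set_option autoImplicit false
set_option linter.style.haveILetI false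
universe u

open IsLocalRing TensorProduct
open Groth.Agent.Lib

namespace Groth.Agent.H2.Rigid.GeomRegAlg

variable (k : Type u) [Field k] (A : Type u) [CommRing A] [Algebra k A]

/-- Regularity after every finite purely inseparable extension. -/
def PIReg : Prop :=
  ∀ (k' : Type u) [Field k'] [Algebra k k'], Module.Finite k k' → IsPurelyInseparable k k' →
    IsRegularRing (k' ⊗[k] A)

/-- Adic formal smoothness of all local rings. -/
def LocAdic : Prop :=
  ∀ (P : Ideal A) [P.IsPrime],
    CAlgX.IsAdicFormallySmooth k (Localization.AtPrime P) (maximalIdeal (Localization.AtPrime P))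

variable {k A}

theorem PIReg.of_geometricallyRegular (h : CAlg.IsGeometricallyRegular k A) : PIReg k A :=
  fun k' _ _ hf _ => h k' hf

theorem PIReg.localization (h : PIReg k A) (P : Ideal A) [P.IsPrime] :
    PIReg k (Localization.AtPrime P) := fun E _ _ hf hi => by
  haveI := h E hf hi
  let M := P.primeCompl.map (Algebra.TensorProduct.includeRight (R := k) (A := E) (B := A))
  haveI := SymGr.BaseChange.isRegularRing_of_isLocalization M (Localization M)
  exact IsRegularRing.of_ringEquiv
    (IsLocalization.tensorProductEquivOfMapIncludeRight k E P.primeCompl (Localization.AtPrime P)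
      (Localization M)).toRingEquiv.symm

theorem adic_of_piReg {R : Type u} [CommRing R] [Algebra k R] [IsLocalRing R] [IsNoetherianRing R]
    (h : PIReg k R) : CAlgX.IsAdicFormallySmooth k R (maximalIdeal R) := by
  obtain ⟨p, hp⟩ := ExpChar.exists k
  exact (SymGr.BaseChange.iff_forall_regular p).2 fun k' _ _ hf hpow =>
    h k' hf ((isPurelyInseparable_iff_pow_mem k p).2 fun x => ⟨1, by simpa using hpow x⟩)

theorem PIReg.locAdic [IsNoetherianRing A] (h : PIReg k A) : LocAdic k A :=
  fun P _ => adic_of_piReg (h.localization P)

theorem isNoetherianRing_tensor [IsNoetherianRing A] (E : Type u) [Field E] [Algebra k E]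
    [Algebra.EssFiniteType k E] : IsNoetherianRing (E ⊗[k] A) :=
  haveI : IsNoetherianRing (A ⊗[k] E) := Algebra.EssFiniteType.isNoetherianRing A _
  isNoetherianRing_of_ringEquiv _ (Algebra.TensorProduct.comm k A E).toRingEquiv

/-- Base change followed by localization at a prime above the closed point. -/
theorem adic_over {R : Type u} [CommRing R] [Algebra k R] [IsLocalRing R]
    (h : CAlgX.IsAdicFormallySmooth k R (maximalIdeal R))
    (E : Type u) [Field E] [Algebra k E] (M : Ideal (E ⊗[k] R)) [M.IsPrime]
    (hmM : maximalIdeal R ≤ M.comap (Algebra.TensorProduct.includeRight (R := k) (A := E) (B := R))) :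
    CAlgX.IsAdicFormallySmooth E (Localization.AtPrime M) (maximalIdeal (Localization.AtPrime M)) := by
  intro C _ _ J hJ ψ ⟨t, ht⟩
  let T := Localization.AtPrime M
  let inc : R →ₐ[k] E ⊗[k] R := Algebra.TensorProduct.includeRight
  letI : Algebra k C := ((algebraMap E C).comp (algebraMap k E)).toAlgebra
  haveI : IsScalarTower k E C := IsScalarTower.of_algebraMap_eq' rfl
  let toT : E ⊗[k] R →ₐ[E] T := IsScalarTower.toAlgHom E (E ⊗[k] R) T
  let ψA : R →ₐ[k] C ⧸ J :=
    { (ψ.toRingHom.comp (toT.toRingHom.comp inc.toRingHom)) with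
      commutes' := fun c => by
        change ψ (toT (inc (algebraMap k R c))) = algebraMap k (C ⧸ J) c
        rw [inc.commutes, IsScalarTower.algebraMap_apply k E (E ⊗[k] R), toT.commutes, ψ.commutes]
        rfl }
  obtain ⟨v, hv⟩ := h C J hJ ψA ⟨t, fun x hx => ht _ (by
    have h1 : (maximalIdeal R).map (toT.toRingHom.comp inc.toRingHom) ≤ maximalIdeal T := by
      rw [Ideal.map_le_iff_le_comap]
      intro y hy
      rw [Ideal.mem_comap, ← Localization.AtPrime.map_eq_maximalIdeal]
      exact Ideal.mem_map_of_mem _ (hmM hy)
    refine Ideal.pow_right_mono h1 t ?_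
    rw [← Ideal.map_pow]
    exact Ideal.mem_map_of_mem _ hx)⟩
  let w : E ⊗[k] R →ₐ[E] C :=
    Algebra.TensorProduct.lift (Algebra.ofId E C) v fun _ _ => Commute.all _ _
  have hw : ∀ z, Ideal.Quotient.mk J (w z) = ψ (toT z) := by
    intro z
    induction z using TensorProduct.induction_on with
    | zero => simp only [map_zero]
    | add a b ha hb => simp only [map_add, ha, hb]
    | tmul e a =>
      rw [Algebra.TensorProduct.lift_tmul, map_mul,
        show e ⊗ₜ[k] a = algebraMap E (E ⊗[k] R) e * inc a by
          simp [inc, Algebra.TensorProduct.algebraMap_apply], map_mul, map_mul, toT.commutes,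
        ψ.commutes]
      congr 1
      exact AlgHom.congr_fun hv a
  have hunit : ∀ y : M.primeCompl, IsUnit (w y) := fun y => by
    have h1 : IsUnit (Ideal.Quotient.mk J (w y)) := by
      rw [hw]
      exact (IsLocalization.map_units T y).map ψ
    exact SymGr.BaseChange.adic_localization.isUnit_of_map_unit' J ⟨2, hJ⟩ h1
  refine ⟨IsLocalization.liftAlgHom hunit, IsLocalization.algHom_ext M.primeCompl ?_⟩
  refine AlgHom.ext fun z => ?_
  change Ideal.Quotient.mk J (IsLocalization.lift hunit (algebraMap _ T z)) = ψ (toT z)
  rw [IsLocalization.lift_eq]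
  exact hw z

/-- Every Noetherian base change is regular. -/
theorem LocAdic.isRegularRing_tensor (h : LocAdic k A) (E : Type u) [Field E] [Algebra k E]
    [IsNoetherianRing (E ⊗[k] A)] : IsRegularRing (E ⊗[k] A) := by
  refine isRegularRing_iff.mpr fun P _ => ?_
  let ι := Algebra.TensorProduct.includeRight (R := k) (A := E) (B := A)
  let p := P.comap ι.toRingHom
  let A' := Localization.AtPrime p
  letI : Algebra (E ⊗[k] A) (E ⊗[k] A') :=
    (Algebra.TensorProduct.map (AlgHom.id k E) (IsScalarTower.toAlgHom k A A')).toRingHom.toAlgebra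
  haveI : IsScalarTower E (E ⊗[k] A) (E ⊗[k] A') :=
    .of_algebraMap_eq fun x => by simp [RingHom.algebraMap_toAlgebra]
  haveI := IsLocalization.tensorProduct_tensorProduct_right k E p.primeCompl A'
    (by ext; simp [RingHom.algebraMap_toAlgebra])
  let M := p.primeCompl.map ι
  haveI : IsNoetherianRing (E ⊗[k] A') := IsLocalization.isNoetherianRing M _ inferInstance
  have hdisj : Disjoint (M : Set (E ⊗[k] A)) P := Set.disjoint_left.2 (by
    rintro _ ⟨a, ha, rfl⟩ h; exact ha h)
  let P' := P.map (algebraMap (E ⊗[k] A) (E ⊗[k] A'))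
  haveI : P'.IsPrime := IsLocalization.isPrime_of_isPrime_disjoint M _ P ‹_› hdisj
  have hP' : P'.comap (algebraMap (E ⊗[k] A) (E ⊗[k] A')) = P :=
    IsLocalization.under_map_of_isPrime_disjoint M (E ⊗[k] A') ‹_› hdisj
  have hm : maximalIdeal A' ≤
      P'.comap (Algebra.TensorProduct.includeRight (R := k) (A := E) (B := A')) := by
    rw [← Localization.AtPrime.map_eq_maximalIdeal, Ideal.map_le_iff_le_comap]
    intro a (ha : ι a ∈ P)
    have := Ideal.mem_map_of_mem (algebraMap (E ⊗[k] A) (E ⊗[k] A')) ha
    simpa [Ideal.mem_comap, RingHom.algebraMap_toAlgebra, ι, P'] using this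
  haveI : IsRegularLocalRing (Localization.AtPrime P') :=
    (SymGr.RegularField.symGrBijective_iff E).1
      (SymGr.OverField.iff_symGr_and_injective_int.1 (adic_over (h p) E P' hm)).1
  haveI := IsLocalization.isLocalization_isLocalization_atPrime_isLocalization M
    (Localization.AtPrime P') P'
  haveI : IsLocalization.AtPrime (Localization.AtPrime P') P := by
    have h' : IsLocalization (P'.comap (algebraMap (E ⊗[k] A) (E ⊗[k] A'))).primeCompl
        (Localization.AtPrime P') := inferInstance
    show IsLocalization P.primeCompl (Localization.AtPrime P')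
    have e : (P'.comap (algebraMap (E ⊗[k] A) (E ⊗[k] A'))).primeCompl = P.primeCompl := by
      simp only [hP']
    rwa [e] at h'
  exact IsRegularLocalRing.of_ringEquiv (R := Localization.AtPrime P')
    (IsLocalization.algEquiv P.primeCompl (Localization.AtPrime P') (Localization.AtPrime P)).toRingEquiv

theorem LocAdic.geometricallyRegular [IsNoetherianRing A] (h : LocAdic k A) :
    CAlg.IsGeometricallyRegular k A := fun k' _ _ hf =>
  haveI := hf
  haveI := isNoetherianRing_tensor (A := A) (k := k) k'
  h.isRegularRing_tensor k'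

theorem locAdic_of_geometricallyRegular [IsNoetherianRing A] (h : CAlg.IsGeometricallyRegular k A) :
    LocAdic k A :=
  (PIReg.of_geometricallyRegular h).locAdic

theorem geometricallyRegular_iff_piReg [IsNoetherianRing A] :
    CAlg.IsGeometricallyRegular k A ↔ PIReg k A :=
  ⟨PIReg.of_geometricallyRegular, fun h => h.locAdic.geometricallyRegular⟩

theorem geometricallyRegular_iff_locAdic [IsNoetherianRing A] :
    CAlg.IsGeometricallyRegular k A ↔ LocAdic k A :=
  ⟨locAdic_of_geometricallyRegular, LocAdic.geometricallyRegular⟩

theorem isRegularRing_tensor [IsNoetherianRing A] (h : CAlg.IsGeometricallyRegular k A)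
    (E : Type u) [Field E] [Algebra k E] [IsNoetherianRing (E ⊗[k] A)] :
    IsRegularRing (E ⊗[k] A) :=
  (locAdic_of_geometricallyRegular h).isRegularRing_tensor E

/-- A flat algebra over a regular ring with regular fibres is regular. -/
theorem isRegularRing_of_fibres {R S : Type u} [CommRing R] [CommRing S] [Algebra R S]
    [IsRegularRing R] [IsNoetherianRing S] [Module.Flat R S]
    (h : ∀ (p : Ideal R) [p.IsPrime], IsRegularRing (p.Fiber S)) : IsRegularRing S := by
  refine isRegularRing_iff.mpr fun q hq => ?_
  let p := q.comap (algebraMap R S)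
  haveI : q.LiesOver p := ⟨rfl⟩
  let qF := PrimeSpectrum.preimageHomeomorphFiber R S ⟨p, inferInstance⟩ ⟨⟨q, hq⟩, rfl⟩
  have hqF : qF.asIdeal.comap (Algebra.TensorProduct.includeRight (R := R) (A := p.ResidueField)) = q :=
    congrArg (fun z : PrimeSpectrum.comap (algebraMap R S) ⁻¹' {(⟨p, inferInstance⟩ : PrimeSpectrum R)} =>
      z.1.asIdeal) ((PrimeSpectrum.preimageHomeomorphFiber R S ⟨p, inferInstance⟩).symm_apply_apply ⟨⟨q, hq⟩, rfl⟩)
  obtain ⟨e⟩ := JacCrit.FlatRegular.nonempty_ringEquiv p q qF.asIdeal hqF
  haveI := h p
  haveI : IsRegularLocalRing (Localization.AtPrime qF.asIdeal) :=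
    isRegularRing_iff.mp (h p) qF.asIdeal
  let φ := Localization.localRingHom p q (algebraMap R S) rfl
  let _ : Algebra (Localization.AtPrime p) (Localization.AtPrime q) := φ.toAlgebra
  haveI : IsScalarTower R (Localization.AtPrime p) (Localization.AtPrime q) :=
    IsScalarTower.of_algebraMap_eq fun a => by
      rw [IsScalarTower.algebraMap_apply R S (Localization.AtPrime q)]
      exact (Localization.localRingHom_to_map _ q (algebraMap R S) rfl a).symm
  haveI : Module.Flat R (Localization.AtPrime q) :=
    haveI : Module.Flat S (Localization.AtPrime q) := IsLocalization.flat _ q.primeCompl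
    Module.Flat.trans R S _
  have hflat : Module.Flat (Localization.AtPrime p) (Localization.AtPrime q) :=
    (Module.flat_iff_of_isLocalization (Localization.AtPrime p) p.primeCompl _).2 ‹_›
  haveI : IsLocalHom φ := Localization.isLocalHom_localRingHom _ q (algebraMap R S) rfl
  haveI : IsLocalHom (algebraMap (Localization.AtPrime p) (Localization.AtPrime q)) := ‹IsLocalHom φ›
  haveI : IsRegularLocalRing (Localization.AtPrime p) := isRegularRing_iff.mp ‹IsRegularRing R› p
  have hI : (maximalIdeal (Localization.AtPrime p)).map φ =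
      p.map (algebraMap R (Localization.AtPrime q)) := by
    rw [← Localization.AtPrime.map_eq_maximalIdeal, Ideal.map_map]
    exact congrArg (Ideal.map · p) (IsScalarTower.algebraMap_eq R (Localization.AtPrime p)
      (Localization.AtPrime q)).symm
  haveI : IsRegularLocalRing (Localization.AtPrime q ⧸
      (maximalIdeal (Localization.AtPrime p)).map (algebraMap (Localization.AtPrime p) (Localization.AtPrime q))) :=
    IsRegularLocalRing.of_ringEquiv (R := Localization.AtPrime qF.asIdeal)
      (e.trans (Ideal.quotEquivOfEq hI.symm))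
  exact JacCrit.FlatRegular.isRegularLocalRing (A := Localization.AtPrime p)
    ((add_comm _ _).trans (JacCrit.SmoothLocal.ringKrullDim_eq_of_flat φ hflat).symm).le

end Groth.Agent.H2.Rigid.GeomRegAlg
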