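import Groth.Agent.H2.Rigid.GeomRegLocal
import Groth.Agent.H52.FBase.StalkBC
import Mathlib.AlgebraicGeometry.Fiber
import Mathlib.AlgebraicGeometry.Morphisms.Flat
import Mathlib.AlgebraicGeometry.Noetherian

/-!
# Geometrically regular fibres, read on affine charts

`RegPt g z` says that the local ring at `z` is geometrically regular over the base field.
-/

set_option autoImplicit false
set_option linter.style.haveILetI false
universe u

open CategoryTheory CategoryTheory.Limits AlgebraicGeometry TensorProduct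
open Groth.Agent.H52.FBase

namespace Groth.Agent.H2.Rigid.GeomRegFibre

/-- The local ring at `z` is geometrically regular over `k`. -/
def RegPt {k : Type u} [Field k] {Z : Scheme.{u}} (g : Z ⟶ Spec (CommRingCat.of k)) (z : Z) : Prop :=
  CAlg.IsGeometricallyRegular k (StalkBC.Ox g z)

variable {k : Type u} [Field k] {Z : Scheme.{u}}

theorem regPt_openImmersion {Z' : Scheme.{u}} (l : Z' ⟶ Z) [IsOpenImmersion l]
    (g : Z ⟶ Spec (CommRingCat.of k)) (g' : Z' ⟶ Spec (CommRingCat.of k)) (hg : l ≫ g = g') (z : Z') :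
    RegPt g' z ↔ RegPt g (l z) := by
  have hb : Function.Bijective (l.stalkMap z).hom := ConcreteCategory.bijective_of_isIso (l.stalkMap z)
  let e : StalkBC.Ox g (l z) ≃ₐ[k] StalkBC.Ox g' z :=
    AlgEquiv.ofRingEquiv (f := RingEquiv.ofBijective (l.stalkMap z).hom hb) fun c => by
      have key : CommRingCat.ofHom (StalkBC.φ g (l z)) ≫ l.stalkMap z =
          CommRingCat.ofHom (StalkBC.φ g' z) := by
        apply Spec.map_injective
        rw [Spec.map_comp, StalkBC.specMap_φ, StalkBC.specMap_φ, ← hg,
          Scheme.SpecMap_stalkMap_fromSpecStalk_assoc]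
      exact congr($(key).hom c)
  exact ⟨GeomRegHom.congr e.symm, GeomRegHom.congr e⟩

/-- Changing the base field by an isomorphism. -/
theorem regPt_iso {k' : Type u} [Field k'] (e : Spec (CommRingCat.of k) ≅ Spec (CommRingCat.of k'))
    (g : Z ⟶ Spec (CommRingCat.of k)) (g' : Z ⟶ Spec (CommRingCat.of k')) (hg : g ≫ e.hom = g')
    (z : Z) : RegPt g z → RegPt g' z := by
  intro h
  let t : k' →+* k := (Spec.preimage e.hom).hom
  have ht : Function.Surjective t := by
    intro c
    refine ⟨(Spec.preimage e.inv).hom c, ?_⟩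
    have : Spec.preimage e.inv ≫ Spec.preimage e.hom = 𝟙 _ := Spec.map_injective
      (by rw [Spec.map_comp, Spec.map_preimage, Spec.map_preimage, Spec.map_id, e.hom_inv_id])
    exact congr($(this).hom c)
  have key : StalkBC.φ g' z = (StalkBC.φ g z).comp t := by
    refine congrArg CommRingCat.Hom.hom (Spec.map_injective
      (a₁ := CommRingCat.ofHom (StalkBC.φ g' z))
      (a₂ := Spec.preimage e.hom ≫ CommRingCat.ofHom (StalkBC.φ g z)) ?_)
    rw [Spec.map_comp, StalkBC.specMap_φ, StalkBC.specMap_φ, Spec.map_preimage, Category.assoc, hg]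
  let A := StalkBC.Ox g z
  letI : Algebra k' k := t.toAlgebra
  letI : Algebra k' A := ((algebraMap k A).comp t).toAlgebra
  haveI : IsScalarTower k' k A := IsScalarTower.of_algebraMap_eq' rfl
  let μ : k ⊗[k'] A →ₐ[k] A := Algebra.TensorProduct.lift (Algebra.ofId k A) (AlgHom.id k' A)
    fun _ _ => Commute.all _ _
  have hμ : Function.Bijective μ := by
    refine Function.bijective_iff_has_inverse.2 ⟨fun a => (1 : k) ⊗ₜ[k'] a, fun x => ?_, fun a => by simp [μ]⟩
    induction x using TensorProduct.induction_on with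
    | zero => simp
    | add x y hx hy => simp only [map_add, TensorProduct.tmul_add, hx, hy]
    | tmul c a =>
      obtain ⟨c', rfl⟩ := ht c
      change (1 : k) ⊗ₜ[k'] μ (algebraMap k' k c' ⊗ₜ a) = algebraMap k' k c' ⊗ₜ a
      have h1 : μ (algebraMap k' k c' ⊗ₜ[k'] a) = c' • a := by
        simp [μ, Algebra.smul_def, ← IsScalarTower.algebraMap_apply]
      rw [h1, Algebra.algebraMap_eq_smul_one, TensorProduct.smul_tmul]
  have h' := GeomRegHom.descend A k (GeomRegHom.congr (AlgEquiv.ofBijective μ hμ).symm h)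
  have hA : (inferInstance : Algebra k' (StalkBC.Ox g' z)) = ((algebraMap k A).comp t).toAlgebra :=
    Algebra.algebra_ext _ _ fun c => congr($(key) c)
  exact (congrArg (fun i : Algebra k' (Z.presheaf.stalk z) =>
    @CAlg.IsGeometricallyRegular k' _ (Z.presheaf.stalk z) _ i) hA).mpr h'

theorem regPt_iso_iff {k' : Type u} [Field k'] (e : Spec (CommRingCat.of k) ≅ Spec (CommRingCat.of k'))
    (g : Z ⟶ Spec (CommRingCat.of k)) (g' : Z ⟶ Spec (CommRingCat.of k')) (hg : g ≫ e.hom = g')
    (z : Z) : RegPt g z ↔ RegPt g' z :=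
  ⟨regPt_iso e g g' hg z,
    regPt_iso e.symm g' g (by rw [← hg, Category.assoc, Iso.symm_hom, e.hom_inv_id, Category.comp_id]) z⟩

instance (A : CommRingCat.{u}) (q : Spec A) : (PrimeSpectrum.asIdeal (R := A) q).IsPrime := q.isPrime

instance (F : Type u) [CommRing F] (q : Spec (CommRingCat.of F)) :
    (PrimeSpectrum.asIdeal (R := F) q).IsPrime := q.isPrime

/-- Affine form. -/
theorem regPt_spec_iff (F : Type u) [CommRing F] [Algebra k F] [IsNoetherianRing F] :
    (∀ q : Spec (CommRingCat.of F), RegPt (Spec.map (CommRingCat.ofHom (algebraMap k F))) q) ↔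
      CAlg.IsGeometricallyRegular k F := by
  let g := Spec.map (CommRingCat.ofHom (algebraMap k F))
  have e : ∀ q : Spec (CommRingCat.of F),
      Nonempty (StalkBC.Ox g q ≃ₐ[k] Localization.AtPrime (PrimeSpectrum.asIdeal (R := F) q)) := by
    intro q
    refine ⟨AlgEquiv.ofRingEquiv (f := (Spec.stalkIso _ q).commRingCatIsoToRingEquiv) fun c => ?_⟩
    have key : CommRingCat.ofHom (StalkBC.φ g q) = CommRingCat.ofHom (algebraMap k F) ≫
        CommRingCat.ofHom (algebraMap F (Localization.AtPrime (PrimeSpectrum.asIdeal (R := F) q))) ≫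
          (Spec.stalkIso (CommRingCat.of F) q).inv := by
      apply Spec.map_injective
      rw [StalkBC.specMap_φ, Spec.map_comp, Spec.fromSpecStalk_eq]
      exact congrArg (· ≫ g) (congrArg Spec.map (Spec.algebraMap_stalkIso_inv (R := CommRingCat.of F) q).symm)
    have := congr($(key).hom c)
    refine (congrArg (Spec.stalkIso (CommRingCat.of F) q).hom this).trans ?_
    rw [IsScalarTower.algebraMap_apply k F (Localization.AtPrime (PrimeSpectrum.asIdeal (R := F) q))]
    exact congr($((Spec.stalkIso (CommRingCat.of F) q).inv_hom_id).hom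
      (algebraMap F (Localization.AtPrime (PrimeSpectrum.asIdeal (R := F) q)) (algebraMap k F c)))
  constructor
  · intro h
    refine GeomRegLocal.of_forall_localization fun P hP => ?_
    let q : Spec (CommRingCat.of F) := (⟨P, hP⟩ : PrimeSpectrum F)
    obtain ⟨e'⟩ := e q
    exact ⟨Localization.AtPrime P, inferInstance, inferInstance, inferInstance, inferInstance,
      P.primeCompl, inferInstance, le_rfl, GeomRegHom.congr e' (h q)⟩
  · intro h q
    obtain ⟨e'⟩ := e q
    exact GeomRegHom.congr e'.symm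
      (GeomRegLocal.localization (PrimeSpectrum.asIdeal (R := F) q).primeCompl _ h)

set_option backward.isDefEq.respectTransparency false in
/-- The fibre ring of a chart is an open piece of the fibre, compatibly with the residue fields. -/
theorem exists_chart {X Y : Scheme.{u}} (f : X ⟶ Y) (R S : Type u) [CommRing R] [CommRing S]
    [Algebra R S] (v : Spec (.of R) ⟶ Y) [IsOpenImmersion v] (w : Spec (.of S) ⟶ X)
    [IsOpenImmersion w] (hw : w ≫ f = Spec.map (CommRingCat.ofHom (algebraMap R S)) ≫ v)
    (p : PrimeSpectrum R) :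
    ∃ (e : Spec (Y.residueField (v p)) ≅ Spec (.of p.asIdeal.ResidueField))
      (j : Spec (.of (p.asIdeal.Fiber S)) ⟶ f.fiber (v p)), IsOpenImmersion j ∧
      j ≫ f.fiberToSpecResidueField (v p) ≫ e.hom =
        Spec.map (CommRingCat.ofHom (algebraMap p.asIdeal.ResidueField (p.asIdeal.Fiber S))) ∧
      ∀ z, f.fiberι (v p) z ∈ Set.range w → z ∈ Set.range j := by
  let k : Spec (.of p.asIdeal.ResidueField) ⟶ Spec (.of R) :=
    Spec.map (CommRingCat.ofHom (algebraMap R p.asIdeal.ResidueField))
  have hk : ∃ e : Spec (Y.residueField (v p)) ≅ Spec (.of p.asIdeal.ResidueField),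
      Y.fromSpecResidueField (v p) = e.hom ≫ k ≫ v := by
    refine ⟨(asIso (Spec.map (v.residueFieldMap p))).symm ≪≫
      (Scheme.Spec.mapIso (Scheme.Spec.residueFieldIso (.of R) p).symm.op).symm.symm, ?_⟩
    have h1 := Scheme.Spec.map_residueFieldIso_inv_eq_fromSpecResidueField (.of R) p
    simp only [Iso.trans_hom, Iso.symm_symm_eq, Iso.symm_hom, asIso_inv, Functor.mapIso_hom,
      Iso.op_hom, Scheme.Spec_map, Quiver.Hom.unop_op, Category.assoc, k]
    rw [IsIso.eq_inv_comp, Scheme.Hom.SpecMap_residueFieldMap_fromSpecResidueField]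
    rw [← h1]
    simp only [Category.assoc, Spec.map_comp]
    try rfl
  obtain ⟨e, he⟩ := hk
  let P := pullback (Spec.map (CommRingCat.ofHom (algebraMap R S))) k
  let l : P ⟶ f.fiber (v p) := pullback.lift (pullback.fst _ _ ≫ w) (pullback.snd _ _ ≫ e.inv) (by
    rw [Category.assoc, Category.assoc, he, hw, e.inv_hom_id_assoc, pullback.condition_assoc])
  have hbig : IsPullback (pullback.fst (Spec.map (CommRingCat.ofHom (algebraMap R S))) k)
      (pullback.snd _ _ ≫ e.inv) (w ≫ f) (Y.fromSpecResidueField (v p)) := by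
    rw [hw]
    refine IsPullback.mk ⟨by rw [Category.assoc, he, e.inv_hom_id_assoc, pullback.condition_assoc]⟩
      ⟨PullbackCone.IsLimit.mk _ (fun s ↦ pullback.lift s.fst (s.snd ≫ e.hom) ?_) ?_ ?_ ?_⟩
    · rw [← cancel_mono v, Category.assoc, Category.assoc, Category.assoc, ← he]
      exact s.condition
    · intro s; exact pullback.lift_fst ..
    · intro s
      rw [← Category.assoc, pullback.lift_snd, Category.assoc, e.hom_inv_id, Category.comp_id]
    · intro s m h1 h2
      apply pullback.hom_ext
      · rw [pullback.lift_fst, h1]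
      · rw [pullback.lift_snd, ← h2]
        simp
  have hl : l ≫ pullback.snd f (Y.fromSpecResidueField (v p)) = pullback.snd _ _ ≫ e.inv :=
    pullback.lift_snd ..
  have sq : IsPullback (pullback.fst (Spec.map (CommRingCat.ofHom (algebraMap R S))) k) l w
      (f.fiberι (v p)) := by
    refine IsPullback.of_bot ?_ (pullback.lift_fst _ _ _).symm
      (IsPullback.of_hasPullback f (Y.fromSpecResidueField (v p)))
    rwa [hl]
  have : IsOpenImmersion l := MorphismProperty.of_isPullback (P := @IsOpenImmersion) sq ‹_›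
  let i := (pullbackSpecIso R p.asIdeal.ResidueField S).symm ≪≫ pullbackSymmetry _ _
  refine ⟨e, i.hom ≫ l, inferInstance, ?_, fun z hz => ?_⟩
  · change (i.hom ≫ l) ≫ pullback.snd f (Y.fromSpecResidueField (v p)) ≫ e.hom = _
    rw [Category.assoc, reassoc_of% hl, e.inv_hom_id, Category.comp_id]
    simp only [i, Iso.trans_hom, Iso.symm_hom, Category.assoc, k]
    rw [pullbackSymmetry_hom_comp_snd, pullbackSpecIso_inv_fst]
    rfl
  · obtain ⟨a, ha⟩ := hz
    obtain ⟨q, -, hq⟩ := Scheme.Pullback.exists_preimage_pullback a z (f := w) (g := f.fiberι (v p)) ha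
    obtain ⟨q', rfl⟩ := sq.isoPullback.hom.surjective q
    obtain ⟨q'', rfl⟩ := i.hom.surjective q'
    refine ⟨q'', ?_⟩
    rw [← hq]
    exact congrArg (fun m : P ⟶ f.fiber (v p) => m (i.hom q'')) (sq.isoPullback_hom_snd).symm

end Groth.Agent.H2.Rigid.GeomRegFibre
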