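import Groth.Agent.H2.Rigid.GeomRegAlg
import Mathlib.RingTheory.LocalRing.ResidueField.Fiber
import Mathlib.RingTheory.Flat.FaithfullyFlat.Algebra

/-!
# Geometric regularity and base change of regular homomorphisms
-/

set_option autoImplicit false
set_option linter.style.haveILetI false
set_option synthInstance.maxHeartbeats 200000
universe u

open TensorProduct Groth.Agent.H2.Rigid.GeomRegAlg

namespace Groth.Agent.H2.Rigid.GeomRegHom

variable {k : Type u} [Field k]

theorem congr {A B : Type u} [CommRing A] [CommRing B] [Algebra k A] [Algebra k B] (e : A ≃ₐ[k] B)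
    (h : CAlg.IsGeometricallyRegular k A) : CAlg.IsGeometricallyRegular k B := fun k' _ _ hk' =>
  haveI := h k' hk'
  IsRegularRing.of_ringEquiv
    (Algebra.TensorProduct.congr (AlgEquiv.refl (R := k) (A₁ := k')) e).toRingEquiv

variable (A : Type u) [CommRing A] [Algebra k A] (K : Type u) [Field K] [Algebra k K]

/-- Base change of geometric regularity to any field with Noetherian base change. -/
theorem baseChange [IsNoetherianRing A] [IsNoetherianRing (K ⊗[k] A)]
    (h : CAlg.IsGeometricallyRegular k A) : CAlg.IsGeometricallyRegular K (K ⊗[k] A) := by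
  intro L _ _ hf
  have := hf
  let _ : Algebra k L := ((algebraMap K L).comp (algebraMap k K)).toAlgebra
  have : IsScalarTower k K L := IsScalarTower.of_algebraMap_eq' rfl
  let e := Algebra.TensorProduct.cancelBaseChange k K L L A
  have : IsNoetherianRing (L ⊗[K] (K ⊗[k] A)) := isNoetherianRing_tensor (A := K ⊗[k] A) (k := K) L
  have : IsNoetherianRing (L ⊗[k] A) := isNoetherianRing_of_ringEquiv _ e.toRingEquiv
  have := isRegularRing_tensor h L
  exact IsRegularRing.of_ringEquiv (R := L ⊗[k] A) e.symm.toRingEquiv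

set_option maxHeartbeats 1000000 in
/-- Geometric regularity descends along any field extension. -/
theorem descend (h : CAlg.IsGeometricallyRegular K (K ⊗[k] A)) : CAlg.IsGeometricallyRegular k A := by
  intro k' _ _ hf
  have := hf
  have : Nontrivial (K ⊗[k] k') :=
    (Algebra.TensorProduct.includeRight_injective (A := K) (B := k')
      (RingHom.injective (algebraMap k K))).nontrivial
  obtain ⟨M, hM⟩ := Ideal.exists_maximal (K ⊗[k] k')
  let L := K ⊗[k] k' ⧸ M
  let _ : Field L := Ideal.Quotient.field M
  have : Module.Finite K L :=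
    Module.Finite.of_surjective (Ideal.Quotient.mkₐ K M).toLinearMap Ideal.Quotient.mk_surjective
  let _ : Algebra k' L := (((Ideal.Quotient.mk M)).comp
    (Algebra.TensorProduct.includeRight (R := k) (A := K) (B := k')).toRingHom).toAlgebra
  have : IsScalarTower k k' L := IsScalarTower.of_algebraMap_eq' (RingHom.ext fun c => by
    rw [IsScalarTower.algebraMap_apply k (K ⊗[k] k') L]
    exact congrArg (Ideal.Quotient.mk M) (Algebra.TensorProduct.includeRight.commutes c).symm)
  have := h L inferInstance
  let e := Algebra.TensorProduct.cancelBaseChange k K L L A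
  have : IsRegularRing (L ⊗[k] A) := IsRegularRing.of_ringEquiv (R := L ⊗[K] (K ⊗[k] A)) e.toRingEquiv
  let e' := (Algebra.TensorProduct.cancelBaseChange k k' k' L A).symm.toRingEquiv.trans
    (Algebra.TensorProduct.comm k' L (k' ⊗[k] A)).toRingEquiv
  have : IsRegularRing ((k' ⊗[k] A) ⊗[k'] L) := IsRegularRing.of_ringEquiv e'
  have : Module.FaithfullyFlat k' L := inferInstance
  have : Module.FaithfullyFlat (k' ⊗[k] A) ((k' ⊗[k] A) ⊗[k'] L) := inferInstance
  exact Groth.Agent.S9406.result (k' ⊗[k] A) ((k' ⊗[k] A) ⊗[k'] L)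

section hom

variable {R S R' : Type u} [CommRing R] [CommRing S] [CommRing R'] [Algebra R S] [Algebra R R']

theorem isNoetherianRing_fiber [IsNoetherianRing S] (p : Ideal R) [p.IsPrime] :
    IsNoetherianRing (p.Fiber S) :=
  haveI : IsNoetherianRing (S ⊗[R] p.ResidueField) := Algebra.EssFiniteType.isNoetherianRing S _
  isNoetherianRing_of_ringEquiv _ (Algebra.TensorProduct.comm R S p.ResidueField).toRingEquiv

/-- The fibre of a base change. -/
theorem fiber_iff' (p : Ideal R) [p.IsPrime] (p' : Ideal R') [p'.IsPrime]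
    (hp : p'.comap (algebraMap R R') = p) (hN : IsNoetherianRing (p.Fiber S))
    (hN' : IsNoetherianRing (p'.Fiber (R' ⊗[R] S))) :
    CAlg.IsGeometricallyRegular p'.ResidueField (p'.Fiber (R' ⊗[R] S)) ↔
      CAlg.IsGeometricallyRegular p.ResidueField (p.Fiber S) := by
  let L := p'.ResidueField
  let κ := p.ResidueField
  let φ : κ →+* L := Ideal.ResidueField.map p p' (algebraMap R R') hp.symm
  let _ : Algebra κ L := φ.toAlgebra
  have : IsScalarTower R κ L := IsScalarTower.of_algebraMap_eq fun x => by
    change algebraMap R L x = φ (algebraMap R κ x)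
    rw [Ideal.ResidueField.map_algebraMap, IsScalarTower.algebraMap_apply R R' L]
  let e : L ⊗[κ] (p.Fiber S) ≃ₐ[L] p'.Fiber (R' ⊗[R] S) :=
    (Algebra.TensorProduct.cancelBaseChange R κ L L S).trans
      (Algebra.TensorProduct.cancelBaseChange R R' L L S).symm
  have : IsNoetherianRing (L ⊗[κ] (p.Fiber S)) := isNoetherianRing_of_ringEquiv _ e.symm.toRingEquiv
  exact ⟨fun h => descend (p.Fiber S) L (congr e.symm h), fun h => congr e (baseChange (p.Fiber S) L h)⟩

theorem fiber_iff [IsNoetherianRing S] [IsNoetherianRing (R' ⊗[R] S)] (p : Ideal R) [p.IsPrime]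
    (p' : Ideal R') [p'.IsPrime] (hp : p'.comap (algebraMap R R') = p) :
    CAlg.IsGeometricallyRegular p'.ResidueField (p'.Fiber (R' ⊗[R] S)) ↔
      CAlg.IsGeometricallyRegular p.ResidueField (p.Fiber S) :=
  fiber_iff' p p' hp (isNoetherianRing_fiber p) (isNoetherianRing_fiber p')

/-- Base change of regular homomorphisms. -/
theorem isRegularHom_baseChange [IsNoetherianRing S] [IsNoetherianRing (R' ⊗[R] S)]
    (h : CAlg.IsRegularHom R S) : CAlg.IsRegularHom R' (R' ⊗[R] S) := by
  have := h.1
  exact ⟨inferInstance, fun p' _ => ⟨isNoetherianRing_fiber p',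
    (fiber_iff _ p' rfl).2 (h.2 (p'.comap (algebraMap R R'))).2⟩⟩

/-- Descent of regular homomorphisms along faithfully flat base change. -/
theorem isRegularHom_descend [IsNoetherianRing S] [IsNoetherianRing (R' ⊗[R] S)]
    [Module.FaithfullyFlat R R'] (h : CAlg.IsRegularHom R' (R' ⊗[R] S)) : CAlg.IsRegularHom R S := by
  have := h.1
  refine ⟨Module.Flat.of_flat_tensorProduct (R := R) (M := S) R', fun p hp => ?_⟩
  obtain ⟨⟨p', hp'⟩, hpp⟩ := PrimeSpectrum.comap_surjective_of_faithfullyFlat (A := R) (B := R') ⟨p, hp⟩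
  exact ⟨isNoetherianRing_fiber p,
    (fiber_iff p p' (congrArg PrimeSpectrum.asIdeal hpp)).1 (h.2 p').2⟩

end hom

end Groth.Agent.H2.Rigid.GeomRegHom
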