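import Groth.Agent.H2.Rigid.GeomRegAlg
import Groth.Agent.H52.FBase.StalkBC
import Groth.Agent.Lib.GeomConn.Residue
import Groth.Agent.Lib.DvrCrit.EssFT
import Groth.Prelude.Def_Curv2
import Mathlib.RingTheory.Ideal.GoingUp
import Mathlib.RingTheory.RingHom.Smooth

/-!
# Geometric regularity at a point
-/

set_option autoImplicit false
set_option linter.style.haveILetI false
universe u

open CategoryTheory CategoryTheory.Limits AlgebraicGeometry TensorProduct
open Groth.Agent.H52.FBase Groth.Agent.H2.Rigid.GeomRegAlg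
attribute [local instance] Curv2.stalkAlgebra

namespace Groth.Agent.H2.Rigid.GeomRegPt

/-- Regularity descends along flat morphisms. -/
theorem regular_of_flat {A B : Scheme.{u}} (j : A ⟶ B) [Flat j] (a : A)
    (h : IsRegularLocalRing (A.presheaf.stalk a)) : IsRegularLocalRing (B.presheaf.stalk (j a)) := by
  let R := B.presheaf.stalk (j a)
  let S := A.presheaf.stalk a
  let _ : Algebra R S := (j.stalkMap a).hom.toAlgebra
  have : Module.Flat R S := Flat.stalkMap j a
  have : IsLocalHom (algebraMap R S) := inferInstanceAs (IsLocalHom (j.stalkMap a).hom)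
  have : Module.FaithfullyFlat R S := .of_flat_of_isLocalHom
  have : IsRegularLocalRing S := h
  have : IsNoetherianRing R := by
    have h' : IsNoetherian S (TensorProduct R S R) :=
      isNoetherian_of_linearEquiv (TensorProduct.AlgebraTensorModule.rid R S S).symm
    exact Submodule.IsNoetherian.of_isNoetherian_tensorProduct_of_faithfullyFlat (A := S) h'
  exact Groth.Agent.Lib.Regular.Descent.isRegularLocalRing_of_flat (R := R) S

variable (k : Type u) [Field k] (X : Scheme.{u}) [X.Over (Spec (CommRingCat.of k))]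

/-- The local ring with its structure of `k`-algebra. -/
abbrev O (x : X) : Type u := StalkBC.Ox (X ↘ Spec (CommRingCat.of k)) x

theorem algebra_eq (x : X) :
    (inferInstance : Algebra k (O k X x)) = Curv2.stalkAlgebra k X x := by
  refine Algebra.algebra_ext _ _ fun c => ?_
  have e : Curv2.stalkMap k X x = StalkBC.φ (X ↘ Spec (CommRingCat.of k)) x := by
    refine congrArg CommRingCat.Hom.hom (Spec.map_injective
      (a₁ := CommRingCat.ofHom (Curv2.stalkMap k X x))
      (a₂ := CommRingCat.ofHom (StalkBC.φ (X ↘ Spec (CommRingCat.of k)) x)) ?_)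
    exact (Groth.Agent.Lib.GeomConn.Residue.specMap_stalkMap k X x).trans
      (StalkBC.specMap_φ _ x).symm
  exact (congr($(e) c)).symm

theorem geometricallyRegular_O_iff (x : X) :
    CAlg.IsGeometricallyRegular k (O k X x) ↔
      CAlg.IsGeometricallyRegular k ↥(X.presheaf.stalk x) :=
  iff_of_eq (congrArg (fun i : Algebra k (X.presheaf.stalk x) =>
    @CAlg.IsGeometricallyRegular k _ (X.presheaf.stalk x) _ i) (algebra_eq k X x))

/-- Points over generisations of `x` are regular when `K ⊗ O_x` is. -/
theorem regular_of_tensor (x : X) (K : Type u) [Field K] [Algebra k K]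
    (h : IsRegularRing (K ⊗[k] O k X x)) (y : ↥(Curv2.bc k X K))
    (hy : Curv2.bcFst k X K y ⤳ x) : IsRegularLocalRing ((Curv2.bc k X K).presheaf.stalk y) := by
  obtain ⟨q, rfl⟩ := StalkBC.exists_j_eq (X ↘ Spec (CommRingCat.of k)) x K y hy
  have h' : IsRegularRing (O k X x ⊗[k] K) :=
    IsRegularRing.of_ringEquiv (R := K ⊗[k] O k X x) (Algebra.TensorProduct.comm k K _).toRingEquiv
  have : IsRegularLocalRing (Localization.AtPrime
      (PrimeSpectrum.asIdeal (R := O k X x ⊗[k] K) q)) := isRegularRing_iff.mp h' _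
  exact IsRegularLocalRing.of_ringEquiv
    (R := Localization.AtPrime (PrimeSpectrum.asIdeal (R := O k X x ⊗[k] K) q))
    (StalkBC.stalkEquiv (X ↘ Spec (CommRingCat.of k)) x K q).symm

variable [IsLocallyNoetherian X]

/-- For finite `K`, regularity at the points over `x` gives regularity of `K ⊗ O_x`. -/
theorem tensor_of_regular (x : X) (K : Type u) [Field K] [Algebra k K] [Module.Finite k K]
    (h : ∀ y : ↥(Curv2.bc k X K), Curv2.bcFst k X K y = x →
      IsRegularLocalRing ((Curv2.bc k X K).presheaf.stalk y)) :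
    IsRegularRing (K ⊗[k] O k X x) := by
  have := isNoetherianRing_tensor (A := O k X x) (k := k) K
  have hN : IsNoetherianRing (O k X x ⊗[k] K) :=
    isNoetherianRing_of_ringEquiv _ (Algebra.TensorProduct.comm k K (O k X x)).toRingEquiv
  have hR : IsRegularRing (O k X x ⊗[k] K) := by
    refine Groth.Agent.Lib.SymGr.BaseChange.isRegularRing_of_maximal fun m hm => ?_
    have hint : (algebraMap (O k X x) (O k X x ⊗[k] K)).IsIntegral :=
      Algebra.IsIntegral.isIntegral (R := O k X x) (A := O k X x ⊗[k] K)
    have hmax : (m.comap (algebraMap (O k X x) (O k X x ⊗[k] K))).IsMaximal :=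
      Ideal.isMaximal_comap_of_isIntegral_of_isMaximal' _ hint m
    let q : Spec (CommRingCat.of (O k X x ⊗[k] K)) := (⟨m, hm.isPrime⟩ : PrimeSpectrum _)
    have hy := (StalkBC.j_π_eq_iff (X ↘ Spec (CommRingCat.of k)) x K q).2
      (IsLocalRing.eq_maximalIdeal hmax)
    haveI : IsRegularLocalRing ((FBase.bc (X ↘ Spec (CommRingCat.of k)) K).presheaf.stalk
        (StalkBC.j (X ↘ Spec (CommRingCat.of k)) x K q)) := h _ hy
    exact IsRegularLocalRing.of_ringEquiv
      (R := (FBase.bc (X ↘ Spec (CommRingCat.of k)) K).presheaf.stalk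
        (StalkBC.j (X ↘ Spec (CommRingCat.of k)) x K q))
      (StalkBC.stalkEquiv (X ↘ Spec (CommRingCat.of k)) x K q)
  exact IsRegularRing.of_ringEquiv (R := O k X x ⊗[k] K) (Algebra.TensorProduct.comm k _ K).toRingEquiv

theorem geometricallyRegular_of_pi (x : X)
    (h : ∀ (k' : Type u) [Field k'] [Algebra k k'] [FiniteDimensional k k']
      [IsPurelyInseparable k k'] (x' : ↥(Curv2.bc k X k')),
      Curv2.bcFst k X k' x' = x → IsRegularLocalRing ((Curv2.bc k X k').presheaf.stalk x')) :
    CAlg.IsGeometricallyRegular k (O k X x) := by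
  refine geometricallyRegular_iff_piReg.2 fun k' _ _ hfin hins => ?_
  have := hfin
  exact tensor_of_regular k X x k' fun y hy => @h k' _ _ hfin hins y hy

theorem isGeomRegularAt_of_geometricallyRegular (x : X)
    (h : CAlg.IsGeometricallyRegular k (O k X x)) : Curv2.IsGeomRegularAt k X x := by
  intro K _ _ hK y hy
  have : Algebra.EssFiniteType k K := IntermediateField.fg_top_iff.1 hK
  have := isNoetherianRing_tensor (A := O k X x) (k := k) K
  exact regular_of_tensor k X x K (isRegularRing_tensor h K) y (specializes_of_eq hy)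

theorem isGeomRegularAt_iff (x : X) :
    Curv2.IsGeomRegularAt k X x ↔ CAlg.IsGeometricallyRegular k (O k X x) := by
  refine ⟨fun h => geometricallyRegular_of_pi k X x fun k' _ _ _ _ x' hx' => ?_,
    isGeomRegularAt_of_geometricallyRegular k X x⟩
  exact h k' (IntermediateField.fg_top_iff.2 inferInstance) x' hx'

omit [IsLocallyNoetherian X] in
theorem essFiniteType_O [LocallyOfFiniteType (X ↘ Spec (CommRingCat.of k))] (x : X) :
    Algebra.EssFiniteType k (O k X x) := by
  obtain ⟨⟨U, hU⟩, ψ, hψ, hess⟩ :=
    Groth.Agent.Lib.DvrCrit.exists_essFiniteType_stalk (X ↘ Spec (CommRingCat.of k)) x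
  have hUtop : U = ⊤ := by
    have hx : (X ↘ Spec (CommRingCat.of k)) x ∈ U := by
      have h1 := congrArg (fun m : Spec (X.presheaf.stalk x) ⟶ Spec (CommRingCat.of k) =>
        m (IsLocalRing.closedPoint (X.presheaf.stalk x))) hψ
      have h2 : hU.fromSpec (Spec.map ψ (IsLocalRing.closedPoint (X.presheaf.stalk x))) =
          (X ↘ Spec (CommRingCat.of k)) x :=
        h1.trans (congrArg (X ↘ Spec (CommRingCat.of k)) X.fromSpecStalk_closedPoint)
      rw [← h2]
      exact hU.range_fromSpec.subset ⟨_, rfl⟩
    have : Subsingleton (Spec (CommRingCat.of k) : Scheme.{u}) :=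
      inferInstanceAs (Subsingleton (PrimeSpectrum k))
    exact top_le_iff.1 fun z _ => Subsingleton.elim ((X ↘ Spec (CommRingCat.of k)) x) z ▸ hx
  subst hUtop
  have key : (Scheme.ΓSpecIso (CommRingCat.of k)).inv ≫ ψ =
      CommRingCat.ofHom (StalkBC.φ (X ↘ Spec (CommRingCat.of k)) x) := by
    apply Spec.map_injective
    rw [Spec.map_comp, StalkBC.specMap_φ, ← hψ]
    congr 1
    change _ = (hU : IsAffineOpen (⊤ : (Spec (CommRingCat.of k)).Opens)).fromSpec
    rw [IsAffineOpen.fromSpec_top, Scheme.isoSpec_Spec_inv]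
  have h2 : ((Scheme.ΓSpecIso (CommRingCat.of k)).inv ≫ ψ).hom.EssFiniteType := by
    refine RingHom.EssFiniteType.comp ?_ hess
    exact RingHom.FiniteType.essFiniteType (RingHom.FiniteType.of_surjective _
      (Scheme.ΓSpecIso (CommRingCat.of k)).commRingCatIsoToRingEquiv.symm.surjective)
  rw [key] at h2
  exact h2

omit [IsLocallyNoetherian X] in
theorem mem_smoothLocus_iff [LocallyOfFinitePresentation (X ↘ Spec (CommRingCat.of k))] (x : X) :
    x ∈ (X ↘ Spec (CommRingCat.of k)).smoothLocus ↔ Algebra.FormallySmooth k (O k X x) := by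
  let f := X ↘ Spec (CommRingCat.of k)
  let S := (Spec (CommRingCat.of k)).presheaf.stalk (f x)
  let t : CommRingCat.of k ⟶ S := Spec.preimage ((Spec (CommRingCat.of k)).fromSpecStalk (f x))
  have hf : CommRingCat.ofHom (StalkBC.φ f x) = t ≫ f.stalkMap x := by
    apply Spec.map_injective
    rw [Spec.map_comp, Spec.map_preimage, StalkBC.specMap_φ]
    exact (Scheme.SpecMap_stalkMap_fromSpecStalk f).symm
  have hbij : Function.Bijective t.hom := by
    let p := PrimeSpectrum.asIdeal (R := k) (f x)
    haveI : p.IsPrime := (f x : PrimeSpectrum k).2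
    haveI : IsIso (CommRingCat.ofHom (algebraMap k (Localization.AtPrime p))) :=
      (ConcreteCategory.isIso_iff_bijective _).2 (IsField.localization_map_bijective
        (M := p.primeCompl) (Rₘ := Localization.AtPrime p) (fun h => h (Ideal.zero_mem _))
        (Field.toIsField k))
    have ht : t = CommRingCat.ofHom (algebraMap k (Localization.AtPrime p)) ≫
        (Spec.stalkIso (CommRingCat.of k) (f x)).inv := by
      apply Spec.map_injective
      rw [Spec.map_preimage, Spec.fromSpecStalk_eq]
      exact congrArg Spec.map (Spec.algebraMap_stalkIso_inv (R := CommRingCat.of k) (f x)).symm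
    rw [ht]
    exact ConcreteCategory.bijective_of_isIso _
  let e : k ≃+* S := RingEquiv.ofBijective t.hom hbij
  rw [Scheme.Hom.mem_smoothLocus, ← RingHom.formallySmooth_algebraMap]
  show _ ↔ (StalkBC.φ f x).FormallySmooth
  have hφ : StalkBC.φ f x = (f.stalkMap x).hom.comp e.toRingHom := congrArg CommRingCat.Hom.hom hf
  rw [hφ]
  constructor
  · exact fun h => RingHom.FormallySmooth.respectsIso.2 _ e h
  · intro h
    have := RingHom.FormallySmooth.respectsIso.2 _ e.symm h
    rwa [RingHom.comp_assoc, show e.toRingHom.comp e.symm.toRingHom = RingHom.id S from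
      RingHom.ext fun a => e.apply_symm_apply a, RingHom.comp_id] at this

end Groth.Agent.H2.Rigid.GeomRegPt
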