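import Groth.Agent.H2.Rigid.EtaleUnram
import Groth.Agent.H2.Rigid.Smooth
import Groth.Agent.S7785
import Groth.Agent.H4.NPowEtale

/-!
# Multiplication by an integer invertible on the base is étale
-/

universe u

open CategoryTheory Limits MonoidalCategory CartesianMonoidalCategory MonObj AlgebraicGeometry

namespace Groth.Agent.H2.Rigid

variable {S : Scheme.{u}} (X : Over S) [GrpObj X] [IsCommMonObj X] [Smooth X.hom]

theorem etale_pow (n : ℕ) (hn : IsUnit (n : Γ(S, ⊤))) : Etale (𝟙 X ^ n : X ⟶ X).left := by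
  let f : X ⟶ X := 𝟙 X ^ n
  haveI : LocallyOfFiniteType (f.left ≫ X.hom) := by rw [Over.w]; infer_instance
  haveI : LocallyOfFiniteType f.left := locallyOfFiniteType_of_comp _ X.hom
  haveI : FormallyUnramified f.left :=
    Groth.Agent.H4.TangentUnram.formallyUnramified_of_tangentInjective f
      (Groth.Agent.H4.NPowUnram.tangentInjective_pow fun L _ b => by
        have h1 := hn.map ((Scheme.ΓSpecIso (CommRingCat.of L)).hom.hom.comp b.appTop.hom)
        rw [map_natCast] at h1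
        exact h1.ne_zero)
  exact etale_of_unramified X.hom X.hom f.left (Over.w f) fun x =>
    fibreDimAt_eq_of_group X x (f.left x) (congr($(Over.w f) x)).symm

theorem etale_zpow (n : ℤ) (hn : IsUnit (n : Γ(S, ⊤))) : Etale (𝟙 X ^ n : X ⟶ X).left := by
  rcases Int.eq_nat_or_neg n with ⟨m, rfl | rfl⟩
  · rw [zpow_natCast]
    exact etale_pow X m (by exact_mod_cast hn)
  · have hm : IsUnit (m : Γ(S, ⊤)) := by
      rw [Int.cast_neg, IsUnit.neg_iff] at hn
      exact_mod_cast hn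
    have e : (𝟙 X ^ (-(m : ℤ)) : X ⟶ X) = (𝟙 X ^ m) ≫ (𝟙 X)⁻¹ := by
      rw [GrpObj.comp_inv, Category.comp_id, zpow_neg, zpow_natCast]
    haveI := etale_pow X m hm
    haveI : IsIso ((𝟙 X)⁻¹ : X ⟶ X).left := by
      have : IsIso ((𝟙 X)⁻¹ : X ⟶ X) := ⟨(𝟙 X)⁻¹, by
        rw [GrpObj.comp_inv, Category.comp_id, _root_.inv_inv], by
        rw [GrpObj.comp_inv, Category.comp_id, _root_.inv_inv]⟩
      exact (Over.forget S).map_isIso ((𝟙 X)⁻¹ : X ⟶ X)
    rw [e, Over.comp_left]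
    infer_instance

theorem isFinite_zpow [IsProper X.hom] (n : ℤ) (hn : IsUnit (n : Γ(S, ⊤))) :
    IsFinite (𝟙 X ^ n : X ⟶ X).left := by
  haveI := etale_zpow X n hn
  haveI : IsProper ((𝟙 X ^ n : X ⟶ X).left ≫ X.hom) := by rw [Over.w]; infer_instance
  haveI : IsProper (𝟙 X ^ n : X ⟶ X).left := IsProper.of_comp _ X.hom
  haveI := Groth.Agent.H4.NPowEtale.locallyQuasiFinite_of_formallyUnramified (𝟙 X ^ n : X ⟶ X).left
  exact IsFinite.of_isProper_of_locallyQuasiFinite _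

theorem surjective_zpow [IsProper X.hom] [GeometricallyConnected X.hom] (n : ℤ)
    (hn : IsUnit (n : Γ(S, ⊤))) : Surjective (𝟙 X ^ n : X ⟶ X).left := by
  haveI := etale_zpow X n hn
  haveI : UniversallyOpen X.hom := UniversallyOpen.of_flat X.hom
  haveI : IsProper ((𝟙 X ^ n : X ⟶ X).left ≫ X.hom) := by rw [Over.w]; infer_instance
  haveI : IsProper (𝟙 X ^ n : X ⟶ X).left := IsProper.of_comp _ X.hom
  haveI : UniversallyOpen (𝟙 X ^ n : X ⟶ X).left := UniversallyOpen.of_flat _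
  refine ⟨fun x => ?_⟩
  have hcl : IsClopen (Set.range (𝟙 X ^ n : X ⟶ X).left) :=
    ⟨(𝟙 X ^ n : X ⟶ X).left.isClosedMap.isClosed_range, (𝟙 X ^ n : X ⟶ X).left.isOpenMap.isOpen_range⟩
  have he : η[X] ≫ (𝟙 X ^ n : X ⟶ X) = η[X] := by
    rw [GrpObj.comp_zpow, Category.comp_id, MonObj.one_eq_one, one_zpow]
  have h1 : η[X].left (X.hom x) ∈ Set.range (𝟙 X ^ n : X ⟶ X).left :=
    ⟨η[X].left (X.hom x), congr($(congrArg CommaMorphism.left he) (X.hom x))⟩
  have h2 : X.hom (η[X].left (X.hom x)) = X.hom x := congr($(Over.w η[X]) (X.hom x))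
  exact ((X.hom.isConnected_preimage_singleton (X.hom x)).isPreconnected).subset_isClopen hcl
    ⟨_, h2, h1⟩ rfl

end Groth.Agent.H2.Rigid
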