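import Groth.Agent.H2.Rigid.Approx
import Groth.Agent.H2.Rigid.Const

/-!
# Rigidity for flat morphisms with a section between locally Noetherian schemes

No properness: functions killed by the section vanish, so the collapsing locus of a closed morphism
is open and stable under specialization.
-/

set_option autoImplicit false

universe u

open CategoryTheory Limits AlgebraicGeometry TopologicalSpace IsLocalRing Opposite

namespace Groth.Agent.H2.Rigid.NoethSection

/-- At a point of the closed fibre with Noetherian local ring a function killed by a section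
vanishes. -/
theorem germ_eq_zero_closed {A : CommRingCat.{u}} [IsLocalRing A] [IsNoetherianRing A]
    {X : Scheme.{u}} (f : X ⟶ Spec A) [Flat f] (s : Spec A ⟶ X) (hs : s ≫ f = 𝟙 _)
    (h0 : Function.Surjective (pullback.snd f (cpt A)).appTop.hom)
    (a : Γ(X, ⊤)) (hsa : s.appTop.hom a = 0) (x : X) (hx : f x = closedPoint A)
    [IsNoetherianRing (X.presheaf.stalk x)] : X.presheaf.germ ⊤ x trivial a = 0 := by
  obtain ⟨_, ⟨U, hU, rfl⟩, hxU, -⟩ := X.isBasis_affineOpens.exists_subset_of_mem_open
    (Set.mem_univ x) isOpen_univ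
  have hle : (maximalIdeal A).map ((X.presheaf.germ U x hxU).hom.comp (phi f U)) ≤
      maximalIdeal (X.presheaf.stalk x) := by
    rw [Ideal.map_le_iff_le_comap]
    intro m hm
    rw [Ideal.mem_comap, mem_maximalIdeal, mem_nonunits_iff]
    intro hu
    have h1 : x ∈ X.basicOpen (phi f U m) := (Scheme.mem_basicOpen _ _ x hxU).2 hu
    have h2 : x ∈ U ⊓ f ⁻¹ᵁ (Spec A).basicOpen ((Scheme.ΓSpecIso A).inv.hom m) :=
      (Scheme.basicOpen_appLE f U ⊤ (le_top.trans_eq (Scheme.Hom.preimage_top f).symm) _).le h1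
    have h3 : closedPoint A ∈ (Spec A).basicOpen ((Scheme.ΓSpecIso A).inv.hom m) := hx ▸ h2.2
    rw [basicOpen_eq_of_affine'] at h3
    exact h3 ((congr($((Scheme.ΓSpecIso A).inv_hom_id).hom m)).symm ▸ hm)
  rw [← TopCat.Presheaf.germ_res_apply X.presheaf (homOfLE (le_top : U ≤ ⊤)) x hxU a]
  have : ∀ n : ℕ, (X.presheaf.germ U x hxU).hom ((X.presheaf.map (homOfLE le_top).op).hom a) ∈
      maximalIdeal (X.presheaf.stalk x) ^ n := fun n => by
    have := Ideal.mem_map_of_mem (X.presheaf.germ U x hxU).hom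
      (vanish_pow f s hs h0 a hsa n ⟨U, hU⟩)
    rw [Ideal.map_map, Ideal.map_pow] at this
    exact Ideal.pow_right_mono hle n this
  have hb := Submodule.mem_iInf _ |>.2 this
  rwa [Ideal.iInf_pow_eq_bot_of_isLocalRing _ (maximalIdeal.isMaximal _).ne_top,
    Submodule.mem_bot] at hb

/-- A function killed by a section vanishes at each point whose fibre has only constant functions. -/
theorem germ_eq_zero {X T : Scheme.{u}} [IsLocallyNoetherian T] [IsLocallyNoetherian X] (g : X ⟶ T)
    [Flat g] (s : T ⟶ X) (hs : s ≫ g = 𝟙 _) (a : Γ(X, ⊤)) (ha : s.appTop.hom a = 0) (x : X)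
    (hx : Function.Surjective (g.fiberToSpecResidueField (g x)).appTop.hom) :
    X.presheaf.germ ⊤ x trivial a = 0 := by
  let A := T.presheaf.stalk (g x)
  let h : Spec A ⟶ T := T.fromSpecStalk (g x)
  let g' := pullback.snd g h
  haveI : Flat g' := inferInstanceAs (Flat (pullback.snd g h))
  let s' : Spec A ⟶ pullback g h := pullback.lift (h ≫ s) (𝟙 _) (by simp [hs])
  have hsq := (IsPullback.of_hasPullback g' (cpt A)).paste_horiz (IsPullback.of_hasPullback g h)
  have h0 : Function.Surjective (pullback.snd g' (cpt A)).appTop.hom := by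
    have e : cpt A ≫ h = T.fromSpecResidueField (g x) := rfl
    rw [e] at hsq
    have h1 : hsq.isoPullback.inv ≫ pullback.snd g' (cpt A) = g.fiberToSpecResidueField (g x) :=
      hsq.isoPullback_inv_snd
    intro y
    obtain ⟨z, hz⟩ := hx ((hsq.isoPullback.inv).appTop.hom y)
    haveI : IsIso hsq.isoPullback.inv.appTop :=
      inferInstanceAs (IsIso (Scheme.Γ.map hsq.isoPullback.inv.op))
    refine ⟨z, (ConcreteCategory.bijective_of_isIso hsq.isoPullback.inv.appTop).1 ?_⟩
    exact ((congr($(Scheme.Hom.comp_appTop hsq.isoPullback.inv (pullback.snd g' (cpt A))).hom z)).symm.trans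
      ((congr($(congrArg Scheme.Hom.appTop h1).hom z)).trans hz))
  obtain ⟨z, hz, hz'⟩ := Scheme.Pullback.exists_preimage_pullback x (closedPoint A)
    (f := g) (g := h) (Scheme.fromSpecStalk_closedPoint).symm
  haveI : IsPreimmersion (pullback.fst g h) :=
    MorphismProperty.pullback_fst g h (inferInstanceAs (IsPreimmersion (T.fromSpecStalk (g x))))
  haveI : IsNoetherianRing ((pullback g h).presheaf.stalk z) :=
    isNoetherianRing_of_surjective _ _ ((pullback.fst g h).stalkMap z).hom
      ((pullback.fst g h).stalkMap_surjective z)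
  have key : (pullback g h).presheaf.germ ⊤ z trivial ((pullback.fst g h).appTop.hom a) = 0 := by
    refine germ_eq_zero_closed g' s' (pullback.lift_snd _ _ _) h0 _ ?_ z hz'
    have e : (pullback.fst g h).appTop ≫ s'.appTop = s.appTop ≫ h.appTop := by
      rw [← Scheme.Hom.comp_appTop, ← Scheme.Hom.comp_appTop, pullback.lift_fst]
    exact (congr($(e).hom a)).trans ((congrArg h.appTop.hom ha).trans (map_zero h.appTop.hom))
  have hinj := stalkMap_injective_of_flat (pullback.fst g h) z
  have h' : X.presheaf.germ ⊤ ((pullback.fst g h) z) trivial a = 0 := by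
    apply hinj
    rw [map_zero]
    exact (Scheme.Hom.germ_stalkMap_apply (pullback.fst g h) ⊤ z trivial a).trans key
  rwa [hz] at h'

end Groth.Agent.H2.Rigid.NoethSection

namespace Groth.Agent.H2.Rigid.NoethSection

/-- An open subset of a locally Noetherian scheme which is stable under specialization is closed. -/
theorem isClosed_of_isOpen {T : Scheme.{u}} [IsLocallyNoetherian T] {U : Set T} (hU : IsOpen U)
    (hs : StableUnderSpecialization U) : IsClosed U := by
  rw [← isOpen_compl_iff,
    TopologicalSpace.IsOpenCover.isOpen_iff_inter T.affineCover.isOpenCover_opensRange]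
  intro i
  let v := T.affineCover.f i
  rw [Scheme.Hom.coe_opensRange, ← Set.image_preimage_eq_inter_range]
  refine v.isOpenEmbedding.isOpenMap _ ?_
  have : IsLocallyNoetherian (T.affineCover.X i) := isLocallyNoetherian_of_isOpenImmersion v
  have : CompactSpace (T.affineCover.X i) := inferInstance
  have : IsNoetherian (T.affineCover.X i) := {}
  rw [Set.preimage_compl, isOpen_compl_iff]
  refine PrimeSpectrum.isClosed_of_stableUnderSpecialization_of_isConstructible ?_ ?_
  · intro a b hab ha
    exact hs (hab.map v.continuous) ha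
  · refine BooleanSubalgebra.subset_closure ⟨hU.preimage v.continuous, ?_⟩
    intro V hV hVo
    exact @TopologicalSpace.NoetherianSpace.isCompact _ _ (inferInstanceAs (TopologicalSpace.NoetherianSpace (T.affineCover.X i))) _

variable {X T Y S : Scheme.{u}} [IsLocallyNoetherian T] [IsLocallyNoetherian X] (g : X ⟶ T) [Flat g]
  (σ : T ⟶ X) (hσ : σ ≫ g = 𝟙 _) (hg : H0 g) (f : X ⟶ Y) (p : T ⟶ S) (q : Y ⟶ S)
  (hf : f ≫ q = g ≫ p)

include hσ hg hf in
/-- The collapsing locus is stable under specialization. -/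
theorem stableUnderSpecialization_constSet [IsSeparated q] :
    StableUnderSpecialization (constSet g f) := by
  intro t₁ t₀ hsp ht₁
  haveI : Surjective g := ⟨fun t => ⟨σ t, congr($hσ t)⟩⟩
  let k : T ⟶ Y := σ ≫ f
  let l : X ⟶ pullback q q := pullback.lift f (g ≫ k) (by
    simp only [k, Category.assoc, hf]
    rw [reassoc_of% hσ])
  have hZ : IsClosed (l ⁻¹' Set.range (pullback.diagonal q)) :=
    ((pullback.diagonal q).isClosedEmbedding.isClosed_range).preimage l.continuous
  have hmem : ∀ x₁, g x₁ = t₁ → x₁ ∈ l ⁻¹' Set.range (pullback.diagonal q) := by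
    intro x₁ hx₁
    subst hx₁
    obtain ⟨y, hy⟩ := exists_fiber_factor' g f hg ht₁
    let c := X.fromSpecResidueField x₁
    let ρ : Spec (X.residueField x₁) ⟶ Spec (T.residueField (g x₁)) :=
      Spec.map (g.residueFieldMap x₁)
    have hρ : ρ ≫ T.fromSpecResidueField (g x₁) = c ≫ g :=
      g.SpecMap_residueFieldMap_fromSpecResidueField x₁
    let j : Spec (X.residueField x₁) ⟶ g.fiber (g x₁) := pullback.lift c ρ hρ.symm
    let j' : Spec (T.residueField (g x₁)) ⟶ g.fiber (g x₁) :=
      pullback.lift (T.fromSpecResidueField (g x₁) ≫ σ) (𝟙 _)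
        (by rw [Category.assoc, hσ, Category.comp_id, Category.id_comp])
    have e1 : c ≫ f = ρ ≫ y := by
      rw [← (show j ≫ g.fiberι (g x₁) = c from pullback.lift_fst _ _ _), Category.assoc, hy,
        ← Category.assoc]
      exact congrArg (· ≫ y) (pullback.lift_snd _ _ _)
    have e2 : T.fromSpecResidueField (g x₁) ≫ k = y := by
      rw [← Category.assoc,
        ← (show j' ≫ g.fiberι (g x₁) = T.fromSpecResidueField (g x₁) ≫ σ from pullback.lift_fst _ _ _),
        Category.assoc, hy, ← Category.assoc,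
        show j' ≫ g.fiberToSpecResidueField (g x₁) = 𝟙 _ from pullback.lift_snd _ _ _, Category.id_comp]
    have e : c ≫ l = (c ≫ f) ≫ pullback.diagonal q := by
      apply pullback.hom_ext
      · rw [Category.assoc, pullback.lift_fst, Category.assoc (c ≫ f), pullback.diagonal_fst,
          Category.comp_id]
      · rw [Category.assoc, pullback.lift_snd, Category.assoc (c ≫ f), pullback.diagonal_snd,
          Category.comp_id, ← Category.assoc, ← hρ, Category.assoc, e2, e1]
    obtain ⟨w, hw⟩ := (Scheme.range_fromSpecResidueField x₁).ge (Set.mem_singleton x₁)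
    refine ⟨(c ≫ f) w, ?_⟩
    change ((c ≫ f) ≫ pullback.diagonal q) w = l x₁
    rw [← e, Scheme.Hom.comp_apply, hw]
  suffices H : ∀ x, g x = t₀ → f x = k t₀ from
    mem_constSet.2 fun x x' hx hx' => (H x hx).trans (H x' hx').symm
  intro x hx
  obtain ⟨x₁, hx₁, hgx₁⟩ := Flat.generalizingMap g (hx.symm ▸ hsp : t₁ ⤳ g x)
  obtain ⟨w, hw⟩ := hx₁.mem_closed hZ (hmem x₁ hgx₁)
  have d1 := congr((pullback.fst q q) $hw)
  have d2 := congr((pullback.snd q q) $hw)
  rw [← Scheme.Hom.comp_apply, ← Scheme.Hom.comp_apply, pullback.diagonal_fst, pullback.lift_fst] at d1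
  rw [← Scheme.Hom.comp_apply, ← Scheme.Hom.comp_apply, pullback.diagonal_snd, pullback.lift_snd,
    Scheme.Hom.comp_apply, hx] at d2
  exact d1.symm.trans d2

include hσ hg hf in
/-- Rigidity for a closed flat morphism with a section. -/
theorem eq_comp_of_section [IsSeparated q] [ConnectedSpace T] (hc : IsClosedMap g) {t : T}
    (ht : t ∈ constSet g f) : f = g ≫ σ ≫ f := by
  haveI : Surjective g := ⟨fun t => ⟨σ t, congr($hσ t)⟩⟩
  have hopen := isOpen_constSet g f hc hg
  have huniv : constSet g f = Set.univ := IsClopen.eq_univ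
    ⟨isClosed_of_isOpen hopen (stableUnderSpecialization_constSet g σ hσ hg f p q hf), hopen⟩ ⟨t, ht⟩
  let k := σ ≫ f
  let U : Y.affineOpens → X.Opens := fun V => g ⁻¹ᵁ ⟨intoSet g f V.1, isOpen_intoSet hc V.1⟩
  have hU : IsOpenCover U := by
    refine IsOpenCover.mk (eq_top_iff.2 fun x _ => ?_)
    obtain ⟨V, hV, htV⟩ := exists_intoSet (g := g) (f := f) (huniv.ge (Set.mem_univ (g x)))
    exact Opens.mem_iSup.2 ⟨⟨V, hV⟩, htV⟩
  refine Scheme.Cover.hom_ext (X.openCoverOfIsOpenCover U hU) _ _ fun V => ?_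
  haveI : IsAffine (V.1 : Scheme.{u}) := V.2
  let O : T.Opens := ⟨intoSet g f V.1, isOpen_intoSet hc V.1⟩
  change (g ⁻¹ᵁ O).ι ≫ f = (g ⁻¹ᵁ O).ι ≫ g ≫ k
  have r1 : Set.range ((g ⁻¹ᵁ O).ι ≫ f) ⊆ Set.range V.1.ι := by
    rintro _ ⟨w, rfl⟩; rw [Scheme.Opens.range_ι]; exact mem_intoSet.1 w.2 _ rfl
  have r2 : Set.range ((g ⁻¹ᵁ O).ι ≫ g ≫ k) ⊆ Set.range V.1.ι := by
    rintro _ ⟨w, rfl⟩; rw [Scheme.Opens.range_ι]
    exact mem_intoSet.1 w.2 _ (congr($hσ (g w.1)))
  rw [← IsOpenImmersion.lift_fac V.1.ι _ r1, ← IsOpenImmersion.lift_fac V.1.ι _ r2]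
  congr 1
  apply ext_of_isAffine
  let g' := g ∣_ O
  have hsq := (isPullback_morphismRestrict g O).flip
  let σ' : (O : Scheme.{u}) ⟶ g ⁻¹ᵁ O :=
    hsq.lift (O.ι ≫ σ) (𝟙 _) (by rw [Category.assoc, hσ, Category.comp_id, Category.id_comp])
  have hσ1 : σ' ≫ (g ⁻¹ᵁ O).ι = O.ι ≫ σ := hsq.lift_fst _ _ _
  have hσ2 : σ' ≫ g' = 𝟙 _ := hsq.lift_snd _ _ _
  haveI : IsLocallyNoetherian (O : Scheme.{u}) := isLocallyNoetherian_of_isOpenImmersion O.ι
  haveI : IsLocallyNoetherian (g ⁻¹ᵁ O : Scheme.{u}) :=
    isLocallyNoetherian_of_isOpenImmersion (g ⁻¹ᵁ O).ι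
  haveI : Flat g' := MorphismProperty.of_isPullback hsq inferInstance
  have hs : σ' ≫ IsOpenImmersion.lift V.1.ι _ r1 = σ' ≫ IsOpenImmersion.lift V.1.ι _ r2 := by
    rw [← cancel_mono V.1.ι, Category.assoc, Category.assoc, IsOpenImmersion.lift_fac,
      IsOpenImmersion.lift_fac, reassoc_of% hσ1, reassoc_of% hσ1, reassoc_of% hσ]
  ext a
  rw [← sub_eq_zero]
  refine eq_zero_of_germ _ fun x => germ_eq_zero g' σ' hσ2 _ ?_ x ?_
  · rw [map_sub, sub_eq_zero]
    exact congr(($hs).appTop.hom a)
  · intro z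
    let P := g'.fiber (g' x)
    have sq : IsPullback (g'.fiberι (g' x) ≫ (g ⁻¹ᵁ O).ι) (g'.fiberToSpecResidueField (g' x)) g
        ((O : Scheme.{u}).fromSpecResidueField (g' x) ≫ O.ι) :=
      (IsPullback.of_hasPullback _ _).paste_horiz hsq
    rw [← Scheme.Hom.SpecMap_residueFieldMap_fromSpecResidueField] at sq
    have sq' := (IsPullback.of_hasPullback g (T.fromSpecResidueField (O.ι (g' x))))
    let r := Spec.map (O.ι.residueFieldMap (g' x))
    haveI : IsIso r := inferInstance
    have sq2 : IsPullback (g.fiberι (O.ι (g' x))) (g.fiberToSpecResidueField (O.ι (g' x)) ≫ inv r) g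
        (r ≫ T.fromSpecResidueField (O.ι (g' x))) :=
      sq'.of_iso (Iso.refl _) (Iso.refl _) (asIso (inv r)) (Iso.refl _) ((Category.comp_id _).trans (Category.id_comp _).symm |>.trans (by simp; rfl))
        (by simp; rfl) (by simp) (by simp)
    let e := sq.isoIsPullback _ _ sq2
    have he : e.hom ≫ g.fiberToSpecResidueField (O.ι (g' x)) ≫ inv r =
        g'.fiberToSpecResidueField (g' x) := sq.isoIsPullback_hom_snd _ _ sq2
    haveI : IsIso e.hom.appTop := inferInstanceAs (IsIso (Scheme.Γ.map e.hom.op))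
    haveI : IsIso (inv r).appTop := inferInstanceAs (IsIso (Scheme.Γ.map (inv r).op))
    rw [← he, Scheme.Hom.comp_appTop, Scheme.Hom.comp_appTop, CommRingCat.hom_comp,
      CommRingCat.hom_comp] at *
    exact ((ConcreteCategory.bijective_of_isIso e.hom.appTop).2.comp ((hg _).comp
      (ConcreteCategory.bijective_of_isIso (inv r).appTop).2)) z

end Groth.Agent.H2.Rigid.NoethSection
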