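import Groth.Agent.H2.Rigid.GeomNormal
import Groth.Agent.S2102
import Mathlib.AlgebraicGeometry.Morphisms.Flat

/-!
# Rings of functions of normal schemes

The ring of functions of a normal scheme with finitely many components is normal, so normality
descends along morphisms that do not change the functions on affines.
-/

set_option autoImplicit false
universe u

open CategoryTheory CategoryTheory.Limits AlgebraicGeometry TopologicalSpace
open Groth.Agent.Lib.NormalTensor Groth.Agent.H2.Rigid.GeomNormal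

namespace Groth.Agent.H2.Rigid.NormalGamma

theorem exists_idem {X : Scheme.{u}} {B : Set X} (hB : IsClopen B) :
    ∃ f : Γ(X, ⊤), IsIdempotentElem f ∧ (X.basicOpen f : Set X) = B := by
  let U : Bool → X.Opens := fun b =>
    if b then ⟨B, hB.isOpen⟩ else ⟨Bᶜ, hB.compl.isOpen⟩
  have hcov : (⊤ : X.Opens) ≤ iSup U := fun x _ => by
    by_cases hx : x ∈ B
    · exact TopologicalSpace.Opens.mem_iSup.2 ⟨true, hx⟩
    · exact TopologicalSpace.Opens.mem_iSup.2 ⟨false, hx⟩
  let sf : ∀ b, Γ(X, U b) := fun b => if b then 1 else 0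
  have hcomp : TopCat.Presheaf.IsCompatible X.sheaf.1 U sf := by
    intro i j
    rcases i <;> rcases j
    · rfl
    · have : U false ⊓ U true = ⊥ := by
        ext x; simp [U]
      have : Subsingleton Γ(X, U false ⊓ U true) := by rw [this]; infer_instance
      exact Subsingleton.elim (α := Γ(X, U false ⊓ U true)) _ _
    · have : U true ⊓ U false = ⊥ := by
        ext x; simp [U]
      have : Subsingleton Γ(X, U true ⊓ U false) := by rw [this]; infer_instance
      exact Subsingleton.elim (α := Γ(X, U true ⊓ U false)) _ _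
    · rfl
  obtain ⟨f, hf', -⟩ : ∃! f : Γ(X, ⊤), ∀ b, X.presheaf.map (homOfLE (le_top : U b ≤ ⊤)).op f = sf b :=
    X.sheaf.existsUnique_gluing' U ⊤ (fun b => homOfLE le_top) hcov sf hcomp
  refine ⟨f, ?_, ?_⟩
  · refine X.sheaf.eq_of_locally_eq' U ⊤ (fun b => homOfLE le_top) hcov _ _ fun b => ?_
    show X.presheaf.map (homOfLE (le_top : U b ≤ ⊤)).op (f * f) =
      X.presheaf.map (homOfLE (le_top : U b ≤ ⊤)).op f
    have hm := map_mul (X.presheaf.map (homOfLE (le_top : U b ≤ ⊤)).op).hom f f
    refine hm.trans ?_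
    rw [hf' b]
    cases b <;> simp [sf]
  · ext x
    have key : ∀ b, x ∈ U b → (x ∈ X.basicOpen f ↔ b = true) := by
      intro b hb
      have h1 := X.basicOpen_res f (homOfLE (le_top : U b ≤ ⊤)).op
      have h2 : x ∈ X.basicOpen f ↔ x ∈ X.basicOpen (sf b) := by
        rw [← hf' b, h1]
        exact ⟨fun h => ⟨hb, h⟩, fun h => h.2⟩
      rw [h2]
      cases b
      · simp [sf]
      · simpa [sf, X.basicOpen_of_isUnit isUnit_one] using hb
    by_cases hx : x ∈ B
    · exact ⟨fun _ => hx, fun _ => (key true hx).2 rfl⟩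
    · exact ⟨fun h => absurd ((key false hx).1 h) (by simp), fun h => absurd h hx⟩

/-- On a normal scheme distinct irreducible components are disjoint. -/
theorem component_eq {X : Scheme.{u}} (hX : Pi1.IsNormalScheme X) {Z Z' : Set X}
    (hZ : Z ∈ irreducibleComponents X) (hZ' : Z' ∈ irreducibleComponents X) {x : X} (hx : x ∈ Z)
    (hx' : x ∈ Z') : Z = Z' := by
  have := (hX x).1
  let q : X := X.fromSpecStalk x ⟨⊥, Ideal.isPrime_bot⟩
  have key : ∀ Z' ∈ irreducibleComponents X, x ∈ Z' → Z' = closure {q} := by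
    intro Z' hZ' hx
    have hg := hZ'.1.isGenericPoint_genericPoint (isClosed_of_mem_irreducibleComponents Z' hZ')
    obtain ⟨r, hr⟩ : hZ'.1.genericPoint ∈ Set.range (X.fromSpecStalk x) := by
      rw [Scheme.range_fromSpecStalk]; exact hg.specializes hx
    have hq : q ⤳ hZ'.1.genericPoint := by
      rw [← hr]
      exact Specializes.map ((PrimeSpectrum.le_iff_specializes _ _).1
        (show (⟨⊥, Ideal.isPrime_bot⟩ : PrimeSpectrum _) ≤ r from (bot_le : ⊥ ≤ r.asIdeal)))
        (X.fromSpecStalk x).continuous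
    have h1 : Z' ⊆ closure {q} := hg.symm.subset.trans
      (closure_minimal (Set.singleton_subset_iff.2 hq.mem_closure) isClosed_closure)
    exact subset_antisymm h1 (hZ'.2 isIrreducible_singleton.closure h1)
  exact (key Z hZ hx).trans (key Z' hZ' hx').symm

/-- The ring of functions of a quasi-compact quasi-separated normal scheme with finitely many
components is normal. -/
theorem isNormalRing_gamma {W : Scheme.{u}} [CompactSpace W] [QuasiSeparatedSpace W]
    (hW : Pi1.IsNormalScheme W) (hfin : (irreducibleComponents (W : Type u)).Finite) :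
    EGA4.IsNormalRing Γ(W, ⊤) := by
  classical
  have : IsReduced W := by
    have : ∀ w : W, _root_.IsReduced (W.presheaf.stalk w) := fun w => by
      have := (hW w).1
      infer_instance
    exact isReduced_of_isReduced_stalk W
  have hclopen : ∀ Z ∈ irreducibleComponents (W : Type u), IsClopen Z := by
    intro Z hZ
    refine ⟨isClosed_of_mem_irreducibleComponents Z hZ, ?_⟩
    have he : Z = (⋃ Z' ∈ irreducibleComponents (W : Type u) \ {Z}, Z')ᶜ := by
      ext w
      simp only [Set.mem_compl_iff, Set.mem_iUnion, not_exists]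
      constructor
      · intro hw Z' hZ' hw'
        exact hZ'.2 (component_eq hW hZ'.1 hZ hw' hw)
      · intro h
        by_contra hw
        exact h (irreducibleComponent w) ⟨irreducibleComponent_mem_irreducibleComponents w,
          fun e => hw ((Set.mem_singleton_iff.1 e) ▸ mem_irreducibleComponent)⟩ mem_irreducibleComponent
    rw [he]
    exact ((hfin.subset Set.sdiff_subset).isClosed_biUnion fun Z' h =>
      isClosed_of_mem_irreducibleComponents Z' h.1).isOpen_compl
  refine Basic.isNormalRing_of_forall_localization fun P hP => ?_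
  choose! e he using fun Z hZ => exists_idem (hclopen Z hZ)
  obtain ⟨Z, hZ, hne⟩ : ∃ Z ∈ irreducibleComponents (W : Type u), e Z ∉ P := by
    by_contra hall
    push Not at hall
    have hmem : (∏ Z ∈ hfin.toFinset, (1 - e Z)) ∉ P := fun h => by
      obtain ⟨Z, hZ, hm⟩ := hP.prod_mem_iff.1 h
      exact hP.ne_top ((Ideal.eq_top_iff_one P).2
        (by simpa using add_mem hm (hall Z (hfin.mem_toFinset.1 hZ))))
    refine hmem ?_
    suffices h0 : (∏ Z ∈ hfin.toFinset, (1 - e Z)) = 0 by rw [h0]; exact P.zero_mem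
    rw [← basicOpen_eq_bot_iff, eq_bot_iff]
    intro w hw
    have h1 : w ∈ W.basicOpen (1 - e (irreducibleComponent w)) := by
      rw [← Finset.prod_erase_mul _ _
        (hfin.mem_toFinset.2 (irreducibleComponent_mem_irreducibleComponents w)),
        Scheme.basicOpen_mul] at hw
      exact hw.2
    obtain ⟨hid, hb⟩ := he _ (irreducibleComponent_mem_irreducibleComponents w)
    have h2 : w ∈ W.basicOpen (e (irreducibleComponent w)) :=
      hb.symm.subset mem_irreducibleComponent
    have h3 : w ∈ W.basicOpen ((1 - e (irreducibleComponent w)) * e (irreducibleComponent w)) := by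
      rw [Scheme.basicOpen_mul]; exact ⟨h1, h2⟩
    rw [sub_mul, one_mul, hid.eq, sub_self, Scheme.basicOpen_zero] at h3
    exact h3
  let U : W.Opens := W.basicOpen (e Z)
  have hU : (U : Set W) = Z := (he Z hZ).2
  have : IsLocalization.Away (e Z) Γ(W, U) :=
    isLocalization_basicOpen_of_qcqs isCompact_univ (isQuasiSeparated_univ_iff.2 ‹_›) (e Z)
  refine ⟨Γ(W, U), inferInstance, inferInstance, Submonoid.powers (e Z), this, ?_, ?_⟩
  · rintro a ⟨n, rfl⟩ ha
    exact hne (hP.mem_of_pow_mem n ha)
  have : Nonempty (U : Scheme.{u}) := by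
    obtain ⟨w, hw⟩ := hZ.1.nonempty
    exact ⟨⟨w, hU.symm.subset hw⟩⟩
  have : IrreducibleSpace (U : Scheme.{u}) :=
    { isPreirreducible_univ :=
        (Subtype.preirreducibleSpace (s := (U : Set W)) (hU ▸ hZ.1.isPreirreducible)).isPreirreducible_univ
      toNonempty := inferInstance }
  have : IsIntegral (U : Scheme.{u}) := isIntegral_of_irreducibleSpace_of_isReduced _
  have hUn : Pi1.IsNormalScheme (U : Scheme.{u}) := fun w =>
    normal_of_equiv (asIso (U.ι.stalkMap w)).commRingCatIsoToRingEquiv (hW _)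
  have := Groth.Agent.S2102.result (U : Scheme.{u}) hUn
  exact Basic.isNormalRing_congr U.topIso.commRingCatIsoToRingEquiv Main.isNormalRing_of_domain

/-- Normality descends along morphisms that do not change functions on affines. -/
theorem isNormalScheme_of_app {X Y : Scheme.{u}} (f : X ⟶ Y) [QuasiCompact f]
    [IsLocallyNoetherian X] (hX : Pi1.IsNormalScheme X)
    (h : ∀ y : Y, ∃ V : Y.Opens, IsAffineOpen V ∧ y ∈ V ∧ IsIso (f.app V)) :
    Pi1.IsNormalScheme Y := by
  intro y
  obtain ⟨V, hV, hy, hiso⟩ := h y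
  let W : X.Opens := f ⁻¹ᵁ V
  have hc : CompactSpace (W : Scheme.{u}) :=
    isCompact_iff_compactSpace.1 (f.isCompact_preimage hV.isCompact)
  have : IsNoetherian (W : Scheme.{u}) := {}
  have hfin : (irreducibleComponents ((W : Scheme.{u}) : Type u)).Finite :=
    TopologicalSpace.NoetherianSpace.finite_irreducibleComponents
  have hA : EGA4.IsNormalRing Γ(Y, V) :=
    Basic.isNormalRing_congr ((asIso (f.app V)).symm.commRingCatIsoToRingEquiv)
      (Basic.isNormalRing_congr W.topIso.commRingCatIsoToRingEquiv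
        (isNormalRing_gamma (W := (W : Scheme.{u})) (fun w => normal_of_equiv
          (asIso (W.ι.stalkMap w)).commRingCatIsoToRingEquiv (hX _)) hfin))
  let _ : Algebra Γ(Y, V) (Y.presheaf.stalk y) := (Y.presheaf.germ V y hy).hom.toAlgebra
  have := hV.isLocalization_stalk ⟨y, hy⟩
  exact normal_of_equiv (IsLocalization.algEquiv (hV.primeIdealOf ⟨y, hy⟩).asIdeal.primeCompl
    (Localization.AtPrime (hV.primeIdealOf ⟨y, hy⟩).asIdeal) (Y.presheaf.stalk y)).toRingEquiv
    (hA _)

/-- Isomorphisms on functions over affines are stable under flat affine base change. -/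
theorem isIso_app_baseChange {X Y X' T : Scheme.{u}} {g : X' ⟶ X} {j : X' ⟶ T} {f : X ⟶ Y}
    {q : T ⟶ Y} (H : IsPullback g j f q) [Flat q] [QuasiCompact f] [QuasiSeparated f]
    {V : Y.Opens} (hV : IsAffineOpen V) (hqV : IsAffineOpen (q ⁻¹ᵁ V)) [IsIso (f.app V)] :
    IsIso (j.app (q ⁻¹ᵁ V)) := by
  have hc : IsCompact (f ⁻¹ᵁ V : Set X) := f.isCompact_preimage hV.isCompact
  have hqs : IsQuasiSeparated (f ⁻¹ᵁ V : Set X) := by
    have : QuasiSeparatedSpace (V : Scheme.{u}) :=
      haveI : IsAffine (V : Scheme.{u}) := hV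
      inferInstance
    have : QuasiSeparatedSpace (f ⁻¹ᵁ V : Scheme.{u}) :=
      quasiSeparatedSpace_of_quasiSeparated (f ∣_ V)
    exact (isQuasiSeparated_iff_quasiSeparatedSpace _ (f ⁻¹ᵁ V).2).2 this
  have hUY : j ⁻¹ᵁ q ⁻¹ᵁ V = g ⁻¹ᵁ f ⁻¹ᵁ V ⊓ j ⁻¹ᵁ q ⁻¹ᵁ V := by
    rw [← Scheme.Hom.comp_preimage, ← Scheme.Hom.comp_preimage, H.w, inf_idem]
  have hi := isIso_pushoutSection_of_isQuasiSeparated_of_flat_right H (US := V) (UT := q ⁻¹ᵁ V)
    (UX := f ⁻¹ᵁ V) le_rfl le_rfl hUY hV hqV hc hqs
  have P := (isIso_pushoutSection_iff ..).1 hi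
  have : IsIso (f.appLE V (f ⁻¹ᵁ V) le_rfl) := by
    rw [← Scheme.Hom.app_eq_appLE]; infer_instance
  have := P.isIso_inr_of_isIso
  rw [Scheme.Hom.app_eq_appLE]
  exact this

end Groth.Agent.H2.Rigid.NormalGamma
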