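import Groth.Agent.H52.FBase.GeomRed
import Mathlib.FieldTheory.PurelyInseparable.PerfectClosure
import Mathlib.FieldTheory.IsPerfectClosure

/-! Reducedness after finite purely inseparable extensions gives geometric reducedness. -/

universe u

open TensorProduct

namespace Groth.Agent.H2.Rigid.PIReduced

/-- If `S ⊗ k'` is reduced for all finite purely inseparable `k'/k`, then `S` is geometrically
reduced. -/
theorem isGeometricallyReduced {k S : Type u} [Field k] [CommRing S] [Algebra k S]
    (h : ∀ (k' : Type u) [Field k'] [Algebra k k'] [Module.Finite k k'] [IsPurelyInseparable k k'],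
      _root_.IsReduced (k' ⊗[k] S)) : Algebra.IsGeometricallyReduced k S := by
  let Ω := perfectClosure k (AlgebraicClosure k)
  have : _root_.IsReduced (S ⊗[k] Ω) := by
    refine IsReduced.tensorProduct_of_flat_of_forall_fg fun C hC => ?_
    have : Algebra.FiniteType k C := C.fg_iff_finiteType.mp hC
    have : Algebra.IsIntegral k C :=
      Algebra.IsIntegral.of_injective C.val Subtype.val_injective
    have : Module.Finite k C := Algebra.IsIntegral.finite
    letI : Field C := (Algebra.IsIntegral.isField_iff_isField
        (FaithfulSMul.algebraMap_injective k C)).mp (Field.toIsField k) |>.toField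
    have : IsPurelyInseparable k C := by
      refine (isPurelyInseparable_iff_pow_mem k (ringExpChar k)).2 fun x => ?_
      obtain ⟨n, y, hy⟩ := (isPurelyInseparable_iff_pow_mem k (ringExpChar k)).1
        (inferInstanceAs (IsPurelyInseparable k Ω)) (x : Ω)
      exact ⟨n, y, Subtype.ext hy⟩
    have := h C
    exact isReduced_of_injective (Algebra.TensorProduct.comm k S C) (AlgEquiv.injective _)
  have : _root_.IsReduced (Ω ⊗[k] S) :=
    isReduced_of_injective (Algebra.TensorProduct.comm k Ω S) (AlgEquiv.injective _)
  rw [Algebra.isGeometricallyReduced_field_iff]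
  have : Algebra.IsGeometricallyReduced Ω (Ω ⊗[k] S) :=
    Groth.Agent.H52.FBase.GeomRed.isGeometricallyReduced_of_perfectField (k := Ω) (A := Ω ⊗[k] S)
  have hr := Groth.Agent.H52.FBase.GeomRed.isReduced_tensor_field (k := Ω) (A := Ω ⊗[k] S)
    (AlgebraicClosure k)
  exact @isReduced_of_injective _ _ _ _ _ _ _
    ((Algebra.TensorProduct.cancelBaseChange k Ω (AlgebraicClosure k) (AlgebraicClosure k) S).symm.toRingEquiv.trans
      (Algebra.TensorProduct.comm Ω (AlgebraicClosure k) (Ω ⊗[k] S)).toRingEquiv)
    (RingEquiv.injective _) hr

end Groth.Agent.H2.Rigid.PIReduced
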