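import Groth.Agent.H2.Rigid.Approx
import Groth.Agent.H2.FlatDescend.Model

/-!
# `g_* O = O` for proper flat morphisms of finite presentation over an arbitrary base
-/

universe u

open CategoryTheory Limits AlgebraicGeometry TopologicalSpace IsLocalRing Opposite
open Groth.Agent.Lib.Lim Groth.Agent.Lib.Lim.Basic

namespace Groth.Agent.H2.Rigid.PushFlat

/-- A stage carrying a flat proper model with a section and a given function. -/
theorem exists_model {I : Type u} [SmallCategory I] [IsCofiltered I] [∀ i j : I, Subsingleton (i ⟶ j)]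
    (D : I ⥤ Scheme.{u}) (c : Cone D) (hc : IsLimit c) [∀ i, IsAffine (D.obj i)]
    {X : Scheme.{u}} (f : X ⟶ c.pt) [IsProper f] [Flat f] [LocallyOfFinitePresentation f] [CompactSpace X] [QuasiSeparatedSpace X]
    (σ : c.pt ⟶ X) (hσ : σ ≫ f = 𝟙 _) (a : Γ(X, ⊤)) :
    ∃ (l : I) (Xl : Scheme.{u}) (gl : Xl ⟶ D.obj l) (q : X ⟶ Xl) (τ : D.obj l ⟶ Xl)
      (al : Γ(Xl, ⊤)),
      IsPullback q f gl (c.π.app l) ∧ IsProper gl ∧ Flat gl ∧ τ ≫ gl = 𝟙 _ ∧
        σ ≫ q = c.π.app l ≫ τ ∧ q.appTop.hom al = a := by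
  haveI : ∀ {i j : I} (g : i ⟶ j), IsAffineHom (D.map g) := fun g => isAffineHom_of_isAffine _
  have hD : ∀ (i j : I) (g : i ⟶ j), IsAffineHom (D.map g) := fun _ _ g => inferInstance
  obtain ⟨i, Xi, fi, qi, hXc, hXq, hfi, hi⟩ := FPDescend.exists_descent hc f
  obtain ⟨k₁, φ₁, h₁⟩ := Groth.Agent.H2.FlatDescend.flatFp_descends D c hc hD i inferInstance inferInstance fi
    hXc hXq hfi f qi hi ⟨inferInstance, inferInstance⟩
  obtain ⟨k₂, φ₂, h₂⟩ := Valuative.isProper_descends D c hc hD i inferInstance inferInstance fi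
    hXc hXq inferInstance f qi hi inferInstance
  have := fun j => compactSpace_bcDiagram D fi j
  have := fun j => quasiSeparatedSpace_bcDiagram D fi j
  obtain ⟨j, aj, haj⟩ := exists_appTop_π_eq_of_isLimit (bcDiagram D fi) (bcCone hi.w)
    (isLimitBcCone hc hi) a
  obtain ⟨k', α₁, α₂, -⟩ := IsCofilteredOrEmpty.cone_objs k₁ k₂
  obtain ⟨k, β, γ, -⟩ := IsCofilteredOrEmpty.cone_objs k' j.left
  let φ : k ⟶ i := γ ≫ j.hom
  let Xk := pullback fi (D.map φ)
  let gk : Xk ⟶ D.obj k := pullback.snd fi (D.map φ)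
  let qk : X ⟶ Xk := pullback.lift qi (f ≫ c.π.app k) (by rw [Category.assoc, c.w, hi.w])
  have hk : IsPullback qk f gk (c.π.app k) := FPDescend.move hi φ
  haveI : Flat gk :=
    (Descend.prop_of_factor (P := Groth.Agent.H2.FlatDescend.flatFp) h₁ (D.map (β ≫ α₁)) (by
      rw [← D.map_comp, Subsingleton.elim ((β ≫ α₁) ≫ φ₁) φ]) (IsPullback.of_hasPullback _ _)).1
  haveI : IsProper gk :=
    Descend.prop_of_factor (P := @IsProper) h₂ (D.map (β ≫ α₂)) (by
      rw [← D.map_comp, Subsingleton.elim ((β ≫ α₂) ≫ φ₂) φ]) (IsPullback.of_hasPullback _ _)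
  let ak : Γ(Xk, ⊤) := ((bcDiagram D fi).map (Over.homMk γ : Over.mk φ ⟶ j)).appTop.hom aj
  have hak : qk.appTop.hom ak = a := by
    have e : qk ≫ (bcDiagram D fi).map (Over.homMk γ : Over.mk φ ⟶ j) = (bcCone hi.w).π.app j :=
      (bcCone hi.w).w (Over.homMk γ : Over.mk φ ⟶ j)
    exact (congr($(congrArg Scheme.Hom.appTop e).hom aj)).trans haj.symm
  obtain ⟨l, ψ, g', hg', hg'σ⟩ := exists_bc_hom (D := D) (c := c) (i₀ := k) (T := D.obj k)
    (a := 𝟙 _) (P := c.pt) (p := 𝟙 _) (q := c.π.app k) hc
    (IsPullback.of_vert_isIso ⟨by simp⟩) gk (𝟙 _) (σ ≫ qk)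
    (by rw [Category.assoc, hk.w, reassoc_of% hσ, Category.comp_id])
  let Xl := pullback gk (D.map ψ)
  let ql : X ⟶ Xl := pullback.lift qk (f ≫ c.π.app l) (by rw [Category.assoc, c.w, hk.w])
  have hl : IsPullback ql f (pullback.snd gk (D.map ψ)) (c.π.app l) := FPDescend.move hk ψ
  let w : D.obj l ⟶ pullback (𝟙 (D.obj k)) (D.map ψ) := pullback.lift (D.map ψ) (𝟙 _) (by simp)
  have hw : (w ≫ g') ≫ gk = 𝟙 _ ≫ D.map ψ := by
    rw [Category.assoc, hg', Category.comp_id]
    exact pullback.lift_fst _ _ _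
  refine ⟨l, Xl, pullback.snd gk (D.map ψ), ql, pullback.lift (w ≫ g') (𝟙 _) hw,
    (pullback.fst gk (D.map ψ)).appTop.hom ak, hl, inferInstance, inferInstance,
    pullback.lift_snd _ _ _, ?_, ?_⟩
  · apply pullback.hom_ext
    · simp only [ql, Category.assoc, pullback.lift_fst]
      refine hg'σ.symm.trans ((congrArg (fun m => m ≫ g') ?_).trans (Category.assoc _ _ _))
      apply pullback.hom_ext
      · simp only [w, Category.assoc, pullback.lift_fst, c.w]
      · simp only [w, Category.assoc, pullback.lift_snd, Category.comp_id, Category.id_comp]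
    · simp only [ql, Category.assoc, pullback.lift_snd, Category.comp_id]
      rw [reassoc_of% hσ]
  · rw [← CommRingCat.comp_apply, ← Scheme.Hom.comp_appTop, pullback.lift_fst, hak]

/-- Over a limit of affine Noetherian stages: a function killed by a section is zero. -/
theorem eq_zero_of_section_limit {I : Type u} [SmallCategory I] [IsCofiltered I]
    [∀ i j : I, Subsingleton (i ⟶ j)] (D : I ⥤ Scheme.{u}) (c : Cone D) (hc : IsLimit c)
    [∀ i, IsAffine (D.obj i)] [∀ i, IsLocallyNoetherian (D.obj i)] [IsAffine c.pt] {X : Scheme.{u}}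
    (f : X ⟶ c.pt) [IsProper f] [Flat f] [LocallyOfFinitePresentation f] (hf : H0 f) (σ : c.pt ⟶ X) (hσ : σ ≫ f = 𝟙 _)
    (a : Γ(X, ⊤)) (ha : σ.appTop.hom a = 0) : a = 0 := by
  haveI : CompactSpace X := (quasiCompact_iff_compactSpace f).mp inferInstance
  haveI : QuasiSeparatedSpace X := quasiSeparatedSpace_of_quasiSeparated f
  obtain ⟨l, Xl, gl, q, τ, al, hsq, hp, hsm, hτ, hστ, hal⟩ := exists_model D c hc f σ hσ a
  haveI := hp
  haveI := hsm
  let bl := al - gl.appTop.hom (τ.appTop.hom al)
  have hτb : τ.appTop.hom bl = 0 := by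
    rw [map_sub, ← CommRingCat.comp_apply gl.appTop, ← Scheme.Hom.comp_appTop, hτ]
    simp
  have hqb : q.appTop.hom bl = a := by
    rw [map_sub, hal, ← CommRingCat.comp_apply gl.appTop, ← Scheme.Hom.comp_appTop, hsq.w,
      ← CommRingCat.comp_apply τ.appTop, ← Scheme.Hom.comp_appTop, Category.assoc, ← hστ,
      Scheme.Hom.comp_appTop, Scheme.Hom.comp_appTop, CommRingCat.comp_apply,
      CommRingCat.comp_apply, hal, ha, map_zero, sub_zero]
  refine eq_zero_of_germ a fun x => ?_
  have h0 : X.presheaf.germ ⊤ x trivial (q.appTop.hom bl) = 0 := by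
    have hfib : Function.Surjective (gl.fiberToSpecResidueField (gl (q x))).appTop.hom := by
      have e : gl (q x) = c.π.app l (f x) := congr($(hsq.w) x)
      rw [e]
      let π : c.pt ⟶ D.obj l := c.π.app l
      let r := π.residueFieldMap (f x)
      letI : Algebra ((D.obj l).residueField (π (f x)))
          (c.pt.residueField (f x)) := r.hom.toAlgebra
      haveI : QuasiCompact (gl.fiberToSpecResidueField (π (f x))) :=
        inferInstanceAs (QuasiCompact (pullback.snd gl _))
      haveI : QuasiSeparated (gl.fiberToSpecResidueField (π (f x))) :=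
        inferInstanceAs (QuasiSeparated (pullback.snd gl _))
      have sq := (IsPullback.of_hasPullback f (c.pt.fromSpecResidueField (f x))).paste_horiz hsq
      have hr : Spec.map r ≫ (D.obj l).fromSpecResidueField (π (f x)) =
          c.pt.fromSpecResidueField (f x) ≫ π :=
        π.SpecMap_residueFieldMap_fromSpecResidueField (f x)
      rw [← hr] at sq
      have sq' := IsPullback.of_right (h₁₁ := (IsPullback.of_hasPullback gl
          ((D.obj l).fromSpecResidueField (π (f x)))).lift
          (pullback.fst f _ ≫ q) (pullback.snd f _ ≫ Spec.map r)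
          (by rw [Category.assoc (pullback.snd f _), ← sq.w]))
        (by rw [IsPullback.lift_fst]; exact sq)
        (IsPullback.lift_snd _ _ _ _) (IsPullback.of_hasPullback gl _)
      exact @surjective_of_baseChange _ (c.pt.residueField (f x)) _ _ r.hom.toAlgebra _
        (gl.fiberToSpecResidueField (π (f x))) _ _ _ _ _ sq' (hf (f x))
    have hz := Rigid.germ_eq_zero_of_section gl τ hτ bl hτb (q x) hfib
    exact (Scheme.Hom.germ_stalkMap_apply q ⊤ x trivial bl).symm.trans
      ((congrArg (q.stalkMap x).hom hz).trans (map_zero (q.stalkMap x).hom))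
  rwa [hqb] at h0

/-- Over an affine base: a function killed by a section is zero. -/
theorem eq_zero_of_section_affine {B : CommRingCat.{u}} {X : Scheme.{u}} (f : X ⟶ Spec B)
    [IsProper f] [Flat f] [LocallyOfFinitePresentation f] (hf : H0 f) (σ : Spec B ⟶ X) (hσ : σ ≫ f = 𝟙 _) (a : Γ(X, ⊤))
    (ha : σ.appTop.hom a = 0) : a = 0 := by
  haveI : IsAffine (SubDiagram.cone B).pt := inferInstanceAs (IsAffine (Spec B))
  exact @eq_zero_of_section_limit _ _ _ _ (SubDiagram.diagram B) (SubDiagram.cone B)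
    (SubDiagram.isLimitCone B) _ _ _ X f ‹IsProper f› ‹Flat f› ‹LocallyOfFinitePresentation f› hf σ hσ a ha

/-- A function killed by a section of a proper flat morphism is zero. -/
theorem eq_zero_of_section_fp {X T : Scheme.{u}} (g : X ⟶ T) [IsProper g] [Flat g] [LocallyOfFinitePresentation g]
    (hg : H0 g) (σ : T ⟶ X) (hσ : σ ≫ g = 𝟙 _) (a : Γ(X, ⊤)) (ha : σ.appTop.hom a = 0) : a = 0 := by
  refine eq_zero_of_germ a fun x => ?_
  let A := T.presheaf.stalk (g x)
  let h : Spec A ⟶ T := T.fromSpecStalk (g x)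
  haveI : IsProper (pullback.snd g h) := inferInstance
  haveI : Flat (pullback.snd g h) := inferInstance
  haveI : LocallyOfFinitePresentation (pullback.snd g h) := inferInstance
  have key : (pullback.fst g h).appTop.hom a = 0 := by
    apply eq_zero_of_section_affine (pullback.snd g h) (hg.pullback_snd g h)
      (pullback.lift (h ≫ σ) (𝟙 _) (by simp [hσ])) (pullback.lift_snd _ _ _)
    rw [← CommRingCat.comp_apply, ← Scheme.Hom.comp_appTop, pullback.lift_fst,
      Scheme.Hom.comp_appTop, CommRingCat.comp_apply, ha, map_zero]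
  obtain ⟨z, hz, -⟩ := Scheme.Pullback.exists_preimage_pullback x (closedPoint A)
    (f := g) (g := h) (Scheme.fromSpecStalk_closedPoint).symm
  have := germ_eq_zero_of_flat (pullback.fst g h) a key z
  rwa [hz] at this

/-- Proper flat of finite presentation with a section and constant functions on the fibres: `g_* O = O`. -/
theorem push_of_section {X T : Scheme.{u}} (g : X ⟶ T) [IsProper g] [Flat g] [LocallyOfFinitePresentation g] (hg : H0 g)
    (σ : T ⟶ X) (hσ : σ ≫ g = 𝟙 _) : Push g := by
  intro U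
  let g' := g ∣_ U
  have hU := isPullback_morphismRestrict g U
  haveI : IsProper g' := MorphismProperty.of_isPullback hU.flip inferInstance
  haveI : Flat g' := MorphismProperty.of_isPullback hU.flip inferInstance
  haveI : LocallyOfFinitePresentation g' := MorphismProperty.of_isPullback hU.flip inferInstance
  let σ' : (U : Scheme.{u}) ⟶ g ⁻¹ᵁ U :=
    hU.flip.lift (U.ι ≫ σ) (𝟙 _) (by rw [Category.assoc, hσ, Category.comp_id, Category.id_comp])
  have hσ' : σ' ≫ g' = 𝟙 _ := hU.flip.lift_snd _ _ _
  have hret : g'.appTop ≫ σ'.appTop = 𝟙 _ := by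
    rw [← Scheme.Hom.comp_appTop, hσ']; simp
  have h : Function.Bijective g'.appTop.hom := by
    refine ⟨Function.LeftInverse.injective (g := σ'.appTop.hom) fun y => congr($(hret).hom y),
      fun y => ⟨σ'.appTop.hom y, ?_⟩⟩
    refine (sub_eq_zero.1 (eq_zero_of_section_fp g' (hg.of_isPullback hU.flip) σ' hσ' _ ?_)).symm
    rw [map_sub, sub_eq_zero]
    exact (congr($(hret).hom (σ'.appTop.hom y))).symm
  rw [morphismRestrict_appTop] at h
  have key : ∀ {V : T.Opens}, V = U → Function.Bijective (g.app V).hom →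
      Function.Bijective (g.app U).hom := by rintro V rfl h; exact h
  exact key (U.ι_image_top) ((Function.Bijective.of_comp_iff' (ConcreteCategory.bijective_of_isIso
    (X.presheaf.map (eqToHom (image_morphismRestrict_preimage g U ⊤)).op)) _).1 h)

end Groth.Agent.H2.Rigid.PushFlat

namespace Groth.Agent.H2.Rigid.PushFlat

/-- Proper flat of finite presentation with only constant functions on the fibres: global functions
come from the base. -/
theorem appTop_bijective {X T : Scheme.{u}} (g : X ⟶ T) [IsProper g] [Flat g]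
    [LocallyOfFinitePresentation g] [Surjective g] (hg : H0 g) : Function.Bijective g.appTop.hom := by
  refine ⟨?_, fun a => ?_⟩
  · rw [injective_iff_map_eq_zero]
    intro a ha
    refine eq_zero_of_germ a fun t => ?_
    obtain ⟨x, rfl⟩ := g.surjective t
    exact germ_eq_zero_of_flat g a ha x
  let p₁ := pullback.fst g g
  let p₂ := pullback.snd g g
  have hp : Push p₂ :=
    push_of_section p₂ (hg.pullback_snd g g) (pullback.lift (𝟙 _) (𝟙 _) rfl) (pullback.lift_snd _ _ _)
  obtain ⟨b, hb⟩ := (hp ⊤).2 (p₁.appTop.hom a)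
  have hb' : p₂.appTop.hom b = p₁.appTop.hom a := hb
  have hba : b = a := by
    have e₁ : p₂.appTop ≫ (pullback.lift (𝟙 X) (𝟙 X) rfl : X ⟶ pullback g g).appTop = 𝟙 _ := by
      rw [← Scheme.Hom.comp_appTop, pullback.lift_snd]; simp
    have e₂ : p₁.appTop ≫ (pullback.lift (𝟙 X) (𝟙 X) rfl : X ⟶ pullback g g).appTop = 𝟙 _ := by
      rw [← Scheme.Hom.comp_appTop, pullback.lift_fst]; simp
    exact (congr($(e₁).hom b)).symm.trans ((congrArg _ hb').trans congr($(e₂).hom a))
  subst hba
  have key : ∀ {Z : Scheme.{u}} (g₁ g₂ : Z ⟶ X), g₁ ≫ g = g₂ ≫ g → g₁ ≫ fnHom b = g₂ ≫ fnHom b := by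
    intro Z g₁ g₂ h
    have e : p₁ ≫ fnHom b = p₂ ≫ fnHom b := by rw [comp_fnHom, comp_fnHom, hb']
    rw [← pullback.lift_fst (f := g) (g := g) g₁ g₂ h, Category.assoc]
    conv_rhs => rw [← pullback.lift_snd (f := g) (g := g) g₁ g₂ h, Category.assoc]
    exact congrArg _ e
  let k := EffectiveEpi.desc g (fnHom b) key
  refine ⟨k.appTop.hom ((Scheme.ΓSpecIso ZT.{u}).inv.hom (MvPolynomial.X PUnit.unit)), ?_⟩
  rw [← CommRingCat.comp_apply, ← Scheme.Hom.comp_appTop, EffectiveEpi.fac g (fnHom b) key, fnHom_appTop]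

/-- Proper flat of finite presentation with only constant functions on the fibres: `g_* O = O`, over
any base. -/
theorem push_of_flat_fp {X T : Scheme.{u}} (g : X ⟶ T) [IsProper g] [Flat g]
    [LocallyOfFinitePresentation g] [Surjective g] (hg : H0 g) : Push g := by
  intro U
  let g' := g ∣_ U
  have hU := isPullback_morphismRestrict g U
  haveI : IsProper g' := MorphismProperty.of_isPullback hU.flip inferInstance
  haveI : Flat g' := MorphismProperty.of_isPullback hU.flip inferInstance
  haveI : LocallyOfFinitePresentation g' := MorphismProperty.of_isPullback hU.flip inferInstance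
  haveI : Surjective g' := MorphismProperty.of_isPullback hU.flip inferInstance
  have h : Function.Bijective g'.appTop.hom := appTop_bijective g' (hg.of_isPullback hU.flip)
  rw [morphismRestrict_appTop] at h
  have key : ∀ {V : T.Opens}, V = U → Function.Bijective (g.app V).hom →
      Function.Bijective (g.app U).hom := by rintro V rfl h; exact h
  exact key (U.ι_image_top) ((Function.Bijective.of_comp_iff' (ConcreteCategory.bijective_of_isIso
    (X.presheaf.map (eqToHom (image_morphismRestrict_preimage g U ⊤)).op)) _).1 h)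

end Groth.Agent.H2.Rigid.PushFlat
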