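import Groth.Agent.H2.Rigid.GeomRegAlg
import Groth.Agent.H68.SmallExt
import Mathlib.Algebra.Colimit.DirectLimit
import Mathlib.LinearAlgebra.Finsupp.LinearCombination
import Mathlib.RingTheory.Flat.EquationalCriterion
import Mathlib.RingTheory.SimpleModule.Basic
import Mathlib.RingTheory.Smooth.Flat

/-!
# Filtered colimits of smooth algebras with Noetherian fibres are regular

A square-zero extension whose kernel is one-dimensional leads to a linear system over the residue
field, and such a system is solvable as soon as every finite part of it is.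
-/

set_option autoImplicit false
set_option linter.style.haveILetI false

universe u

open IsLocalRing

namespace Groth.Agent.H2.Rigid.SmoothColim

/-- A linear system over a field is solvable if each finite subsystem is. -/
theorem exists_solution {κ X E : Type*} [Field κ] (L : E → X →₀ κ) (c : E → κ)
    (h : ∀ s : Finset E, ∃ v : X → κ, ∀ e ∈ s, Finsupp.linearCombination κ v (L e) = c e) :
    ∃ v : X → κ, ∀ e, Finsupp.linearCombination κ v (L e) = c e := by
  classical
  let Φ : (E →₀ κ) →ₗ[κ] X →₀ κ := Finsupp.linearCombination κ L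
  let C : (E →₀ κ) →ₗ[κ] κ := Finsupp.linearCombination κ c
  have hker : LinearMap.ker Φ ≤ LinearMap.ker C := by
    intro z hz
    obtain ⟨v, hv⟩ := h z.support
    rw [LinearMap.mem_ker] at hz ⊢
    have h1 := congrArg (Finsupp.linearCombination κ v) hz
    rw [map_zero] at h1
    simp only [Φ, Finsupp.linearCombination_apply, Finsupp.sum, map_sum, map_smul] at h1
    rw [← h1]
    simp only [C, Finsupp.linearCombination_apply, Finsupp.sum]
    refine Finset.sum_congr rfl fun e he => ?_
    rw [← hv e he, Finsupp.linearCombination_apply, Finsupp.sum]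
  let g : LinearMap.range Φ →ₗ[κ] κ :=
    ((LinearMap.ker Φ).liftQ C hker).comp Φ.quotKerEquivRange.symm.toLinearMap
  obtain ⟨g', hg'⟩ := LinearMap.exists_extend g
  refine ⟨fun x => g' (Finsupp.single x 1), fun e => ?_⟩
  have h2 : Finsupp.linearCombination κ (fun x => g' (Finsupp.single x 1)) = g' := by
    ext x
    simp
  have h3 : Φ (Finsupp.single e 1) = L e := by simp [Φ]
  rw [h2, ← h3]
  have h4 : g' (Φ (Finsupp.single e 1)) = g ⟨Φ (Finsupp.single e 1), LinearMap.mem_range_self _ _⟩ :=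
    LinearMap.congr_fun hg' (⟨Φ (Finsupp.single e 1), LinearMap.mem_range_self _ _⟩ : LinearMap.range Φ)
  rw [h4]
  simp only [g, LinearMap.comp_apply, LinearEquiv.coe_coe]
  rw [LinearMap.quotKerEquivRange_symm_apply_image, Submodule.mkQ_apply, Submodule.liftQ_apply]
  simp [C]

/-- A lift exists along an extension with one-dimensional kernel if partial lifts exist. -/
theorem exists_lift {R L A : Type u} [CommRing R] [CommRing L] [Algebra R L] [CommRing A]
    [IsLocalRing A] [Algebra R A] (J : Ideal A) (hJ : J ^ 2 = ⊥) (hlen : Module.length A J = 1)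
    (ψ : L →ₐ[R] A ⧸ J)
    (h : ∀ (T : Finset L) (rs : Finset R), ∃ χ : L → A, (∀ s, Ideal.Quotient.mk J (χ s) = ψ s) ∧
      (∀ a ∈ T, ∀ b ∈ T, χ (a + b) = χ a + χ b ∧ χ (a * b) = χ a * χ b) ∧
      (∀ r ∈ rs, χ (algebraMap R L r) = algebraMap R A r)) :
    ∃ χ : L →ₐ[R] A, (Ideal.Quotient.mkₐ R J).comp χ = ψ := by
  classical
  haveI : IsSimpleModule A J := Module.length_eq_one_iff.mp hlen
  haveI : Nontrivial J := IsSimpleModule.nontrivial A J
  obtain ⟨j₀, hj₀⟩ := exists_ne (0 : J)
  have htop : Submodule.span A {j₀} = ⊤ := IsSimpleModule.span_singleton_eq_top A hj₀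
  have hspan : ∀ y ∈ J, ∃ a : A, a * (j₀ : A) = y := fun y hy => by
    obtain ⟨a, ha⟩ := Submodule.mem_span_singleton.1
      (htop ▸ Submodule.mem_top : (⟨y, hy⟩ : J) ∈ Submodule.span A {j₀})
    exact ⟨a, congrArg Subtype.val ha⟩
  have hne : (j₀ : A) ≠ 0 := fun h0 => hj₀ (Subtype.ext h0)
  have hm : ∀ a ∈ maximalIdeal A, a * (j₀ : A) = 0 := fun a ha => by
    by_contra h0
    have h1 : (⟨a * j₀, J.mul_mem_left a j₀.2⟩ : J) ≠ 0 := fun h => h0 (congrArg Subtype.val h)
    obtain ⟨b, hb⟩ := Submodule.mem_span_singleton.1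
      ((IsSimpleModule.span_singleton_eq_top A h1).symm ▸ Submodule.mem_top :
        j₀ ∈ Submodule.span A {(⟨a * j₀, J.mul_mem_left a j₀.2⟩ : J)})
    have hb' : b * (a * (j₀ : A)) = j₀ := congrArg Subtype.val hb
    have h2 : (1 - b * a) * (j₀ : A) = 0 := by linear_combination -hb'
    exact hne ((isUnit_one_sub_self_of_mem_nonunits _
      ((maximalIdeal A).mul_mem_left b ha)).mul_right_eq_zero.1 h2)
  let e : (A ⧸ maximalIdeal A) →ₗ[A] A :=
    (maximalIdeal A).liftQ (LinearMap.toSpanSingleton A A (j₀ : A)) fun a ha => by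
      simpa using hm a ha
  have hemk : ∀ a : A, e (Ideal.Quotient.mk _ a) = a * j₀ := fun a => rfl
  letI : Field (A ⧸ maximalIdeal A) := Ideal.Quotient.field _
  have hinj : Function.Injective e := by
    rw [injective_iff_map_eq_zero]
    intro x hx
    obtain ⟨a, rfl⟩ := Ideal.Quotient.mk_surjective x
    rw [hemk] at hx
    refine Ideal.Quotient.eq_zero_iff_mem.2 ?_
    by_contra ha
    exact hne ((not_not.1 ha : IsUnit a).mul_right_eq_zero.1 hx)
  have hmem : ∀ x, e x ∈ J := fun x => by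
    obtain ⟨a, rfl⟩ := Ideal.Quotient.mk_surjective x
    rw [hemk]; exact J.mul_mem_left a j₀.2
  have hsurj : ∀ y ∈ J, ∃ x, e x = y := fun y hy => by
    obtain ⟨a, ha⟩ := hspan y hy
    exact ⟨Ideal.Quotient.mk _ a, by rw [hemk, ha]⟩
  let π := Ideal.Quotient.mk (maximalIdeal A)
  have hsmul : ∀ (a : A) x, e (π a * x) = a * e x := fun a x => by
    obtain ⟨b, rfl⟩ := Ideal.Quotient.mk_surjective x
    rw [← map_mul, hemk, hemk, mul_assoc]
  have hmul0 : ∀ x y, e x * e y = 0 := fun x y => by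
    have := Ideal.mul_mem_mul (hmem x) (hmem y)
    rwa [← pow_two, hJ, Ideal.mem_bot] at this
  let σ : L → A := Function.surjInv Ideal.Quotient.mk_surjective ∘ ψ
  have hσ : ∀ s, Ideal.Quotient.mk J (σ s) = ψ s := fun s =>
    Function.surjInv_eq Ideal.Quotient.mk_surjective _
  have hA : ∀ a b, σ a + σ b - σ (a + b) ∈ J := fun a b => by
    rw [← Ideal.Quotient.eq, map_add, hσ, hσ, hσ, map_add]
  have hM : ∀ a b, σ a * σ b - σ (a * b) ∈ J := fun a b => by
    rw [← Ideal.Quotient.eq, map_mul, hσ, hσ, hσ, map_mul]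
  have hR : ∀ r, algebraMap R A r - σ (algebraMap R L r) ∈ J := fun r => by
    rw [← Ideal.Quotient.eq, hσ, AlgHom.commutes]
    rfl
  choose cA hcA using fun a b => hsurj _ (hA a b)
  choose cM hcM using fun a b => hsurj _ (hM a b)
  choose cR hcR using fun r => hsurj _ (hR r)
  let Le : (L × L) ⊕ (L × L) ⊕ R → L →₀ (A ⧸ maximalIdeal A) := fun z => match z with
    | .inl (a, b) => Finsupp.single (a + b) 1 - Finsupp.single a 1 - Finsupp.single b 1
    | .inr (.inl (a, b)) =>
        Finsupp.single (a * b) 1 - Finsupp.single b (π (σ a)) - Finsupp.single a (π (σ b))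
    | .inr (.inr r) => Finsupp.single (algebraMap R L r) 1
  let ce : (L × L) ⊕ (L × L) ⊕ R → A ⧸ maximalIdeal A := fun z => match z with
    | .inl (a, b) => cA a b
    | .inr (.inl (a, b)) => cM a b
    | .inr (.inr r) => cR r
  have hfin : ∀ s : Finset ((L × L) ⊕ (L × L) ⊕ R), ∃ v : L → A ⧸ maximalIdeal A, ∀ z ∈ s,
      Finsupp.linearCombination (A ⧸ maximalIdeal A) v (Le z) = ce z := by
    intro s
    let T : Finset L := s.biUnion fun z => match z with
      | .inl (a, b) => {a, b}
      | .inr (.inl (a, b)) => {a, b}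
      | .inr (.inr _) => ∅
    let rs : Finset R := s.biUnion fun z => match z with
      | .inr (.inr r) => {r}
      | _ => ∅
    obtain ⟨χ, hχ, hhom, hr⟩ := h T rs
    choose v hv using fun s => hsurj (χ s - σ s) (by rw [← Ideal.Quotient.eq, hχ, hσ])
    refine ⟨v, ?_⟩
    rintro (⟨a, b⟩ | ⟨a, b⟩ | r) hz
    · obtain ⟨hadd, -⟩ := hhom a (Finset.mem_biUnion.2 ⟨_, hz, by simp⟩) b
        (Finset.mem_biUnion.2 ⟨_, hz, by simp⟩)
      simp only [Le, ce, map_sub, Finsupp.linearCombination_single, one_smul]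
      apply hinj
      rw [map_sub, map_sub, hv, hv, hv, hcA, hadd]
      ring
    · obtain ⟨-, hmul⟩ := hhom a (Finset.mem_biUnion.2 ⟨_, hz, by simp⟩) b
        (Finset.mem_biUnion.2 ⟨_, hz, by simp⟩)
      simp only [Le, ce, map_sub, Finsupp.linearCombination_single, one_smul, smul_eq_mul, one_mul]
      apply hinj
      rw [map_sub, map_sub, hsmul, hsmul, hv, hv, hv, hcM, hmul]
      have h0 := hmul0 (v a) (v b)
      rw [hv, hv] at h0
      linear_combination h0
    · simp only [Le, ce, Finsupp.linearCombination_single, one_smul]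
      apply hinj
      rw [hv, hcR, hr r (Finset.mem_biUnion.2 ⟨_, hz, by simp⟩)]
  obtain ⟨v, hv⟩ := exists_solution Le ce hfin
  let χ : L → A := fun s => σ s + e (v s)
  have hadd : ∀ a b, χ (a + b) = χ a + χ b := fun a b => by
    have h1 := congrArg e (hv (.inl (a, b)))
    simp only [Le, ce, map_sub, Finsupp.linearCombination_single, one_smul] at h1
    rw [hcA] at h1
    simp only [χ]
    linear_combination h1
  have hmul : ∀ a b, χ (a * b) = χ a * χ b := fun a b => by
    have h1 := congrArg e (hv (.inr (.inl (a, b))))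
    simp only [Le, ce, map_sub, Finsupp.linearCombination_single, one_smul, smul_eq_mul, one_mul] at h1
    rw [hcM, hsmul, hsmul] at h1
    simp only [χ]
    linear_combination h1 - hmul0 (v a) (v b)
  have halg : ∀ r, χ (algebraMap R L r) = algebraMap R A r := fun r => by
    have h1 := congrArg e (hv (.inr (.inr r)))
    simp only [Le, ce, Finsupp.linearCombination_single, one_smul] at h1
    rw [hcR] at h1
    simp only [χ]
    linear_combination h1
  refine ⟨{ toFun := χ
            map_one' := by simpa using halg 1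
            map_mul' := hmul
            map_zero' := by simpa using halg 0
            map_add' := hadd
            commutes' := halg }, AlgHom.ext fun s => ?_⟩
  show Ideal.Quotient.mk J (σ s + e (v s)) = ψ s
  rw [map_add, hσ, Ideal.Quotient.eq_zero_iff_mem.2 (hmem _), add_zero]

section

variable {R : Type u} [CommRing R] {ι : Type u} [Preorder ι] [IsDirectedOrder ι] [Nonempty ι]
  {G : ι → Type u} [∀ i, CommRing (G i)] [∀ i, Algebra R (G i)]
  (f : ∀ i j : ι, i ≤ j → (G i →ₐ[R] G j)) [DirectedSystem G (fun i j h => f i j h)]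

/-- Finitely many elements and relations of the colimit come from one stage. -/
theorem exists_stage (T : Finset (DirectLimit G f)) (rs : Finset R) :
    ∃ (i : ι) (s : DirectLimit G f → G i), (∀ x, ∀ y : G i, s x = y → x ∈ T →
        DirectLimit.Algebra.of G f i y = x) ∧
      (∀ a ∈ T, ∀ b ∈ T, a + b ∈ T → s (a + b) = s a + s b) ∧
      (∀ a ∈ T, ∀ b ∈ T, a * b ∈ T → s (a * b) = s a * s b) ∧
      (∀ r ∈ rs, algebraMap R _ r ∈ T → s (algebraMap R _ r) = algebraMap R (G i) r) := by
  classical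
  let o := DirectLimit.Algebra.of G f
  have hsur : ∀ x, ∃ i g, o i g = x := fun x => by
    induction x using DirectLimit.induction with
    | _ i g => exact ⟨i, g, rfl⟩
  choose ix gx hx using hsur
  obtain ⟨i₀, hi₀⟩ := Finset.exists_le (T.image ix)
  let s₀ : DirectLimit G f → G i₀ := fun x =>
    if hxT : x ∈ T then f (ix x) i₀ (hi₀ _ (Finset.mem_image_of_mem _ hxT)) (gx x) else 0
  have hs₀ : ∀ x ∈ T, o i₀ (s₀ x) = x := fun x hxT => by
    simp only [s₀, dif_pos hxT, o]
    rw [DirectLimit.Algebra.of_f]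
    exact hx x
  have key : ∀ y z : G i₀, o i₀ y = o i₀ z →
      ∀ᶠ j in Filter.atTop, ∀ h : i₀ ≤ j, f i₀ j h y = f i₀ j h z := fun y z hyz => by
    obtain ⟨k, hk, hk', hk''⟩ := Quotient.exact hyz
    rw [Filter.eventually_atTop]
    refine ⟨k, fun j hkj hj => ?_⟩
    have h1 := congrArg (f k j hkj) hk''
    simp only [DirectedSystem.map_map (f := fun i j h => f i j h)] at h1
    exact h1
  have h1 : ∀ᶠ j in Filter.atTop, ∀ p ∈ T ×ˢ T, ∀ h : i₀ ≤ j, p.1 + p.2 ∈ T →
      f i₀ j h (s₀ (p.1 + p.2)) = f i₀ j h (s₀ p.1 + s₀ p.2) := by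
    refine Filter.eventually_all_finset _ |>.2 fun p hp => ?_
    rw [Finset.mem_product] at hp
    by_cases hT : p.1 + p.2 ∈ T
    · refine (key (s₀ (p.1 + p.2)) (s₀ p.1 + s₀ p.2) ?_).mono fun j hj h _ => hj h
      rw [hs₀ _ hT, map_add, hs₀ _ hp.1, hs₀ _ hp.2]
    · exact Filter.Eventually.of_forall fun j h hT' => absurd hT' hT
  have h2 : ∀ᶠ j in Filter.atTop, ∀ p ∈ T ×ˢ T, ∀ h : i₀ ≤ j, p.1 * p.2 ∈ T →
      f i₀ j h (s₀ (p.1 * p.2)) = f i₀ j h (s₀ p.1 * s₀ p.2) := by
    refine Filter.eventually_all_finset _ |>.2 fun p hp => ?_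
    rw [Finset.mem_product] at hp
    by_cases hT : p.1 * p.2 ∈ T
    · refine (key (s₀ (p.1 * p.2)) (s₀ p.1 * s₀ p.2) ?_).mono fun j hj h _ => hj h
      rw [hs₀ _ hT, map_mul, hs₀ _ hp.1, hs₀ _ hp.2]
    · exact Filter.Eventually.of_forall fun j h hT' => absurd hT' hT
  have h3 : ∀ᶠ j in Filter.atTop, ∀ r ∈ rs, ∀ h : i₀ ≤ j, algebraMap R (DirectLimit G f) r ∈ T →
      f i₀ j h (s₀ (algebraMap R _ r)) = f i₀ j h (algebraMap R (G i₀) r) := by
    refine Filter.eventually_all_finset _ |>.2 fun r _ => ?_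
    by_cases hT : algebraMap R (DirectLimit G f) r ∈ T
    · refine (key (s₀ (algebraMap R _ r)) (algebraMap R (G i₀) r) ?_).mono fun j hj h _ => hj h
      rw [hs₀ _ hT, AlgHom.commutes]
    · exact Filter.Eventually.of_forall fun j h hT' => absurd hT' hT
  obtain ⟨j, ⟨⟨hj1, hj2⟩, hj3⟩, hj⟩ :=
    (((h1.and h2).and h3).and (Filter.eventually_ge_atTop i₀)).exists
  refine ⟨j, fun x => f i₀ j hj (s₀ x), ?_, fun a ha b hb hab => ?_, fun a ha b hb hab => ?_,
    fun r hr hrT => ?_⟩
  · rintro x y rfl hxT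
    rw [DirectLimit.Algebra.of_f]
    exact hs₀ x hxT
  · rw [← map_add]; exact hj1 (a, b) (Finset.mk_mem_product ha hb) hj hab
  · rw [← map_mul]; exact hj2 (a, b) (Finset.mk_mem_product ha hb) hj hab
  · exact (hj3 r hr hj hrT).trans ((f i₀ j hj).commutes r)

variable (hs : ∀ i, Algebra.Smooth R (G i))
include hs

theorem exists_colim_lift {A : Type u} [CommRing A] [IsLocalRing A] [Algebra R A] (J : Ideal A)
    (hJ : J ^ 2 = ⊥) (hlen : Module.length A J = 1) (ψ : DirectLimit G f →ₐ[R] A ⧸ J) :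
    ∃ χ : DirectLimit G f →ₐ[R] A, (Ideal.Quotient.mkₐ R J).comp χ = ψ := by
  classical
  refine exists_lift J hJ hlen ψ fun T rs => ?_
  let T' : Finset (DirectLimit G f) := T ∪ ((T ×ˢ T).image fun p => p.1 + p.2) ∪
    ((T ×ˢ T).image fun p => p.1 * p.2) ∪ rs.image (algebraMap R _)
  obtain ⟨i, s, hs₁, hs₂, hs₃, hs₄⟩ := exists_stage f T' rs
  haveI := hs i
  let ψi := ψ.comp (DirectLimit.Algebra.of G f i)
  let χi : G i →ₐ[R] A := Algebra.FormallySmooth.lift J ⟨2, hJ⟩ ψi
  have hT : ∀ a ∈ T, a ∈ T' := fun a ha => by simp [T', ha]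
  have hTa : ∀ a ∈ T, ∀ b ∈ T, a + b ∈ T' := fun a ha b hb =>
    Finset.mem_union_left _ (Finset.mem_union_left _ (Finset.mem_union_right _
      (Finset.mem_image.2 ⟨(a, b), Finset.mk_mem_product ha hb, rfl⟩)))
  have hTm : ∀ a ∈ T, ∀ b ∈ T, a * b ∈ T' := fun a ha b hb =>
    Finset.mem_union_left _ (Finset.mem_union_right _
      (Finset.mem_image.2 ⟨(a, b), Finset.mk_mem_product ha hb, rfl⟩))
  have hTr : ∀ r ∈ rs, algebraMap R (DirectLimit G f) r ∈ T' := fun r hr =>
    Finset.mem_union_right _ (Finset.mem_image_of_mem _ hr)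
  refine ⟨fun x => if x ∈ T' then χi (s x)
      else Function.surjInv Ideal.Quotient.mk_surjective (ψ x), fun x => ?_,
    fun a ha b hb => ⟨?_, ?_⟩, fun r hr => ?_⟩
  · by_cases hx : x ∈ T'
    · simp only [if_pos hx]
      simp only [χi]
      erw [Algebra.FormallySmooth.mk_lift]
      simp only [ψi, AlgHom.comp_apply]
      rw [hs₁ x _ rfl hx]
    · simp only [if_neg hx]
      exact Function.surjInv_eq Ideal.Quotient.mk_surjective _
  · simp only [if_pos (hT a ha), if_pos (hT b hb), if_pos (hTa a ha b hb)]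
    rw [hs₂ a (hT a ha) b (hT b hb) (hTa a ha b hb), map_add]
  · simp only [if_pos (hT a ha), if_pos (hT b hb), if_pos (hTm a ha b hb)]
    rw [hs₃ a (hT a ha) b (hT b hb) (hTm a ha b hb), map_mul]
  · simp only [if_pos (hTr r hr)]
    rw [hs₄ r hr (hTr r hr), AlgHom.commutes]

theorem flat_directLimit : Module.Flat R (DirectLimit G f) := by
  classical
  refine Module.Flat.iff_forall_isTrivialRelation.2 fun {l a x} h => ?_
  let o := DirectLimit.Algebra.of G f
  have hsur : ∀ y, ∃ i g, o i g = y := fun y => by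
    induction y using DirectLimit.induction with
    | _ i g => exact ⟨i, g, rfl⟩
  choose ix gx hx using hsur
  obtain ⟨i₀, hi₀⟩ := Finset.exists_le (Finset.univ.image fun k => ix (x k))
  let g : Fin l → G i₀ := fun k =>
    f (ix (x k)) i₀ (hi₀ _ (Finset.mem_image_of_mem _ (Finset.mem_univ k))) (gx (x k))
  have hg : ∀ k, o i₀ (g k) = x k := fun k => by
    simp only [g, o]
    rw [DirectLimit.Algebra.of_f]
    exact hx (x k)
  have h0 : o i₀ (∑ k, a k • g k) = o i₀ 0 := by
    simp only [map_sum, map_smul, hg, map_zero, h]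
  obtain ⟨j, hij, hij', hj⟩ := Quotient.exact h0
  haveI := hs j
  have h1 : ∑ k, a k • f i₀ j hij (g k) = 0 := by
    simpa [map_sum, map_smul] using hj
  obtain ⟨m, b, y, hy, hb⟩ := Module.Flat.iff_forall_isTrivialRelation.1 (inferInstance) h1
  refine ⟨m, b, fun n => o j (y n), fun k => ?_, hb⟩
  have hk := congrArg (o j) (hy k)
  simp only [map_sum, map_smul] at hk
  rw [← hk]
  simp only [o]
  rw [DirectLimit.Algebra.of_f]
  exact (hg k).symm

theorem isRegularHom
    (hN : ∀ (p : Ideal R) [p.IsPrime], IsNoetherianRing (p.Fiber (DirectLimit G f))) :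
    CAlg.IsRegularHom R (DirectLimit G f) := by
  refine ⟨flat_directLimit f hs, fun p _ => ⟨hN p, ?_⟩⟩
  haveI := hN p
  refine GeomRegAlg.LocAdic.geometricallyRegular fun P _ => ?_
  haveI : IsNoetherianRing (Localization.AtPrime P) :=
    IsLocalization.isNoetherianRing P.primeCompl _ inferInstance
  refine H68.SmallExt.isAdicFormallySmooth ?_
  intro A _ _ _ _ J hJ hlen _ ψ _
  letI : Algebra R A := ((algebraMap p.ResidueField A).comp (algebraMap R p.ResidueField)).toAlgebra
  haveI : IsScalarTower R p.ResidueField A := .of_algebraMap_eq' rfl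
  let ι₀ : p.Fiber (DirectLimit G f) →ₐ[p.ResidueField] Localization.AtPrime P :=
    IsScalarTower.toAlgHom _ _ _
  obtain ⟨χ₀, hχ₀⟩ := exists_colim_lift f hs J hJ hlen
    (((ψ.comp ι₀).restrictScalars R).comp Algebra.TensorProduct.includeRight)
  let χ₁ : p.Fiber (DirectLimit G f) →ₐ[p.ResidueField] A :=
    Algebra.TensorProduct.lift (Algebra.ofId p.ResidueField A) χ₀ fun _ _ => Commute.all _ _
  have hχ₁ : (Ideal.Quotient.mkₐ p.ResidueField J).comp χ₁ = ψ.comp ι₀ := by
    refine Algebra.TensorProduct.ext (Subsingleton.elim _ _) (AlgHom.ext fun x => ?_)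
    simpa [χ₁] using AlgHom.congr_fun hχ₀ x
  have hnil : IsNilpotent J := ⟨2, hJ⟩
  have hunit : ∀ y : P.primeCompl, IsUnit (χ₁ y) := fun y => by
    have h2 : IsUnit (Ideal.Quotient.mk J (χ₁ y)) := by
      have h3 := AlgHom.congr_fun hχ₁ (y : p.Fiber (DirectLimit G f))
      simp only [AlgHom.comp_apply, Ideal.Quotient.mkₐ_eq_mk] at h3
      rw [h3]
      exact (IsLocalization.map_units (Localization.AtPrime P) y).map ψ
    exact (hnil.isUnit_quotient_mk_iff (x := χ₁ y)).1 h2
  refine ⟨IsLocalization.liftAlgHom (S := Localization.AtPrime P) hunit,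
    IsLocalization.algHom_ext P.primeCompl (AlgHom.ext fun x => ?_)⟩
  show Ideal.Quotient.mk J (IsLocalization.lift (S := Localization.AtPrime P) hunit
    (algebraMap _ _ x)) = ψ (ι₀ x)
  rw [IsLocalization.lift_eq]
  exact AlgHom.congr_fun hχ₁ x

end

end Groth.Agent.H2.Rigid.SmoothColim
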