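import Groth.Agent.H2.Rigid.Const
import Groth.Agent.H75.RedSub
import Mathlib.AlgebraicGeometry.IdealSheaf.Subscheme
import Mathlib.CategoryTheory.Monoidal.Cartesian.Over
import Mathlib.CategoryTheory.Monoidal.Cartesian.Grp
import Mathlib.Topology.Homeomorph.Lemmas

/-!
# Translations carry connected components of fibres through the unit to connected components
-/

universe u

open CategoryTheory Limits MonoidalCategory CartesianMonoidalCategory MonObj AlgebraicGeometry
open TopologicalSpace

namespace Groth.Agent.H2.Rigid.Translate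

variable {k : Type u} [Field k] {X : Over (Spec (CommRingCat.of k))} [GrpObj X]
  [IsProper X.hom] [ConnectedSpace X.left] {Y : Scheme.{u}} (q : Y ⟶ Spec (CommRingCat.of k))
  [IsSeparated q] (f : X.left ⟶ Y) (hf : f ≫ q = X.hom)

/-- The point of `X` given by a rational point. -/
noncomputable def pt (x : 𝟙_ (Over (Spec (CommRingCat.of k))) ⟶ X) : X.left :=
  x.left (IsLocalRing.closedPoint k)

/-- Left translation. -/
noncomputable def trans (x : 𝟙_ (Over (Spec (CommRingCat.of k))) ⟶ X) : X ⟶ X :=
  lift (toUnit X ≫ x) (𝟙 X) ≫ μ[X]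

theorem comp_trans {T : Over (Spec (CommRingCat.of k))} (a : T ⟶ X)
    (x : 𝟙_ (Over (Spec (CommRingCat.of k))) ⟶ X) : a ≫ trans x = (toUnit T ≫ x) * a := by
  rw [trans, comp_lift_assoc, ← Category.assoc, toUnit_unique (a ≫ toUnit X) (toUnit T),
    Category.comp_id, Hom.mul_def]

theorem trans_apply (x y : 𝟙_ (Over (Spec (CommRingCat.of k))) ⟶ X) :
    (trans x).left (pt y) = pt (x * y) := by
  have : y ≫ trans x = x * y := by
    rw [comp_trans, toUnit_unique (toUnit (𝟙_ (Over (Spec (CommRingCat.of k))))) (𝟙 _),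
      Category.id_comp]
  rw [pt, pt, ← this]
  rfl

theorem trans_trans (x y : 𝟙_ (Over (Spec (CommRingCat.of k))) ⟶ X) :
    trans y ≫ trans x = trans (x * y) := by
  have e : ∀ z, trans (X := X) z = (toUnit X ≫ z) * 𝟙 X := fun z => by
    rw [← comp_trans, Category.id_comp]
  rw [comp_trans, e, e, MonObj.comp_mul]
  exact (_root_.mul_assoc _ _ _).symm

theorem trans_one : trans (1 : 𝟙_ (Over (Spec (CommRingCat.of k))) ⟶ X) = 𝟙 X := by
  rw [← Category.id_comp (trans _), comp_trans, MonObj.comp_one, _root_.one_mul]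

/-- Translation as a homeomorphism. -/
noncomputable def transHomeo (x : 𝟙_ (Over (Spec (CommRingCat.of k))) ⟶ X) : X.left ≃ₜ X.left where
  toFun := (trans x).left
  invFun := (trans x⁻¹).left
  left_inv z := by
    change ((trans x).left ≫ (trans x⁻¹).left) z = z
    rw [← Over.comp_left, trans_trans, inv_mul_cancel, trans_one]
    rfl
  right_inv z := by
    change ((trans x⁻¹).left ≫ (trans x).left) z = z
    rw [← Over.comp_left, trans_trans, mul_inv_cancel, trans_one]
    rfl
  continuous_toFun := (trans x).left.continuous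
  continuous_invFun := (trans x⁻¹).left.continuous

include hf in
/-- Translating a connected closed subset through the unit along which `f` is constant. -/
theorem apply_trans_eq (C : Set X.left) (hCc : IsClosed C) (hCp : _root_.IsPreconnected C)
    (he : pt η[X] ∈ C) (hC : ∀ z ∈ C, f z = f (pt η[X]))
    (x : 𝟙_ (Over (Spec (CommRingCat.of k))) ⟶ X) :
    ∀ z ∈ C, f ((trans x).left z) = f (pt x) := by
  let I := Scheme.IdealSheafData.vanishingIdeal ⟨C, hCc⟩
  let i : I.subscheme ⟶ X.left := I.subschemeι
  have hri : Set.range i = C := by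
    show Set.range I.subschemeι = C
    rw [Scheme.IdealSheafData.range_subschemeι, Scheme.IdealSheafData.coe_support_vanishingIdeal]
    rfl
  let p : I.subscheme ⟶ Spec (CommRingCat.of k) := i ≫ X.hom
  let e₀ : Spec (CommRingCat.of k) ⟶ X.left := η[X].left
  have hηl : e₀ ≫ X.hom = 𝟙 _ := Over.w η[X]
  have he₀ : ∀ w, e₀ w = pt η[X] := fun w => congrArg e₀ (Subsingleton.elim (α := Spec (CommRingCat.of k)) _ _)
  haveI : Surjective (pullback.snd i e₀) := by
    refine ⟨fun w => ?_⟩
    have : w ∈ Set.range (pullback.snd i e₀) := by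
      rw [Scheme.Pullback.range_snd, Set.mem_preimage, hri, he₀]; exact he
    exact this
  haveI : IsIso (pullback.snd i e₀) := isIso_of_isClosedImmersion_of_surjective _
  let s : Spec (CommRingCat.of k) ⟶ I.subscheme := inv (pullback.snd i e₀) ≫ pullback.fst i e₀
  have hs : s ≫ i = e₀ := by rw [Category.assoc, pullback.condition, IsIso.inv_hom_id_assoc]
  have hsp : s ≫ p = 𝟙 _ := by rw [reassoc_of% hs]; exact hηl
  haveI : IsProper p := inferInstanceAs (IsProper (i ≫ X.hom))
  haveI : ConnectedSpace I.subscheme := by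
    haveI : Nonempty I.subscheme := ⟨s (IsLocalRing.closedPoint k)⟩
    haveI : PreconnectedSpace I.subscheme := by
      constructor
      rw [← i.isClosedEmbedding.isInducing.isPreconnected_image, Set.image_univ, hri]
      exact hCp
    constructor; assumption
  have hred : IsReduced I.subscheme := inferInstance
  have hpc := appTop_surjective_of_section p s hsp
  -- the family of translates
  let Zo : Over (Spec (CommRingCat.of k)) := Over.mk p
  let io : Zo ⟶ X := Over.homMk i rfl
  let F : X ⊗ Zo ⟶ X := (X ◁ io) ≫ μ[X]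
  let g : (X ⊗ Zo).left ⟶ X.left := pullback.fst X.hom p
  haveI : IsProper g := inferInstanceAs (IsProper (pullback.fst X.hom p))
  haveI : UniversallyOpen g := inferInstanceAs (UniversallyOpen (pullback.fst X.hom p))
  haveI : Surjective p := ⟨fun w => ⟨s w, by rw [← Scheme.Hom.comp_apply, hsp]; rfl⟩⟩
  haveI : Surjective g := inferInstanceAs (Surjective (pullback.fst X.hom p))
  have hg : H0 g := fun t => by
    obtain ⟨φ, hφ⟩ := Spec.map_surjective (X.left.fromSpecResidueField t ≫ X.hom)
    letI : Algebra k (X.left.residueField t) := φ.hom.toAlgebra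
    refine surjective_baseChange (k := k) (L := X.left.residueField t) p
      (p₁ := pullback.fst _ _ ≫ pullback.snd X.hom p) ?_ hpc
    have h := (IsPullback.of_hasPullback g (X.left.fromSpecResidueField t)).paste_horiz
      (IsPullback.of_hasPullback X.hom p).flip
    rw [← hφ] at h
    exact h
  have hrange : ∀ (y : 𝟙_ (Over (Spec (CommRingCat.of k))) ⟶ X) (P : (X ⊗ Zo).left), g P = pt y →
      ∃ z ∈ C, F.left P = (trans y).left z := by
    intro y P hP
    let l : Zo ⟶ X ⊗ Zo := lift (toUnit Zo ≫ y) (𝟙 Zo)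
    have hmem : P ∈ Set.range (y ▷ Zo).left := by
      rw [Over.whiskerRight_left, Scheme.Pullback.range_map]
      exact ⟨⟨IsLocalRing.closedPoint k, hP.symm⟩, ⟨_, rfl⟩⟩
    obtain ⟨w, rfl⟩ := hmem
    let z' : Zo.left := (snd (𝟙_ _) Zo).left w
    refine ⟨i z', hri ▸ ⟨z', rfl⟩, ?_⟩
    have e1 : y ▷ Zo = snd (𝟙_ _) Zo ≫ l := by
      ext : 1
      · simp only [whiskerRight_fst, l, Category.assoc, lift_fst]
        rw [← Category.assoc, toUnit_unique (snd (𝟙_ _) Zo ≫ toUnit Zo) (fst (𝟙_ _) Zo)]
      · simp [l]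
    have e2 : l ≫ F = io ≫ trans y := by
      simp only [l, F, comp_trans]
      rw [lift_whiskerLeft_assoc, Category.id_comp, Hom.mul_def]
    have e3 : (l ≫ F).left z' = (io ≫ trans y).left z' := by rw [e2]
    rw [e1]
    exact e3
  have hw : (F.left ≫ f) ≫ q = g ≫ X.hom := by
    rw [Category.assoc, hf, Over.w F]
    rfl
  have hmem : pt η[X] ∈ constSet g (F.left ≫ f) := by
    refine mem_constSet.2 ?_
    suffices H : ∀ P, g P = pt η[X] → f (F.left P) = f (pt η[X]) from
      fun P P' hP hP' => (H P hP).trans (H P' hP').symm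
    intro P hP
    obtain ⟨z, hz, e⟩ := hrange η[X] P hP
    rw [e, MonObj.one_eq_one, trans_one]
    exact hC z hz
  have huniv := constSet_eq_univ g (F.left ≫ f) g.isClosedMap hg X.hom q hw hmem
  intro z hz
  obtain ⟨z', rfl⟩ := hri.symm ▸ hz
  obtain ⟨w', hw'⟩ : pt η[X] ∈ Set.range i := hri.symm ▸ he
  let l : Zo ⟶ X ⊗ Zo := lift (toUnit Zo ≫ x) (𝟙 Zo)
  have e2 : l ≫ F = io ≫ trans x := by
    simp only [l, F, comp_trans]
    rw [lift_whiskerLeft_assoc, Category.id_comp, Hom.mul_def]
  have hl : ∀ w : I.subscheme, g (l.left w) = pt x ∧ (F.left ≫ f) (l.left w) = f ((trans x).left (i w)) := by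
    intro w
    constructor
    · have e4 : (l ≫ fst X Zo).left w = (toUnit Zo ≫ x).left w := by rw [lift_fst]
      exact e4.trans (congrArg x.left (Subsingleton.elim (α := Spec (CommRingCat.of k)) _ _))
    · have e5 : (l ≫ F).left w = (io ≫ trans x).left w := by rw [e2]
      exact congrArg f e5
  have := mem_constSet.1 (huniv.ge (Set.mem_univ (pt x))) _ _ (hl z').1 (hl w').1
  rw [(hl z').2, (hl w').2, hw', trans_apply, MonObj.one_eq_one, _root_.mul_one] at this
  exact this

include hf in
/-- Translation by `x` carries the component of the fibre through the unit onto that through `x`. -/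
theorem image_component (x : 𝟙_ (Over (Spec (CommRingCat.of k))) ⟶ X) :
    (trans x).left '' connectedComponentIn (f ⁻¹' {f (pt η[X])}) (pt η[X]) =
      connectedComponentIn (f ⁻¹' {f (pt x)}) (pt x) := by
  have hsub : ∀ (f : X.left ⟶ Y), f ≫ q = X.hom → ∀ (x : 𝟙_ (Over (Spec (CommRingCat.of k))) ⟶ X),
      (trans x).left '' connectedComponentIn (f ⁻¹' {f (pt η[X])}) (pt η[X]) ⊆
        connectedComponentIn (f ⁻¹' {f (pt x)}) (pt x) := by
    intro f hf x
    have hpe : pt η[X] ∈ f ⁻¹' {f (pt η[X])} := rfl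
    haveI : IsClosedImmersion (η[X].left ≫ f) :=
      isClosedImmersion_of_comp_eq_id (Y := Spec (CommRingCat.of k)) q _ (by
        rw [Category.assoc, hf]; exact Over.w η[X])
    have hcl : IsClosed ({f (pt η[X])} : Set Y) := by
      convert (η[X].left ≫ f).isClosedEmbedding.isClosed_range using 1
      ext y
      constructor
      · rintro rfl; exact ⟨IsLocalRing.closedPoint k, rfl⟩
      · rintro ⟨w, rfl⟩
        exact congrArg (η[X].left ≫ f) (Subsingleton.elim (α := Spec (CommRingCat.of k)) _ _)
    have hCc : IsClosed (connectedComponentIn (f ⁻¹' {f (pt η[X])}) (pt η[X])) := by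
      rw [connectedComponentIn_eq_image hpe]
      exact (hcl.preimage f.continuous).isClosedEmbedding_subtypeVal.isClosedMap _ isClosed_connectedComponent
    have key := apply_trans_eq q f hf _ hCc isPreconnected_connectedComponentIn
      (mem_connectedComponentIn hpe) (fun z hz => connectedComponentIn_subset (f ⁻¹' {f (pt η[X])}) (pt η[X]) hz) x
    refine (isPreconnected_connectedComponentIn.image _
      (trans x).left.continuous.continuousOn).subset_connectedComponentIn
      ⟨_, mem_connectedComponentIn hpe, ?_⟩ ?_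
    · rw [trans_apply, MonObj.one_eq_one, _root_.mul_one]
    · rintro _ ⟨z, hz, rfl⟩
      exact key z hz
  refine (hsub f hf x).antisymm ?_
  let f' := (trans x).left ≫ f
  have hf' : f' ≫ q = X.hom := by rw [Category.assoc, hf, Over.w (trans x)]
  have h2 := hsub f' hf' x⁻¹
  have hpre : ∀ y, f' ⁻¹' {y} = (transHomeo x) ⁻¹' (f ⁻¹' {y}) := fun y => rfl
  have hη : (trans x).left (pt η[X]) = pt x := by
    rw [trans_apply, MonObj.one_eq_one, _root_.mul_one]
  have hinv : (trans x).left (pt x⁻¹) = pt η[X] := by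
    rw [trans_apply, mul_inv_cancel, MonObj.one_eq_one]
  have hfe : f' (pt η[X]) = f (pt x) := congrArg f hη
  have hfi : f' (pt x⁻¹) = f (pt η[X]) := congrArg f hinv
  rw [hfe, hfi, hpre, hpre] at h2
  intro z hz
  have e1 := (transHomeo x).image_connectedComponentIn
    (s := (transHomeo x) ⁻¹' (f ⁻¹' {f (pt x)})) (x := pt η[X])
    (show f ((trans x).left (pt η[X])) = f (pt x) from congrArg f hη)
  have e2 := (transHomeo x).image_connectedComponentIn
    (s := (transHomeo x) ⁻¹' (f ⁻¹' {f (pt η[X])})) (x := pt x⁻¹)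
    (show f ((trans x).left (pt x⁻¹)) = f (pt η[X]) from congrArg f hinv)
  rw [Set.image_preimage_eq _ (transHomeo x).surjective,
    show (transHomeo x) (pt η[X]) = pt x from hη] at e1
  rw [Set.image_preimage_eq _ (transHomeo x).surjective,
    show (transHomeo x) (pt x⁻¹) = pt η[X] from hinv] at e2
  rw [← e1] at hz
  obtain ⟨w, hw, rfl⟩ := hz
  refine ⟨(trans x⁻¹).left w |> (transHomeo x), ?_, ?_⟩
  · rw [← e2]
    exact ⟨_, h2 ⟨w, hw, rfl⟩, rfl⟩
  · show (trans x).left ((transHomeo x) ((transHomeo x).symm w)) = (trans x).left w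
    rw [Homeomorph.apply_symm_apply]

end Groth.Agent.H2.Rigid.Translate
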